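import Groth.Agent.EtValLib.Decomposition
import Groth.Agent.Wt.ClosedPts
import Groth.Agent.LimLib.DVRGeneric
import Mathlib.FieldTheory.Normal.Closure
import Mathlib.FieldTheory.PurelyInseparable.Basic

/-!
# Algebraic lifts over valuation rings

Two extensions of a valuation ring to a finite normal extension of its fraction field are conjugate; hence a
point of an algebra with values in some extension of a valuation ring gives one with values in any given
extension to an algebraically closed field.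
-/

set_option autoImplicit false
set_option linter.style.haveILetI false

universe u

open Polynomial IsLocalRing

namespace Groth.Agent.HTopUltra

variable {A K N : Type*} [CommRing A] [IsDomain A] [ValuationRing A] [Field K] [Algebra A K]
  [IsFractionRing A K] [Field N] [Algebra K N] [Algebra A N] [IsScalarTower A K N]

theorem mem_of_isIntegral {W : ValuationSubring N} (hW : ∀ a : A, algebraMap A N a ∈ W) {o : N}
    (ho : IsIntegral A o) : o ∈ W :=
  (W.valuation_le_one_iff o).1
    (EtValLib.valuation_integral_le (fun a => (W.valuation_le_one_iff _).2 (hW a)) ho)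

/-- Two extensions of a valuation ring to a finite normal extension are conjugate, compatibly with the
maximal ideals. -/
theorem exists_algEquiv_le' [FiniteDimensional K N] [Normal K N] (W O : ValuationSubring N)
    (hW : ∀ a : A, algebraMap A N a ∈ W) (hO : ∀ a : A, algebraMap A N a ∈ O)
    (hWl : ∀ a : A, ¬ IsUnit a → W.valuation (algebraMap A N a) < 1)
    (hOl : ∀ a : A, ¬ IsUnit a → O.valuation (algebraMap A N a) < 1) :
    ∃ σ : N ≃ₐ[K] N, (∀ z ∈ W, σ z ∈ O) ∧ ∀ z, W.valuation z < 1 → O.valuation (σ z) < 1 := by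
  classical
  let R := integralClosure A N
  haveI : Algebra.IsIntegral A R := integralClosure.AlgebraIsIntegral
  let φ : ∀ S : ValuationSubring N, (∀ a : A, algebraMap A N a ∈ S) → R →+* S := fun S hS =>
    R.val.toRingHom.codRestrict S.toSubring fun o => mem_of_isIntegral hS o.2
  let act : (N ≃ₐ[K] N) → R →+* R := fun τ =>
    ((τ.toAlgHom.restrictScalars A).comp R.val).toRingHom.codRestrict R.toSubring fun o =>
      o.2.map (τ.toAlgHom.restrictScalars A)
  let P : Ideal R := (maximalIdeal W).comap (φ W hW)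
  let Q : (N ≃ₐ[K] N) → Ideal R := fun τ => (maximalIdeal O).comap ((φ O hO).comp (act τ))
  have hPmem : ∀ o : R, o ∈ P ↔ W.valuation (o : N) < 1 := fun o => W.valuation_lt_one_iff _
  have hQmem : ∀ τ (o : R), o ∈ Q τ ↔ O.valuation (τ (o : N)) < 1 := fun τ o => O.valuation_lt_one_iff _
  have hlow : ∀ (S : ValuationSubring N) (hS : ∀ a : A, algebraMap A N a ∈ S),
      (∀ a : A, ¬ IsUnit a → S.valuation (algebraMap A N a) < 1) →
      ∀ a : A, S.valuation (algebraMap A N a) < 1 ↔ ¬ IsUnit a := by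
    refine fun S hS hl a => ⟨fun h hu => ?_, hl a⟩
    obtain ⟨b, hb⟩ := isUnit_iff_exists_inv.1 hu
    have := congrArg (fun x => S.valuation (algebraMap A N x)) hb
    simp only [map_mul, map_one] at this
    exact (mul_lt_one_of_lt_of_le h ((S.valuation_le_one_iff _).2 (hS b))).ne this
  obtain ⟨σ, hσ⟩ : ∃ σ, P ≤ Q σ := by
    by_contra hne
    have : ¬ ((P : Set R) ⊆ ⋃ i ∈ (↑(Finset.univ : Finset (N ≃ₐ[K] N)) : Set _), (Q i : Set R)) := fun h => by
      obtain ⟨i, -, hi⟩ := (Ideal.subset_union_prime AlgEquiv.refl AlgEquiv.refl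
        fun i _ _ _ => inferInstanceAs ((maximalIdeal O).comap _).IsPrime).1 h
      exact hne ⟨i, hi⟩
    obtain ⟨x, hxP, hxQ⟩ := Set.not_subset.1 this
    simp only [Set.mem_iUnion, not_exists] at hxQ
    have hxQ' : ∀ τ : N ≃ₐ[K] N, ¬ O.valuation (τ (x : N)) < 1 := fun τ h =>
      hxQ τ (Finset.mem_coe.2 (Finset.mem_univ τ)) ((hQmem τ x).2 h)
    let y : N := ∏ τ : N ≃ₐ[K] N, τ (x : N)
    have hy : IsIntegral A y := IsIntegral.prod _ fun τ _ => x.2.map (τ.toAlgHom.restrictScalars A)
    have hfix : ∀ τ : N ≃ₐ[K] N, τ y = y := fun τ => by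
      rw [map_prod]
      exact Fintype.prod_equiv (Equiv.mulLeft τ) _ _ fun _ => rfl
    obtain ⟨q, hq⟩ : ∃ q, ExpChar K q := ExpChar.exists _
    obtain ⟨n, c, hc⟩ : ∃ n : ℕ, y ^ q ^ n ∈ (algebraMap K N).range := by
      refine (minpoly.natSepDegree_eq_one_iff_pow_mem q).1 ?_
      rw [Polynomial.natSepDegree_eq_of_splits _ (Normal.splits ‹_› y)]
      rw [Finset.card_eq_one]
      refine ⟨y, Finset.ext fun z => ?_⟩
      simp only [Multiset.mem_toFinset, Finset.mem_singleton, mem_aroots]
      refine ⟨fun hz => ?_, fun hz => ⟨minpoly.ne_zero (IsIntegral.of_finite K y), hz ▸ minpoly.aeval K y⟩⟩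
      have he : minpoly K z = minpoly K y := (minpoly.eq_of_irreducible_of_monic
        (minpoly.irreducible (IsIntegral.of_finite K y)) hz.2 (minpoly.monic (IsIntegral.of_finite K y))).symm
      obtain ⟨g, hg⟩ := (Normal.minpoly_eq_iff_mem_orbit (F := K) (E := N)).1 he
      exact hg.symm.trans (hfix g)
    obtain ⟨a, rfl⟩ := (IsIntegrallyClosed.isIntegral_iff (R := A) (K := K)).1
      ((isIntegral_algebraMap_iff (algebraMap K N).injective).1 (by rw [hc]; exact hy.pow _))
    rw [← IsScalarTower.algebraMap_apply] at hc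
    have hyW : W.valuation y < 1 := by
      show W.valuation (∏ τ : N ≃ₐ[K] N, τ (x : N)) < 1
      rw [← Finset.mul_prod_erase Finset.univ _ (Finset.mem_univ (1 : N ≃ₐ[K] N)), map_mul]
      exact mul_lt_one_of_lt_of_le ((hPmem x).1 hxP) ((W.valuation_le_one_iff _).2
        (mem_of_isIntegral hW (IsIntegral.prod _ fun τ _ => x.2.map (τ.toAlgHom.restrictScalars A))))
    have hqn : q ^ n ≠ 0 := pow_ne_zero _ (expChar_pos K q).ne'
    have hau : ¬ IsUnit a := (hlow W hW hWl a).1 (by rw [hc, map_pow]; exact pow_lt_one' hyW hqn)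
    have hyO : O.valuation (y ^ q ^ n) < 1 := hc ▸ hOl a hau
    have hy1 : O.valuation y = 1 := by
      show O.valuation (∏ τ : N ≃ₐ[K] N, τ (x : N)) = 1
      rw [map_prod]
      refine Finset.prod_eq_one fun τ _ => le_antisymm ?_ (not_lt.1 (hxQ' τ))
      exact (O.valuation_le_one_iff _).2 (mem_of_isIntegral hO (x.2.map (τ.toAlgHom.restrictScalars A)))
    rw [map_pow, hy1, one_pow] at hyO
    exact lt_irrefl _ hyO
  have hPQ : P = Q σ := by
    refine le_antisymm hσ fun x hxQ => ?_
    by_contra hxP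
    have hlt := Ideal.comap_lt_comap_of_integral_mem_sdiff (R := A) (I := P) hσ ⟨hxQ, hxP⟩
      (Algebra.IsIntegral.isIntegral x)
    obtain ⟨a, ha, ha'⟩ := SetLike.exists_of_lt hlt
    rw [Ideal.mem_comap, hPmem] at ha'
    rw [Ideal.mem_comap, hQmem] at ha
    refine ha' (hWl a ((hlow O hO hOl a).1 ?_))
    have e : σ (algebraMap A N a) = algebraMap A N a := by
      rw [IsScalarTower.algebraMap_apply A K N, AlgEquiv.commutes]
    rwa [show ((algebraMap A R a : R) : N) = algebraMap A N a from rfl, e] at ha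
  have key : ∀ z, W.valuation z ≤ 1 → ∃ a : R, O.valuation (σ z) = O.valuation (σ (a : N)) ∧
      W.valuation z = W.valuation (a : N) := fun z hz => by
    obtain ⟨a, b, ha, hb, hb1, hab⟩ := EtValLib.exists_fraction (K := K)
      (fun a => (W.valuation_le_one_iff _).2 (hW a)) hz
    have hbO : O.valuation (σ b) = 1 := by
      refine le_antisymm ((O.valuation_le_one_iff _).2 (mem_of_isIntegral hO (hb.map (σ.toAlgHom.restrictScalars A))))
        (not_lt.1 fun h => ?_)
      have : (⟨b, hb⟩ : R) ∈ P := hPQ ▸ (hQmem σ ⟨b, hb⟩).2 h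
      exact absurd ((hPmem _).1 this) (by rw [hb1]; exact lt_irrefl _)
    exact ⟨⟨a, ha⟩,
      calc O.valuation (σ z) = O.valuation (σ z) * O.valuation (σ b) := by rw [hbO, mul_one]
        _ = O.valuation (σ a) := by rw [← map_mul, ← map_mul, hab],
      calc W.valuation z = W.valuation z * W.valuation b := by rw [hb1, mul_one]
        _ = W.valuation a := by rw [← map_mul, hab]⟩
  refine ⟨σ, fun z hz => (O.valuation_le_one_iff _).1 ?_, fun z hz => ?_⟩
  · obtain ⟨a, ha, -⟩ := key z ((W.valuation_le_one_iff z).2 hz)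
    exact ha.trans_le ((O.valuation_le_one_iff _).2
      (mem_of_isIntegral hO (a.2.map (σ.toAlgHom.restrictScalars A))))
  · obtain ⟨a, ha, ha'⟩ := key z hz.le
    rw [ha]
    exact (hQmem σ a).1 (hPQ ▸ (hPmem a).2 (ha' ▸ hz))

/-- Two extensions of a valuation ring to a finite normal extension are conjugate. -/
theorem exists_algEquiv_le [FiniteDimensional K N] [Normal K N] (W O : ValuationSubring N)
    (hW : ∀ a : A, algebraMap A N a ∈ W) (hO : ∀ a : A, algebraMap A N a ∈ O)
    (hWl : ∀ a : A, ¬ IsUnit a → W.valuation (algebraMap A N a) < 1)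
    (hOl : ∀ a : A, ¬ IsUnit a → O.valuation (algebraMap A N a) < 1) :
    ∃ σ : N ≃ₐ[K] N, ∀ z ∈ W, σ z ∈ O := by
  obtain ⟨σ, h, -⟩ := exists_algEquiv_le' (A := A) (K := K) W O hW hO hWl hOl
  exact ⟨σ, h⟩

/-- A point with values in an extension of a valuation ring `A` gives a point with values in any extension
of `A` to an algebraically closed field, keeping the reductions which are defined over `A`. -/
theorem exists_ringHom_into' {A : Type u} [CommRing A] [IsDomain A] [ValuationRing A] {Ω : Type u} [Field Ω]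
    [IsAlgClosed Ω] (κ : A →+* Ω) (hκ : Function.Injective κ) (O : ValuationSubring Ω)
    (hAO : ∀ a, κ a ∈ O) (hOl : ∀ a, ¬ IsUnit a → O.valuation (κ a) < 1)
    {R B W : Type u} [CommRing R] [CommRing B] [CommRing W] [IsDomain W] [ValuationRing W]
    (η : R →+* A) (τ : R →+* B) (hτ : τ.FiniteType) (φ : A →+* W) (hφ : Function.Injective φ)
    [IsLocalHom φ] (ψ : B →+* W) (h : ψ.comp τ = φ.comp η) :
    ∃ θ : B →+* Ω, (∀ b, θ b ∈ O) ∧ θ.comp τ = κ.comp η ∧
      ∀ b a, ¬ IsUnit (ψ b - φ a) → O.valuation (θ b - κ a) < 1 := by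
  classical
  letI := τ.toAlgebra
  obtain ⟨s, hs⟩ := (hτ : Algebra.FiniteType R B).out
  letI := φ.toAlgebra
  letI := κ.toAlgebra
  let C := Algebra.adjoin A ((s.image ψ : Finset W) : Set W)
  haveI : Algebra.FiniteType A C := (Subalgebra.fg_iff_finiteType _).1 ⟨_, rfl⟩
  have hψC : ∀ b, ψ b ∈ C := fun b => by
    have hb : b ∈ Algebra.adjoin R (s : Set B) := hs.ge Algebra.mem_top
    induction hb using Algebra.adjoin_induction with
    | mem z hz => exact Algebra.subset_adjoin (Finset.mem_coe.2 (Finset.mem_image_of_mem _ hz))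
    | algebraMap r =>
      rw [show ψ (algebraMap R B r) = algebraMap A W (η r) from RingHom.congr_fun h r]
      exact C.algebraMap_mem _
    | add p q _ _ hp hq => rw [map_add]; exact C.add_mem hp hq
    | mul p q _ _ hp hq => rw [map_mul]; exact C.mul_mem hp hq
  haveI : FaithfulSMul A C := (faithfulSMul_iff_algebraMap_injective _ _).2 fun a b e =>
    hφ (congrArg Subtype.val e)
  -- a closed point of the special fibre
  let m₀ : Ideal C := (maximalIdeal W).comap C.val.toRingHom
  haveI : m₀.IsPrime := Ideal.comap_isPrime _ _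
  obtain ⟨m, hm, hm₀⟩ := Ideal.exists_le_maximal m₀ (Ideal.IsPrime.ne_top ‹_›)
  have hmA : m.comap (algebraMap A C) = maximalIdeal A := by
    refine le_antisymm (le_maximalIdeal (Ideal.comap_ne_top _ hm.ne_top)) fun a ha => hm₀ ?_
    exact map_nonunit φ a ha
  haveI : m.LiesOver (maximalIdeal A) := ⟨hmA.symm⟩
  have halgm : ∀ b : C, ∃ P : A[X], (∃ i, algebraMap A C (P.coeff i) ∉ m) ∧ aeval b P ∈ m := by
    letI : Field (A ⧸ maximalIdeal A) := Ideal.Quotient.field _
    letI : Field (C ⧸ m) := Ideal.Quotient.field _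
    haveI : Algebra.FiniteType (A ⧸ maximalIdeal A) (C ⧸ m) :=
      haveI : Algebra.FiniteType A (C ⧸ m) :=
        .of_surjective (Ideal.Quotient.mkₐ A m) (Ideal.Quotient.mkₐ_surjective A m)
      Algebra.FiniteType.of_restrictScalars_finiteType A _ _
    haveI : Module.Finite (A ⧸ maximalIdeal A) (C ⧸ m) :=
      finite_of_finite_type_of_isJacobsonRing (A ⧸ maximalIdeal A) (C ⧸ m)
    intro b
    obtain ⟨p, hp, hpb⟩ := IsIntegral.of_finite (A ⧸ maximalIdeal A) (Ideal.Quotient.mk m b)
    obtain ⟨P, hP, -, hPm⟩ := Polynomial.lifts_and_degree_eq_and_monic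
      ((Polynomial.lifts_iff_coeff_lifts _).2 fun i => Ideal.Quotient.mk_surjective _) hp
    refine ⟨P, ⟨P.natDegree, fun hmem => ?_⟩, ?_⟩
    · rw [hPm.coeff_natDegree, map_one] at hmem
      exact hm.ne_top ((Ideal.eq_top_iff_one _).2 hmem)
    · rw [← Ideal.Quotient.eq_zero_iff_mem, aeval_def, Polynomial.hom_eval₂]
      rw [← hP, Polynomial.eval₂_map] at hpb
      rw [show (Ideal.Quotient.mk m).comp (algebraMap A C) =
        (algebraMap (A ⧸ maximalIdeal A) (C ⧸ m)).comp (Ideal.Quotient.mk _) from RingHom.ext fun a => rfl]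
      exact hpb
  -- a closed point of the generic fibre specializing to it
  obtain ⟨Q, hQ, hQm, hQA, hQalg⟩ : ∃ Q : Ideal C, Q.IsPrime ∧ Q ≤ m ∧ Q.comap (algebraMap A C) = ⊥ ∧
      ∀ b : C, ∃ P : A[X], P ≠ 0 ∧ aeval b P ∈ Q := by
    by_cases hA : maximalIdeal A = ⊥
    · refine ⟨m, hm.isPrime, le_rfl, hmA.trans hA, fun b => ?_⟩
      obtain ⟨P, ⟨i, hi⟩, hP⟩ := halgm b
      exact ⟨P, fun h0 => hi (by rw [h0, coeff_zero, map_zero]; exact m.zero_mem), hP⟩
    · have hfin : Algebra.trdeg A C < Cardinal.aleph0 := trdeg_lt_aleph0_of_finiteType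
      obtain ⟨n, hn⟩ := Cardinal.lt_aleph0.1 hfin
      obtain ⟨Q, h₁, h₂, h₃, -, h₄⟩ := Wt.ClosedPts.exists_prime_aux n A C hn m 1 one_ne_zero
        (by rw [hmA]; exact hA) halgm
      exact ⟨Q, h₁, h₂, h₃, h₄⟩
  let D := C ⧸ Q
  haveI : IsDomain D := Ideal.Quotient.isDomain Q
  haveI : FaithfulSMul A D := (faithfulSMul_iff_algebraMap_injective A D).2 <|
    (injective_iff_map_eq_zero _).2 fun a ha => by
      have ha' : Ideal.Quotient.mk Q (algebraMap A C a) = 0 := ha
      have : algebraMap A C a ∈ Q := Ideal.Quotient.eq_zero_iff_mem.1 ha'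
      rw [← Ideal.mem_comap, hQA] at this
      exact this
  haveI : Algebra.IsAlgebraic A D := ⟨fun d => by
    obtain ⟨d, rfl⟩ := Ideal.Quotient.mk_surjective d
    obtain ⟨P, hP, hPd⟩ := hQalg d
    exact ⟨P, hP, (aeval_algHom_apply (Ideal.Quotient.mkₐ A Q) d P).trans
      (Ideal.Quotient.eq_zero_iff_mem.2 hPd)⟩⟩
  haveI : FaithfulSMul A Ω := (faithfulSMul_iff_algebraMap_injective _ _).2 hκ
  let j₀ : D →ₐ[A] Ω := IsAlgClosed.lift
  let K := FractionRing A
  letI : Algebra K Ω := FractionRing.liftAlgebra A Ω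
  haveI : IsScalarTower A K Ω := FractionRing.isScalarTower_liftAlgebra A Ω
  obtain ⟨t, ht⟩ := (Algebra.FiniteType.of_surjective (Ideal.Quotient.mkₐ A Q)
    (Ideal.Quotient.mkₐ_surjective A Q) : Algebra.FiniteType A D).out
  have halgΩ : ∀ d : D, IsIntegral K (j₀ d) := fun d => by
    have : IsAlgebraic A (j₀ d) := (Algebra.IsAlgebraic.isAlgebraic d).algHom j₀
    exact (this.extendScalars (IsFractionRing.injective A K)).isIntegral
  let P₀ : K[X] := ∏ z ∈ t.image j₀, minpoly K z
  let N := IntermediateField.adjoin K (P₀.rootSet Ω)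
  haveI : Polynomial.IsSplittingField K N P₀ :=
    IntermediateField.adjoin_rootSet_isSplittingField (IsAlgClosed.splits _)
  haveI : Normal K N := Normal.of_isSplittingField P₀
  haveI : FiniteDimensional K N := Polynomial.IsSplittingField.finiteDimensional N P₀
  have hP₀ : P₀ ≠ 0 := Finset.prod_ne_zero_iff.2 fun z hz => by
    obtain ⟨d, -, rfl⟩ := Finset.mem_image.1 hz
    exact minpoly.ne_zero (halgΩ d)
  have hDN : ∀ d : D, j₀ d ∈ N := fun d => by
    have hd : d ∈ Algebra.adjoin A (t : Set D) := ht.ge Algebra.mem_top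
    induction hd using Algebra.adjoin_induction with
    | mem z hz =>
      refine IntermediateField.subset_adjoin K _ (Polynomial.mem_rootSet.2 ⟨hP₀, ?_⟩)
      rw [map_prod]
      exact Finset.prod_eq_zero (Finset.mem_image_of_mem j₀ hz) (minpoly.aeval _ _)
    | algebraMap a =>
      rw [AlgHom.commutes, IsScalarTower.algebraMap_apply A K Ω]
      exact N.algebraMap_mem _
    | add p q _ _ hp hq => rw [map_add]; exact N.add_mem hp hq
    | mul p q _ _ hp hq => rw [map_mul]; exact N.mul_mem hp hq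
  let j : D →+* N := j₀.toRingHom.codRestrict N.toSubfield.toSubring hDN
  have hj : ∀ a, j (algebraMap A D a) = algebraMap A N a := fun a => Subtype.ext (j₀.commutes a)
  have hjinj : Function.Injective j := by
    refine (injective_iff_map_eq_zero _).2 fun d hd => ?_
    by_contra hd0
    obtain ⟨a, ha0, had⟩ := IsAlgebraic.exists_nonzero_dvd (Algebra.IsAlgebraic.isAlgebraic (R := A) d)
      (mem_nonZeroDivisors_of_ne_zero hd0)
    have := map_dvd j had
    rw [hd, zero_dvd_iff, hj, IsScalarTower.algebraMap_apply A K N,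
      map_eq_zero_iff _ (algebraMap K N).injective, map_eq_zero_iff _ (IsFractionRing.injective A K)] at this
    exact ha0 this
  let mD : Ideal D := m.map (Ideal.Quotient.mk Q)
  haveI := hm.isPrime
  haveI : mD.IsPrime := Ideal.map_isPrime_of_surjective Ideal.Quotient.mk_surjective (by rwa [Ideal.mk_ker])
  obtain ⟨WN, hWN, hWloc⟩ := IsLocalRing.exists_factor_valuationRing (R := Localization.AtPrime mD) (K := N)
    (IsLocalization.lift (M := mD.primeCompl) (S := Localization.AtPrime mD) (g := j)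
      fun s => IsUnit.mk0 _ ((map_ne_zero_iff _ hjinj).2 fun h => s.2 (show (s : D) ∈ mD from h ▸ mD.zero_mem)))
  have hjW : ∀ d, j d ∈ WN := fun d => by
    have := hWN (algebraMap D _ d)
    rwa [IsLocalization.lift_eq] at this
  have hjWm : ∀ d ∈ mD, WN.valuation (j d) < 1 := fun d hd => by
    refine (WN.valuation_lt_one_iff ⟨j d, hjW d⟩).1 ?_
    have h1 := hWloc.map_nonunit (algebraMap D (Localization.AtPrime mD) d)
    rw [IsLocalRing.mem_maximalIdeal, mem_nonunits_iff]
    intro hu
    refine (IsLocalization.AtPrime.to_map_mem_maximal_iff (Localization.AtPrime mD) mD d).2 hd (h1 ?_)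
    have hu' : IsUnit (⟨j d, hjW d⟩ : WN.toSubring) := hu
    convert hu' using 1
    refine Subtype.ext ?_
    exact IsLocalization.lift_eq (g := j) _ d
  let ON : ValuationSubring N := O.comap (algebraMap N Ω)
  have hAON : ∀ a, algebraMap A N a ∈ ON := fun a => hAO a
  have hOlN : ∀ a, ¬ IsUnit a → ON.valuation (algebraMap A N a) < 1 := fun a ha => by
    rw [← ON.valuation_lt_one_iff ⟨_, hAON a⟩, IsLocalRing.mem_maximalIdeal, mem_nonunits_iff]
    intro hu
    have := hu.map ((algebraMap N Ω).comp ON.subtype |>.codRestrict O.toSubring fun z => z.2)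
    exact (O.valuation_lt_one_iff ⟨κ a, hAO a⟩).2 (hOl a ha) this
  obtain ⟨σ, hσ, hσ'⟩ := exists_algEquiv_le' (A := A) (K := K) WN ON
    (fun a => hj a ▸ hjW _) hAON (fun a ha => by
      rw [← hj]
      refine hjWm _ (Ideal.mem_map_of_mem _ ?_)
      show a ∈ m.comap (algebraMap A C)
      rw [hmA]
      exact ha) hOlN
  let θ : B →+* Ω := (algebraMap N Ω).comp ((σ : N →+* N).comp (j.comp
    ((Ideal.Quotient.mk Q).comp (ψ.codRestrict C.toSubring hψC))))
  refine ⟨θ, fun b => hσ _ (hjW _), RingHom.ext fun r => ?_, fun b a hba => ?_⟩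
  case' refine_2 =>
    let y : C := ⟨ψ b, hψC b⟩ - algebraMap A C a
    have hy : y ∈ m₀ := hba
    have h1 : ON.valuation (σ (j (Ideal.Quotient.mk Q y))) < 1 :=
      hσ' _ (hjWm _ (Ideal.mem_map_of_mem _ (hm₀ hy)))
    have e : algebraMap N Ω (σ (j (Ideal.Quotient.mk Q y))) = θ b - κ a := by
      rw [map_sub (Ideal.Quotient.mk Q), map_sub, map_sub, map_sub, ← Ideal.Quotient.algebraMap_eq,
        ← IsScalarTower.algebraMap_apply A C D, hj, IsScalarTower.algebraMap_apply A K N,
        AlgEquiv.commutes, ← IsScalarTower.algebraMap_apply K N Ω, ← IsScalarTower.algebraMap_apply A K Ω]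
      rfl
    rw [← e]
    refine (O.valuation_lt_one_iff ⟨_, hσ _ (hjW _)⟩).1 ?_
    rw [IsLocalRing.mem_maximalIdeal, mem_nonunits_iff]
    intro hu
    refine (not_lt.2 ?_) h1
    obtain ⟨⟨w, hw⟩, hzw⟩ := isUnit_iff_exists_inv.1 hu
    have hz : algebraMap N Ω (σ (j (Ideal.Quotient.mk Q y))) * w = 1 := congrArg Subtype.val hzw
    have hz0 : σ (j (Ideal.Quotient.mk Q y)) ≠ 0 := fun h0 => by
      rw [h0, map_zero, zero_mul] at hz; exact zero_ne_one hz
    have hw' : (σ (j (Ideal.Quotient.mk Q y)))⁻¹ ∈ ON := by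
      show algebraMap N Ω _ ∈ O
      rw [map_inv₀, inv_eq_of_mul_eq_one_right hz]
      exact hw
    have := (ON.valuation_le_one_iff _).2 hw'
    rwa [map_inv₀, inv_le_one₀ (ON.valuation.pos_iff.2 hz0)] at this
  have e : ψ.codRestrict C.toSubring hψC (τ r) = algebraMap A C (η r) :=
    Subtype.ext (RingHom.congr_fun h r)
  show algebraMap N Ω (σ (j (Ideal.Quotient.mk Q (ψ.codRestrict C.toSubring hψC (τ r))))) = κ (η r)
  rw [e, ← Ideal.Quotient.algebraMap_eq, ← IsScalarTower.algebraMap_apply A C D, hj,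
    IsScalarTower.algebraMap_apply A K N, AlgEquiv.commutes, ← IsScalarTower.algebraMap_apply K N Ω,
    ← IsScalarTower.algebraMap_apply A K Ω]
  rfl

/-- A point with values in an extension of a valuation ring `A` gives a point with values in any extension
of `A` to an algebraically closed field. -/
theorem exists_ringHom_into {A : Type u} [CommRing A] [IsDomain A] [ValuationRing A] {Ω : Type u} [Field Ω]
    [IsAlgClosed Ω] (κ : A →+* Ω) (hκ : Function.Injective κ) (O : ValuationSubring Ω)
    (hAO : ∀ a, κ a ∈ O) (hOl : ∀ a, ¬ IsUnit a → O.valuation (κ a) < 1)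
    {R B W : Type u} [CommRing R] [CommRing B] [CommRing W] [IsDomain W] [ValuationRing W]
    (η : R →+* A) (τ : R →+* B) (hτ : τ.FiniteType) (φ : A →+* W) (hφ : Function.Injective φ)
    [IsLocalHom φ] (ψ : B →+* W) (h : ψ.comp τ = φ.comp η) :
    ∃ θ : B →+* Ω, (∀ b, θ b ∈ O) ∧ θ.comp τ = κ.comp η := by
  obtain ⟨θ, h₁, h₂, -⟩ := exists_ringHom_into' κ hκ O hAO hOl η τ hτ φ hφ ψ h
  exact ⟨θ, h₁, h₂⟩

end Groth.Agent.HTopUltra
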