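import Groth.Agent.HTopUltra.Model
import Groth.Agent.HTopUltra.Lift
import Groth.Agent.HTopLib.Square
import Mathlib.AlgebraicGeometry.Noetherian
import Mathlib.RingTheory.Ideal.MinimalPrime.Noetherian

/-!
# Over a Noetherian ring a finite type algebra with valuative lifting is refined by a proper surjection
-/

set_option autoImplicit false
set_option linter.style.haveILetI false

universe w u

open CategoryTheory CategoryTheory.Limits AlgebraicGeometry TopologicalSpace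

namespace Groth.Agent.HTopUltra

/-- A morphism to the base lifts locally, on affine opens, along another one. -/
def LocallyLifts {T X P : Scheme.{u}} (f : T ⟶ X) (π : P ⟶ X) : Prop :=
  ∀ y : P, ∃ U : P.Opens, y ∈ U ∧ IsAffineOpen U ∧ ∃ h : (U : Scheme.{u}) ⟶ T, h ≫ f = U.ι ≫ π

theorem LocallyLifts.of_isOpenImmersion {T X P Q : Scheme.{u}} {f : T ⟶ X} {π : P ⟶ X}
    (h : LocallyLifts f π) (j : P ⟶ Q) [IsOpenImmersion j] (ρ : Q ⟶ X) (hj : j ≫ ρ = π) (y : P) :
    ∃ U : Q.Opens, j y ∈ U ∧ IsAffineOpen U ∧ ∃ l : (U : Scheme.{u}) ⟶ T, l ≫ f = U.ι ≫ ρ := by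
  obtain ⟨U, hy, hU, l, hl⟩ := h y
  refine ⟨j ''ᵁ U, ⟨y, hy, rfl⟩, hU.image_of_isOpenImmersion j, (j.isoImage U).inv ≫ l, ?_⟩
  rw [Category.assoc, hl, ← hj, ← Category.assoc U.ι, ← Scheme.Hom.isoImage_hom_ι, Category.assoc,
    Iso.inv_hom_id_assoc]

theorem exists_proper_over_prime {R B : Type u} [CommRing R] [CommRing B] (τ : R →+* B)
    (hτ : τ.FiniteType)
    (hf : HTop.HasValLift (PreZeroHypercover.singleton.{w} (Spec.map (CommRingCat.ofHom τ))))
    (𝔭 : Ideal R) [𝔭.IsPrime] :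
    ∃ (P : Scheme.{u}) (π : P ⟶ Spec (CommRingCat.of R)), IsProper π ∧
      PrimeSpectrum.zeroLocus (𝔭 : Set R) ⊆ Set.range π ∧
      LocallyLifts (Spec.map (CommRingCat.ofHom τ)) π := by
  classical
  let L := AlgebraicClosure (FractionRing (R ⧸ 𝔭))
  let ρ : R →+* L := ((algebraMap (FractionRing (R ⧸ 𝔭)) L).comp (algebraMap (R ⧸ 𝔭) _)).comp
    (Ideal.Quotient.mk 𝔭)
  have hρ : RingHom.ker ρ = 𝔭 := by
    rw [RingHom.ker_comp_of_injective]
    · exact Ideal.mk_ker
    · exact (algebraMap (FractionRing (R ⧸ 𝔭)) L).injective.comp (IsFractionRing.injective (R ⧸ 𝔭) _)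
  letI := τ.toAlgebra
  obtain ⟨sB, hsB⟩ := (hτ : Algebra.FiniteType R B).out
  let κ := {θ : B →+* L // θ.comp τ = ρ}
  have hgen : ∀ (O : ValuationSubring L) (θ : κ), (∀ r, ρ r ∈ O) → (∀ b ∈ sB, θ.1 b ∈ O) → ∀ b, θ.1 b ∈ O := by
    intro O θ hO hs b
    have hb : b ∈ Algebra.adjoin R (sB : Set B) := hsB.ge Algebra.mem_top
    induction hb using Algebra.adjoin_induction with
    | mem b hb => exact hs b hb
    | algebraMap r => exact (RingHom.congr_fun θ.2 r).symm ▸ hO r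
    | add a b _ _ ha hb => rw [map_add]; exact add_mem ha hb
    | mul a b _ _ ha hb => rw [map_mul]; exact mul_mem ha hb
  obtain ⟨K, hK⟩ := exists_finset_valuationSubring (Set.range ρ)
    (fun θ : κ => sB.image θ.1) fun O hO => by
      let η : R →+* O := ρ.codRestrict O.toSubring fun r => hO ⟨r, rfl⟩
      obtain ⟨W, _, _, φ, hφ, _j, g, hg⟩ := hf (CommRingCat.of O) (Spec.map (CommRingCat.ofHom η))
      haveI := hφ.2
      let g₁ : Spec W ⟶ Spec (CommRingCat.of B) := g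
      have hg₁ : g₁ ≫ Spec.map (CommRingCat.ofHom τ) = Spec.map φ ≫ Spec.map (CommRingCat.ofHom η) := hg
      obtain ⟨θ, hθO, hθ⟩ := exists_ringHom_into (Ω := L) O.subtype Subtype.val_injective O (fun a => a.2)
        (fun a ha => (O.valuation_lt_one_iff a).1 ha) η τ hτ φ.hom hφ.1 (Spec.preimage g₁).hom (by
          rw [← Spec.map_preimage g₁, ← Spec.map_comp, ← Spec.map_comp] at hg₁
          exact CommRingCat.hom_ext_iff.1 (Spec.map_injective hg₁))
      refine ⟨⟨θ, hθ⟩, fun z hz => ?_⟩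
      obtain ⟨b, -, rfl⟩ := Finset.mem_image.1 (Finset.mem_coe.1 hz)
      exact hθO b
  obtain ⟨P, π, pL, hπ, hpL, hcov⟩ := exists_proper_model τ hτ ρ
    (fun k => (K.equivFin.symm k).1.1) (fun k => (K.equivFin.symm k).1.2) fun O hO => by
      obtain ⟨θ, hθK, hθ⟩ := hK O (by rintro _ ⟨r, rfl⟩; exact hO r)
      refine ⟨K.equivFin ⟨θ, hθK⟩, ?_⟩
      rw [Equiv.symm_apply_apply]
      exact hgen O θ hO fun b hb => hθ (Finset.mem_coe.2 (Finset.mem_image_of_mem _ hb))
  refine ⟨P, π, hπ, fun x hx => ?_, hcov⟩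
  let pt : Spec (CommRingCat.of L) := (⊥ : PrimeSpectrum L)
  let ξ : PrimeSpectrum R := Spec.map (CommRingCat.ofHom ρ) pt
  have hξ : ξ ∈ Set.range π := ⟨pL pt, by rw [← Scheme.Hom.comp_apply, hpL]⟩
  have hsp : ξ ⤳ x := by
    refine (PrimeSpectrum.le_iff_specializes _ _).1 ?_
    show (Ideal.comap ρ ⊥) ≤ _
    rw [show Ideal.comap ρ ⊥ = RingHom.ker ρ from rfl, hρ]
    exact (PrimeSpectrum.mem_zeroLocus _ _).1 hx
  exact hsp.mem_closed π.isClosedMap.isClosed_range hξ

/-- Over a Noetherian ring, valuative lifting gives a proper surjection with local sections. -/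
theorem exists_proper_surjective_noetherian {R B : Type u} [CommRing R] [IsNoetherianRing R] [CommRing B]
    (τ : R →+* B) (hτ : τ.FiniteType)
    (hf : HTop.HasValLift (PreZeroHypercover.singleton.{w} (Spec.map (CommRingCat.ofHom τ)))) :
    ∃ (P : Scheme.{u}) (π : P ⟶ Spec (CommRingCat.of R)), IsProper π ∧ Surjective π ∧
      LocallyOfFinitePresentation π ∧ LocallyLifts (Spec.map (CommRingCat.ofHom τ)) π := by
  classical
  have key : ∀ s : Finset (PrimeSpectrum R), ∃ (P : Scheme.{u}) (π : P ⟶ Spec (CommRingCat.of R)),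
      IsProper π ∧ (∀ p ∈ s, PrimeSpectrum.zeroLocus (p.asIdeal : Set R) ⊆ Set.range π) ∧
      LocallyLifts (Spec.map (CommRingCat.ofHom τ)) π := by
    intro s
    induction s using Finset.induction_on with
    | empty => exact ⟨∅, Scheme.emptyTo _, inferInstance, by simp, fun y => IsEmpty.elim inferInstance y⟩
    | insert p s hp ih =>
      obtain ⟨P, π, hπ, hs, hl⟩ := ih
      obtain ⟨Q, ρ, hρ, hps, hlρ⟩ := exists_proper_over_prime τ hτ hf p.asIdeal
      refine ⟨Q ⨿ P, coprod.desc ρ π, HTopLib.isProper_coprodDesc ρ π, fun p' hp' x hx => ?_, fun y => ?_⟩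
      · rcases Finset.mem_insert.1 hp' with rfl | hp'
        · obtain ⟨z, rfl⟩ := hps hx
          exact ⟨(coprod.inl : Q ⟶ Q ⨿ P) z, by rw [← Scheme.Hom.comp_apply, coprod.inl_desc]⟩
        · obtain ⟨z, rfl⟩ := hs p' hp' hx
          exact ⟨(coprod.inr : P ⟶ Q ⨿ P) z, by rw [← Scheme.Hom.comp_apply, coprod.inr_desc]⟩
      · obtain ⟨(z | z), rfl⟩ := (coprodMk Q P).surjective y
        · rw [coprodMk_inl]
          exact hlρ.of_isOpenImmersion coprod.inl _ (coprod.inl_desc _ _) z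
        · rw [coprodMk_inr]
          exact hl.of_isOpenImmersion coprod.inr _ (coprod.inr_desc _ _) z
  have hfin : {p : PrimeSpectrum R | p.asIdeal ∈ minimalPrimes R}.Finite :=
    (minimalPrimes.finite_of_isNoetherianRing R).preimage fun a _ b _ h => PrimeSpectrum.ext h
  obtain ⟨P, π, hπ, hs, hl⟩ := key hfin.toFinset
  refine ⟨P, π, hπ, ⟨fun (x : PrimeSpectrum R) => ?_⟩, inferInstance, hl⟩
  obtain ⟨q, hq, hqx⟩ := Ideal.exists_minimalPrimes_le (J := x.asIdeal) (bot_le (a := x.asIdeal))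
  exact hs ⟨q, hq.1.1⟩ (hfin.mem_toFinset.2 hq) ((PrimeSpectrum.mem_zeroLocus _ _).2 hqx)

end Groth.Agent.HTopUltra
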