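import Groth.Agent.HTopUltra.Descent
import Groth.Agent.HTopUltra.Noeth
import Groth.Agent.LimLib.DomainHom
import Mathlib.RingTheory.Polynomial.Basic

/-!
# A finitely presented V covering of an affine scheme is refined by a proper surjection
-/

set_option autoImplicit false
set_option linter.style.haveILetI false

universe w u

open CategoryTheory CategoryTheory.Limits AlgebraicGeometry TopologicalSpace Groth.Agent.LimLib

namespace Groth.Agent.HTopUltra

/-- An affine scheme is a cofiltered limit of Noetherian affine schemes. -/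
theorem exists_noetherian_system (X : Scheme.{u}) [IsAffine X] :
    ∃ (I : Type u) (_ : SmallCategory I) (_ : IsCofiltered I) (D : I ⥤ Scheme.{u})
      (π : (Functor.const I).obj X ⟶ D), Nonempty (IsLimit (Cone.mk X π)) ∧
        (∀ i, IsAffine (D.obj i)) ∧ ∀ i, IsNoetherianRing Γ(D.obj i, ⊤) := by
  classical
  letI : Algebra (ULift.{u} ℤ) Γ(X, ⊤) :=
    ((Int.castRingHom Γ(X, ⊤)).comp ULift.ringEquiv.toRingHom).toAlgebra
  let S : Finset Γ(X, ⊤) →o Subalgebra (ULift.{u} ℤ) Γ(X, ⊤) :=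
    ⟨fun s => Algebra.adjoin (ULift.{u} ℤ) (s : Set Γ(X, ⊤)),
      fun s t h => Algebra.adjoin_mono (Finset.coe_subset.2 h)⟩
  let c₀ : Cone ((subalgRings S).op ⋙ Scheme.Spec) := Scheme.Spec.mapCone (subalgCocone S).op
  have hc₀ : IsLimit c₀ := isLimitOfPreserves Scheme.Spec
    (isColimitSubalgCocone S fun x => ⟨{x}, Algebra.subset_adjoin (Finset.mem_singleton_self x)⟩).op
  refine ⟨(Finset Γ(X, ⊤))ᵒᵖ, inferInstance, inferInstance, (subalgRings S).op ⋙ Scheme.Spec,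
    (c₀.extend (X.isoSpec.hom : X ⟶ c₀.pt)).π, ⟨IsLimit.ofIsoLimit hc₀ (Cone.ext X.isoSpec.symm fun j => ?_)⟩,
    fun i => inferInstanceAs (IsAffine (Spec _)), fun i => ?_⟩
  · show c₀.π.app j = X.isoSpec.inv ≫ X.isoSpec.hom ≫ c₀.π.app j
    exact (Iso.inv_hom_id_assoc _ _).symm
  haveI : IsNoetherianRing (ULift.{u} ℤ) := isNoetherianRing_of_ringEquiv ℤ ULift.ringEquiv.symm
  haveI : Algebra.FiniteType (ULift.{u} ℤ) (S i.unop) :=
    (Subalgebra.fg_iff_finiteType _).1 ⟨i.unop, rfl⟩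
  haveI : IsNoetherianRing (S i.unop) := Algebra.FiniteType.isNoetherianRing (ULift.{u} ℤ) _
  exact isNoetherianRing_of_ringEquiv (S i.unop)
    (Scheme.ΓSpecIso (CommRingCat.of (S i.unop))).symm.commRingCatIsoToRingEquiv

/-- Finitely many affine opens of the members suffice for valuative lifting. -/
theorem exists_finite_affine_lifting {X : Scheme.{u}} [IsAffine X] (E : PreZeroHypercover.{w} X)
    (hE : HTop.IsVCover E) :
    ∃ (n : ℕ) (i : Fin n → E.I₀) (V : ∀ k, (E.X (i k)).Opens), (∀ k, IsAffineOpen (V k)) ∧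
      HTop.HasValLift (⟨Fin n, fun k => V k, fun k => (V k).ι ≫ E.f (i k)⟩ : PreZeroHypercover.{0} X) := by
  classical
  obtain ⟨F, hF, hFE⟩ := HTopLib.exists_standard_refining hE (𝟙 X)
  haveI := hF.finite_index
  haveI := hF.isAffine_obj
  choose i h hh using hFE
  have key : ∀ j, ∃ s : Finset (E.X (i j)).affineOpens, ∀ x, ∃ V ∈ s, h j x ∈ V.1 := fun j => by
    have hc : IsCompact (Set.range (h j)) := isCompact_range (h j).continuous
    obtain ⟨s, hs⟩ := hc.elim_finite_subcover (fun V : (E.X (i j)).affineOpens => (V.1 : Set (E.X (i j))))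
      (fun V => V.1.2) fun x _ => by
        obtain ⟨V, hV, hxV, -⟩ := exists_isAffineOpen_mem_and_subset (Opens.mem_top x)
        exact Set.mem_iUnion.2 ⟨⟨V, hV⟩, hxV⟩
    refine ⟨s, fun x => ?_⟩
    obtain ⟨V, hV, hx⟩ := Set.mem_iUnion₂.1 (hs ⟨x, rfl⟩)
    exact ⟨V, hV, hx⟩
  choose s hs using key
  obtain ⟨n, ⟨e⟩⟩ := Finite.exists_equiv_fin ((j : F.I₀) × ↥(s j))
  refine ⟨n, fun k => i (e.symm k).1, fun k => (e.symm k).2.1.1, fun k => (e.symm k).2.1.2, fun R _ _ g => ?_⟩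
  obtain ⟨W, hW, hW', φ, hφ, j, g', hg'⟩ := hF.lift R g
  obtain ⟨V, hV, hx⟩ := hs j (g' (IsLocalRing.closedPoint W))
  have : ∃ k, e.symm k = ⟨j, ⟨V, hV⟩⟩ := ⟨e ⟨j, ⟨V, hV⟩⟩, e.symm_apply_apply _⟩
  obtain ⟨k, hk⟩ := this
  have main : ∀ p : (j : F.I₀) × ↥(s j), p = ⟨j, ⟨V, hV⟩⟩ →
      ∃ l : Spec W ⟶ (p.2.1.1 : Scheme.{u}), l ≫ p.2.1.1.ι ≫ E.f (i p.1) = Spec.map φ ≫ g := by
    rintro _ rfl
    have hr : Set.range (g' ≫ h j) ⊆ Set.range V.1.ι := by
      rw [Scheme.Opens.range_ι]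
      exact HTopLib.range_subset_of_closedPoint (g' ≫ h j) V.1 hx
    refine ⟨IsOpenImmersion.lift V.1.ι (g' ≫ h j) hr, ?_⟩
    rw [IsOpenImmersion.lift_fac_assoc, Category.assoc, hh, Category.comp_id, hg']
  obtain ⟨l, hl⟩ := main _ hk
  exact ⟨W, hW, hW', φ, hφ, k, l, hl⟩

/-- A V covering of an affine scheme by morphisms locally of finite presentation is refined by a proper
surjective morphism of finite presentation. -/
theorem exists_proper_refining {X : Scheme.{u}} [IsAffine X] (E : PreZeroHypercover.{w} X)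
    (hlfp : ∀ i, LocallyOfFinitePresentation (E.f i)) (hE : HTop.IsVCover E) :
    ∃ (Y : Scheme.{u}) (g : Y ⟶ X), IsProper g ∧ Surjective g ∧ LocallyOfFinitePresentation g ∧
      ∀ y : Y, ∃ U : Y.Opens, y ∈ U ∧ IsAffineOpen U ∧
        ∃ (i : E.I₀) (h : (U : Scheme.{u}) ⟶ E.X i), h ≫ E.f i = U.ι ≫ g := by
  classical
  obtain ⟨n, iV, V, hV, hlift⟩ := exists_finite_affine_lifting E hE
  haveI : ∀ k, IsAffine (V k : Scheme.{u}) := hV
  let f : (∐ fun k => (V k : Scheme.{u})) ⟶ X := Sigma.desc fun k => (V k).ι ≫ E.f (iV k)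
  haveI : LocallyOfFinitePresentation f :=
    IsZariskiLocalAtSource.sigmaDesc (P := @LocallyOfFinitePresentation) fun k =>
      haveI := hlfp (iV k)
      inferInstanceAs (LocallyOfFinitePresentation ((V k).ι ≫ E.f (iV k)))
  have hflift : HTop.HasValLift (PreZeroHypercover.singleton.{0} f) := by
    intro R _ _ g
    obtain ⟨W, hW, hW', φ, hφ, k, g', hg'⟩ := hlift R g
    refine ⟨W, hW, hW', φ, hφ, PUnit.unit, g' ≫ Sigma.ι (fun k => (V k : Scheme.{u})) k, ?_⟩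
    show (g' ≫ Sigma.ι (fun k => (V k : Scheme.{u})) k) ≫ f = _
    rw [Category.assoc, Sigma.ι_desc]
    exact hg'
  obtain ⟨I, _, _, D, π, ⟨hc⟩, hDa, hDn⟩ := exists_noetherian_system X
  haveI := hDa
  haveI : IsAffine (Cone.mk X π).pt := ‹IsAffine X›
  obtain ⟨i₁, X₁, f₁, m, hX₁, hf₁, hsq⟩ := exists_affine_model D (Cone.mk X π) hc f
  haveI := hX₁
  haveI := hf₁
  obtain ⟨i, φ, hi⟩ := exists_stage_hasValLift D (Cone.mk X π) hc i₁ f₁ m f hsq.w hflift
  let fi : pullback f₁ (D.map φ) ⟶ D.obj i := pullback.snd f₁ (D.map φ)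
  haveI : IsAffine (pullback f₁ (D.map φ)) := inferInstance
  have hsqi : IsPullback (pullback.lift m (f ≫ π.app i) (by
      rw [Category.assoc]
      exact hsq.w.trans (congrArg (f ≫ ·) ((Cone.mk X π).w φ).symm))) f fi (π.app i) :=
    IsPullback.of_right (by rw [pullback.lift_fst]; exact ((Cone.mk X π).w φ).symm ▸ hsq)
      (pullback.lift_snd _ _ _) (IsPullback.of_hasPullback _ _)
  have hnat : Spec.map (CommRingCat.ofHom fi.appTop.hom) = (pullback f₁ (D.map φ)).isoSpec.inv ≫ fi ≫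
      (D.obj i).isoSpec.hom := by
    rw [CommRingCat.ofHom_hom, ← Scheme.isoSpec_hom_naturality, Iso.inv_hom_id_assoc]
  have hi' : HTop.HasValLift (PreZeroHypercover.singleton.{0} (Spec.map (CommRingCat.ofHom fi.appTop.hom))) := by
    intro R _ _ g
    obtain ⟨W, hW, hW', χ, hχ, _j, g', hg'⟩ := hi R (g ≫ (D.obj i).isoSpec.inv)
    let g₁ : Spec W ⟶ pullback f₁ (D.map φ) := g'
    have hg₁ : g₁ ≫ fi = Spec.map χ ≫ g ≫ (D.obj i).isoSpec.inv := hg'
    refine ⟨W, hW, hW', χ, hχ, PUnit.unit, g₁ ≫ (pullback f₁ (D.map φ)).isoSpec.hom, ?_⟩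
    show (g₁ ≫ (pullback f₁ (D.map φ)).isoSpec.hom) ≫ Spec.map (CommRingCat.ofHom fi.appTop.hom) = _
    rw [hnat, Category.assoc, Iso.hom_inv_id_assoc, reassoc_of% hg₁, Iso.inv_hom_id, Category.comp_id]
  haveI := hDn i
  obtain ⟨P, ρ, hρ, hρs, hρf, hl⟩ := exists_proper_surjective_noetherian fi.appTop.hom
    (RingHom.FiniteType.of_finitePresentation fi.finitePresentation_appTop) hi'
  let ρ' : P ⟶ D.obj i := ρ ≫ (D.obj i).isoSpec.inv
  refine ⟨pullback ρ' (π.app i), pullback.snd _ _, inferInstance, MorphismProperty.pullback_snd _ _ inferInstance,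
    inferInstance, fun y => ?_⟩
  obtain ⟨U, hyU, hU, h, hh⟩ := hl (pullback.fst ρ' (π.app i) y)
  haveI : IsAffineHom (π.app i) := by
    haveI : IsAffine (((Functor.const I).obj X).obj i) := ‹IsAffine X›
    infer_instance
  haveI : IsAffineHom (pullback.fst ρ' (π.app i)) := MorphismProperty.pullback_fst _ _ inferInstance
  let U' : (pullback ρ' (π.app i)).Opens := pullback.fst ρ' (π.app i) ⁻¹ᵁ U
  let a : (U' : Scheme.{u}) ⟶ ∐ fun k => (V k : Scheme.{u}) := hsqi.lift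
    (((pullback.fst ρ' (π.app i)) ∣_ U) ≫ h ≫ (pullback f₁ (D.map φ)).isoSpec.inv)
    (U'.ι ≫ pullback.snd ρ' (π.app i)) (by
      have e : h ≫ (pullback f₁ (D.map φ)).isoSpec.inv ≫ fi = U.ι ≫ ρ' := by
        rw [hnat] at hh
        show _ = U.ι ≫ ρ ≫ (D.obj i).isoSpec.inv
        rw [← reassoc_of% hh, Iso.hom_inv_id, Category.comp_id]
      rw [Category.assoc, Category.assoc, e, morphismRestrict_ι_assoc, pullback.condition]
      exact (Category.assoc _ _ _).symm)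
  have ha : a ≫ f = U'.ι ≫ pullback.snd ρ' (π.app i) := hsqi.lift_snd _ _ _
  obtain ⟨k, z, hz⟩ := (sigmaOpenCover fun k => (V k : Scheme.{u})).exists_eq (a ⟨y, hyU⟩)
  obtain ⟨O, hO, hyO, hOle⟩ := exists_isAffineOpen_mem_and_subset (x := (⟨y, hyU⟩ : (U' : Scheme.{u})))
    (U := a ⁻¹ᵁ (Sigma.ι (fun k => (V k : Scheme.{u})) k).opensRange)
    (show a ⟨y, hyU⟩ ∈ (Sigma.ι (fun k => (V k : Scheme.{u})) k).opensRange from ⟨z, hz⟩)
  refine ⟨U'.ι ''ᵁ O, ⟨⟨y, hyU⟩, hyO, rfl⟩, hO.image_of_isOpenImmersion _, iV k, ?_⟩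
  have hr : Set.range (O.ι ≫ a) ⊆ Set.range (Sigma.ι (fun k => (V k : Scheme.{u})) k) := by
    rintro _ ⟨x, rfl⟩
    exact hOle x.2
  refine ⟨(U'.ι.isoImage O).inv ≫ IsOpenImmersion.lift _ _ hr ≫ (V k).ι, ?_⟩
  have e : IsOpenImmersion.lift (Sigma.ι (fun k => (V k : Scheme.{u})) k) (O.ι ≫ a) hr ≫ (V k).ι ≫ E.f (iV k) =
      O.ι ≫ U'.ι ≫ pullback.snd ρ' (π.app i) := by
    rw [← ha, ← Category.assoc O.ι]
    conv_rhs => rw [← IsOpenImmersion.lift_fac (Sigma.ι (fun k => (V k : Scheme.{u})) k) (O.ι ≫ a) hr,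
      Category.assoc, Sigma.ι_desc]
  rw [Category.assoc, Category.assoc, e, ← Category.assoc O.ι, ← Scheme.Hom.isoImage_hom_ι, Category.assoc,
    Iso.inv_hom_id_assoc]

/-- The same, with finitely many affine opens. -/
theorem exists_proper_refining_fin {X : Scheme.{u}} [IsAffine X] (E : PreZeroHypercover.{w} X)
    (hlfp : ∀ i, LocallyOfFinitePresentation (E.f i)) (hE : HTop.IsVCover E) :
    ∃ (Y : Scheme.{u}) (g : Y ⟶ X) (n : ℕ) (V : Fin n → Y.Opens), IsProper g ∧ Surjective g ∧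
      LocallyOfFinitePresentation g ∧ (∀ j, IsAffineOpen (V j)) ∧ ⨆ j, V j = ⊤ ∧
      ∀ j, ∃ (i : E.I₀) (h : ((V j : Y.Opens) : Scheme.{u}) ⟶ E.X i), h ≫ E.f i = (V j).ι ≫ g := by
  obtain ⟨Y, g, hg, hgs, hgf, hloc⟩ := exists_proper_refining E hlfp hE
  choose U hyU hU i h hh using hloc
  haveI : CompactSpace Y := QuasiCompact.compactSpace_of_compactSpace g
  obtain ⟨t, ht⟩ := (isCompact_univ (X := Y)).elim_finite_subcover (fun y => (U y : Set Y))
    (fun y => (U y).2) fun y _ => Set.mem_iUnion.2 ⟨y, hyU y⟩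
  obtain ⟨n, ⟨e⟩⟩ := Finite.exists_equiv_fin ↥t
  refine ⟨Y, g, n, fun j => U (e.symm j).1, hg, hgs, hgf, fun j => hU _, ?_, fun j => ⟨i _, h _, hh _⟩⟩
  refine eq_top_iff.2 fun y _ => ?_
  obtain ⟨z, hz, hyz⟩ : ∃ z ∈ t, y ∈ U z := by simpa using ht (Set.mem_univ y)
  exact Opens.mem_iSup.2 ⟨e ⟨z, hz⟩, by simpa using hyz⟩

/-- A V covering by morphisms locally of finite presentation is a ph covering. -/
theorem isPhCover_of_isVCover {T : Scheme.{u}} {E : PreZeroHypercover.{w} T}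
    (hlfp : ∀ i, LocallyOfFinitePresentation (E.f i)) (hE : HTop.IsVCover E) : HTop.IsPhCover E := by
  refine ⟨fun i => by haveI := hlfp i; infer_instance, fun U => ?_⟩
  haveI : IsAffine (U.1 : Scheme.{u}) := U.2
  obtain ⟨Y, g, n, V, hg, hgs, -, hV, hcov, hl⟩ := exists_proper_refining_fin (E.pullback₁ U.1.ι)
    (fun i => MorphismProperty.pullback_fst _ _ (hlfp i)) (HTopLib.isVCover_pullback U.1.ι hE)
  refine ⟨⟨Fin n, fun j => V j, fun j => (V j).ι ≫ g⟩,
    ⟨inferInstance, inferInstanceAs (Finite (Fin n)), hV, Y, g, fun j => (V j).ι, hg, hgs,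
      fun j => inferInstanceAs (IsOpenImmersion (V j).ι), fun j => rfl, fun y => ?_⟩, fun j => ?_⟩
  · obtain ⟨j, hj⟩ := Opens.mem_iSup.1 (hcov.ge (Opens.mem_top y))
    exact ⟨j, by rw [Scheme.Opens.range_ι]; exact hj⟩
  · obtain ⟨i, h, hh⟩ := hl j
    let h' : (V j : Scheme.{u}) ⟶ pullback U.1.ι (E.f i) := h
    have hh' : h' ≫ pullback.fst U.1.ι (E.f i) = (V j).ι ≫ g := hh
    refine ⟨i, h' ≫ pullback.snd U.1.ι (E.f i), ?_⟩
    show (h' ≫ pullback.snd U.1.ι (E.f i)) ≫ E.f i = ((V j).ι ≫ g) ≫ U.1.ι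
    rw [Category.assoc, ← pullback.condition, reassoc_of% hh', Category.assoc]

/-- A ph covering is a V covering. -/
theorem isVCover_of_isPhCover {T : Scheme.{u}} {E : PreZeroHypercover.{w} T} (hE : HTop.IsPhCover E) :
    HTop.IsVCover E := fun U => by
  obtain ⟨F, hF, hFE⟩ := hE.2 U
  exact ⟨F, HTopLib.isStandardV_of_isStandardPh hF, hFE⟩

end Groth.Agent.HTopUltra
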