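import Groth.Agent.Chow.Coords
import Groth.Agent.ProjProper.Basic
import Groth.Agent.FlatMor.SchDom
import Mathlib.RingTheory.Valuation.LocalSubring
import Mathlib.Order.Filter.Ultrafilter.Basic

/-!
# A proper model adapted to finitely many valuative lifts

If every valuation subring of a field `L` containing the base ring contains the image of one of finitely many
maps `B ⟶ L`, then the closure of the point `Spec L` in a projective space is covered by affine opens which
map to `Spec B`.
-/

set_option autoImplicit false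
set_option linter.style.haveILetI false

universe u

open CategoryTheory CategoryTheory.Limits AlgebraicGeometry MvPolynomial HomogeneousLocalization TopologicalSpace

namespace Groth.Agent.HTopUltra

/-- Quasi-compactness of the space of valuation rings containing a given subring. -/
theorem exists_finset_valuationSubring {L : Type u} [Field L] (base : Set L) {κ : Type u}
    (S : κ → Finset L)
    (h : ∀ O : ValuationSubring L, base ⊆ O → ∃ k, ((S k : Set L) ⊆ O)) :
    ∃ K : Finset κ, ∀ O : ValuationSubring L, base ⊆ O → ∃ k ∈ K, ((S k : Set L) ⊆ O) := by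
  classical
  by_contra hno
  push Not at hno
  choose O hO hS using hno
  let F : Ultrafilter (Finset κ) := Ultrafilter.of Filter.atTop
  let P : ValuationSubring L :=
    { carrier := {x | ∀ᶠ K in (F : Filter (Finset κ)), x ∈ O K}
      one_mem' := Filter.Eventually.of_forall fun K => one_mem _
      zero_mem' := Filter.Eventually.of_forall fun K => zero_mem _
      mul_mem' := fun ha hb => by filter_upwards [ha, hb] with K h₁ h₂ using mul_mem h₁ h₂
      add_mem' := fun ha hb => by filter_upwards [ha, hb] with K h₁ h₂ using add_mem h₁ h₂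
      neg_mem' := fun ha => by filter_upwards [ha] with K h₁ using neg_mem h₁
      mem_or_inv_mem' := fun x => by
        rcases Ultrafilter.em F (fun K => x ∈ O K) with hx | hx
        · exact Or.inl hx
        · refine Or.inr ?_
          filter_upwards [hx] with K hK using ((O K).mem_or_inv_mem x).resolve_left hK }
  obtain ⟨k, hk⟩ := h P fun x hx => Filter.Eventually.of_forall fun K => hO K hx
  have h1 : ∀ᶠ K in (F : Filter (Finset κ)), ∀ x ∈ S k, x ∈ O K :=
    (Filter.eventually_all_finset (S k)).2 fun x hx => hk hx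
  have h2 : ∀ᶠ K in (F : Filter (Finset κ)), k ∈ K :=
    Ultrafilter.of_le Filter.atTop ((Filter.eventually_ge_atTop ({k} : Finset κ)).mono fun K hK =>
      Finset.singleton_subset_iff.1 hK)
  obtain ⟨K, hK1, hK2⟩ := (h1.and h2).exists
  exact hS K k hK2 hK1

theorem exists_mem_basicOpen_X {n : ℕ} {R : Type u} [CommRing R] (x : Chow.Pr n R) :
    ∃ i : Fin (n + 1), x ∈ Proj.basicOpen (CohB1.polyGrading n R) (X i) := by
  refine Opens.mem_iSup.mp ((Proj.iSup_basicOpen_eq_top' (CohB1.polyGrading n R)
    (fun i : Fin (n + 1) => (X i : MvPolynomial (Fin (n + 1)) R)) (fun i => ⟨1, Chow.X_mem i⟩) ?_).ge trivial)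
  refine top_le_iff.mp fun p _ => ?_
  clear * - p
  induction p using MvPolynomial.induction_on with
  | C r => exact Subalgebra.algebraMap_mem _ (⟨C r, Chow.C_mem r⟩ : CohB1.polyGrading n R 0)
  | add p q hp hq => exact add_mem hp hq
  | mul_X p i hp => exact mul_mem hp (Algebra.subset_adjoin ⟨i, rfl⟩)

theorem appTop_injective_of_denseRange {X Y : Scheme.{u}} [IsReduced Y] (f : X ⟶ Y)
    (hd : DenseRange f.base) : Function.Injective f.appTop := by
  refine (injective_iff_map_eq_zero f.appTop.hom).2 fun s hs => ?_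
  refine (basicOpen_eq_bot_iff s).1 (Opens.ext (Set.eq_empty_iff_forall_notMem.2 fun y hy => ?_))
  obtain ⟨x, hx⟩ := hd.exists_mem_open (Y.basicOpen s).2 ⟨y, hy⟩
  have hx' : x ∈ f ⁻¹ᵁ Y.basicOpen s := hx
  rw [Scheme.preimage_basicOpen_top] at hx'
  have : f.appTop s = 0 := hs
  rw [this, Scheme.basicOpen_zero] at hx'
  exact hx'

variable {n : ℕ} {R L : Type u} [CommRing R] [Field L] (ev : MvPolynomial (Fin (n + 1)) R →+* L)

/-- The point with homogeneous coordinates `ev (X ·)`, in the chart `i`. -/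
noncomputable def chartPoint (i : Fin (n + 1)) (h : IsUnit (ev (X i))) :
    Spec (CommRingCat.of L) ⟶ Chow.Pr n R :=
  Spec.map (CommRingCat.ofHom (Chow.away ev (X i) h)) ≫ Chow.chart n R i

theorem chartPoint_eq (i k : Fin (n + 1)) (h : IsUnit (ev (X i))) (h' : IsUnit (ev (X k))) :
    chartPoint ev i h = chartPoint ev k h' := by
  have key : ∀ (i k : Fin (n + 1)) (h : IsUnit (ev (X i))) (hp : IsUnit (ev (X i * X k))),
      chartPoint ev i h = Spec.map (CommRingCat.ofHom (Chow.away ev (X i * X k) hp)) ≫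
        Proj.awayι (CohB1.polyGrading n R) (X i * X k) (SetLike.mul_mem_graded (Chow.X_mem i) (Chow.X_mem k))
          (by omega) := fun i k h hp => by
    rw [chartPoint, Chow.chart, ← Proj.SpecMap_awayMap_awayι (CohB1.polyGrading n R) (Chow.X_mem i) one_pos
      (Chow.X_mem k) rfl, ← Spec.map_comp_assoc, ← CommRingCat.ofHom_comp,
      Chow.away_comp_awayMap ev (Chow.X_mem i) (Chow.X_mem k) rfl h hp]
  rw [key i k h (by rw [map_mul]; exact h.mul h'), key k i h' (by rw [map_mul]; exact h'.mul h)]
  have aux : ∀ {f g : MvPolynomial (Fin (n + 1)) R} (hfg : f = g) (hf : f ∈ CohB1.polyGrading n R (1 + 1))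
      (hg : g ∈ CohB1.polyGrading n R (1 + 1)) (uf : IsUnit (ev f)) (ug : IsUnit (ev g)) (hpos : 0 < 1 + 1),
      Spec.map (CommRingCat.ofHom (Chow.away ev f uf)) ≫ Proj.awayι (CohB1.polyGrading n R) f hf hpos =
        Spec.map (CommRingCat.ofHom (Chow.away ev g ug)) ≫ Proj.awayι (CohB1.polyGrading n R) g hg hpos := by
    intro f g hfg hf hg uf ug hpos
    subst hfg
    rfl
  exact aux (mul_comm _ _) _ _ _ _ _

theorem exists_proper_model {R B L : Type u} [CommRing R] [CommRing B] [Field L] (τ : R →+* B)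
    (hτ : τ.FiniteType) (ρ : R →+* L) {m : ℕ} (θ : Fin m → (B →+* L))
    (hθ : ∀ k, (θ k).comp τ = ρ)
    (hcov : ∀ O : ValuationSubring L, (∀ r, ρ r ∈ O) → ∃ k, ∀ b, θ k b ∈ O) :
    ∃ (P : Scheme.{u}) (π : P ⟶ Spec (CommRingCat.of R)) (pL : Spec (CommRingCat.of L) ⟶ P),
      IsProper π ∧ pL ≫ π = Spec.map (CommRingCat.ofHom ρ) ∧
      ∀ y : P, ∃ U : P.Opens, y ∈ U ∧ IsAffineOpen U ∧
        ∃ h : (U : Scheme.{u}) ⟶ Spec (CommRingCat.of B), h ≫ Spec.map (CommRingCat.ofHom τ) = U.ι ≫ π := by
  classical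
  letI := τ.toAlgebra
  obtain ⟨sB, hsB⟩ := (hτ : Algebra.FiniteType R B).out
  let J := Fin m → Option ↥sB
  obtain ⟨e⟩ : Nonempty (J ≃ Fin (Fintype.card J - 1 + 1)) :=
    ⟨(Fintype.equivFin J).trans (finCongr (Nat.sub_add_cancel Fintype.card_pos).symm)⟩
  set n := Fintype.card J - 1
  let fac : Fin m → Option ↥sB → L := fun k o => o.elim 1 fun b => θ k b.1
  let val : J → L := fun j => ∏ k, fac k (j k)
  let ev : MvPolynomial (Fin (n + 1)) R →+* L := eval₂Hom ρ fun i => val (e.symm i)
  have hevX : ∀ i, ev (X i) = val (e.symm i) := fun i => by simp [ev]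
  have hev0 : IsUnit (ev (X (e fun _ => none))) := by simp [hevX, val, fac]
  let p : Spec (CommRingCat.of L) ⟶ Chow.Pr n R := chartPoint ev _ hev0
  haveI : IsReduced (Spec (CommRingCat.of L)) := inferInstance
  haveI := FlatMor.SchDom.toImage_dominant p (Or.inr inferInstance)
  haveI : IsReduced p.image := FlatMor.SchDom.isReduced_of_dominant p.toImage
  haveI : IsProper (Chow.str n R) := ProjProper.Basic.isProper_toSpec n R
  let π : p.image ⟶ Spec (CommRingCat.of R) := p.imageι ≫ Chow.str n R
  have hρ : ev.comp C = ρ := RingHom.ext fun r => by simp [ev]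
  refine ⟨p.image, π, p.toImage, inferInstance, ?_, ?_⟩
  · rw [← Category.assoc, p.toImage_imageι, show p = chartPoint ev _ hev0 from rfl, chartPoint,
      Category.assoc]
    erw [Chow.chart_toSpec (n := n) (R := R) (X (e fun _ => none)) (Chow.X_mem _) one_pos]
    rw [← Spec.map_comp, ← CommRingCat.ofHom_comp, Chow.away_scal ev _ hev0 (Chow.X_mem _), hρ]
  intro y
  have hclos : p.imageι y ∈ closure (Set.range p) := by
    have h1 : y ∈ closure (Set.range p.toImage) := p.toImage.denseRange y
    have h2 := image_closure_subset_closure_image p.imageι.continuous (Set.mem_image_of_mem p.imageι h1)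
    rwa [← Set.range_comp, ← TopCat.coe_comp, ← Scheme.Hom.comp_base, p.toImage_imageι] at h2
  -- a chart containing `y`
  obtain ⟨i, hi⟩ := exists_mem_basicOpen_X (p.imageι y)
  obtain ⟨_, hx, x, rfl⟩ := mem_closure_iff.1 hclos _ (Proj.basicOpen (CohB1.polyGrading n R) (X i)).2 hi
  have hunit : ∀ i, p x ∈ Proj.basicOpen (CohB1.polyGrading n R) (X i) → IsUnit (ev (X i)) := by
    intro k hk
    refine isUnit_iff_ne_zero.2 fun h0 => ?_
    have hk' : Spec.map (CommRingCat.ofHom (Chow.away ev _ hev0)) x ∈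
        Chow.chart n R (e fun _ => none) ⁻¹ᵁ Proj.basicOpen (CohB1.polyGrading n R) (X k) := hk
    rw [Chow.chart, Proj.awayι_preimage_basicOpen (CohB1.polyGrading n R) (Chow.X_mem _) one_pos
      (Chow.X_mem k) one_pos] at hk'
    refine hk' (show Chow.away ev _ hev0 (Away.isLocalizationElem (Chow.X_mem _) (Chow.X_mem k)) ∈
      x.asIdeal from ?_)
    have he := Chow.away_mk ev _ hev0 (Chow.X_mem _) 1 (X k ^ 1) (by simpa using Chow.X_mem k)
    rw [pow_one (ev (X (e fun _ => none))), map_pow, pow_one (ev (X k)), h0, hev0.mul_left_eq_zero] at he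
    exact (show Chow.away ev _ hev0 (Away.isLocalizationElem (Chow.X_mem _) (Chow.X_mem k)) = 0 from he) ▸
      zero_mem _
  have hui : IsUnit (ev (X i)) := hunit i hx
  let φi := Chow.away ev (X i) hui
  obtain ⟨q, hq⟩ : ∃ q, Chow.chart n R i q = p.imageι y := by
    rw [← Proj.opensRange_awayι (CohB1.polyGrading n R) (X i) (Chow.X_mem i) one_pos] at hi
    exact hi
  have hker : RingHom.ker φi ≤ q.asIdeal := by
    have h1 : q ∈ closure (Set.range (Spec.map (CommRingCat.ofHom φi))) := by
      rw [(Chow.chart n R i).isOpenEmbedding.isInducing.closure_eq_preimage_closure_image, Set.mem_preimage,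
        hq, ← Set.range_comp, ← TopCat.coe_comp, ← Scheme.Hom.comp_base]
      show _ ∈ closure (Set.range (chartPoint ev i hui))
      rw [chartPoint_eq ev i _ hui hev0]
      exact hclos
    have h2 : closure (Set.range (Spec.map (CommRingCat.ofHom φi))) ⊆
        PrimeSpectrum.zeroLocus (RingHom.ker φi : Set _) :=
      (PrimeSpectrum.closure_range_comap φi).le
    exact (PrimeSpectrum.mem_zeroLocus _ _).1 (h2 h1)
  -- a valuation ring centred at `y`
  obtain ⟨O, hO, hOl⟩ := IsLocalRing.exists_factor_valuationRing (R := Localization.AtPrime q.asIdeal) (K := L)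
    (IsLocalization.lift (M := q.asIdeal.primeCompl) (g := φi)
      fun s => IsUnit.mk0 _ fun h0 => s.2 (hker h0))
  have hOa : ∀ a, φi a ∈ O := fun a => by
    have := hO (algebraMap _ _ a)
    rwa [IsLocalization.lift_eq] at this
  have hOu : ∀ a, φi a ≠ 0 → (φi a)⁻¹ ∈ O → a ∉ q.asIdeal := fun a h0 ha => by
    refine (IsLocalization.AtPrime.isUnit_to_map_iff (Localization.AtPrime q.asIdeal) q.asIdeal a).1
      (hOl.map_nonunit _ (isUnit_iff_exists_inv.2 ⟨⟨_, ha⟩, Subtype.ext ?_⟩))
    show IsLocalization.lift _ (algebraMap _ _ a) * (φi a)⁻¹ = 1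
    rw [IsLocalization.lift_eq, mul_inv_cancel₀ h0]
  have hratio : ∀ k, φi (Away.isLocalizationElem (Chow.X_mem i) (Chow.X_mem k)) * ev (X i) = ev (X k) :=
    fun k => by
      have he := Chow.away_mk ev _ hui (Chow.X_mem i) 1 (X k ^ 1) (by simpa using Chow.X_mem k)
      rwa [pow_one (ev (X i)), map_pow, pow_one (ev (X k))] at he
  obtain ⟨k, hk⟩ := hcov O fun r => by
    have := hOa (Chow.scal n R (X i) r)
    rwa [show φi (Chow.scal n R (X i) r) = ρ r from
      (RingHom.congr_fun (Chow.away_scal ev _ hui (Chow.X_mem i)) r).trans (RingHom.congr_fun hρ r)] at this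
  -- change the `k`-th factor to `1`
  set j := e.symm i with hj
  let j' : J := Function.update j k none
  have hfac : val j = fac k (j k) * val j' := by
    simp only [val]
    rw [← Finset.mul_prod_erase _ _ (Finset.mem_univ k), ← Finset.mul_prod_erase _ _ (Finset.mem_univ k)]
    have : ∀ l ∈ Finset.univ.erase k, fac l (j' l) = fac l (j l) := fun l hl => by
      simp [j', Function.update_of_ne (Finset.ne_of_mem_erase hl)]
    rw [Finset.prod_congr rfl this, show fac k (j' k) = 1 by simp [j', fac], one_mul]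
  have hvj : val j ≠ 0 := by rw [hj, ← hevX]; exact hui.ne_zero
  have hvj' : IsUnit (ev (X (e j'))) := by
    rw [hevX, e.symm_apply_apply, isUnit_iff_ne_zero]
    intro h0
    exact hvj (by rw [hfac, h0, mul_zero])
  have hmem' : p.imageι y ∈ Proj.basicOpen (CohB1.polyGrading n R) (X (e j')) := by
    rw [← hq, ← Scheme.Hom.mem_preimage]
    rw [Chow.chart, Proj.awayι_preimage_basicOpen (CohB1.polyGrading n R) (Chow.X_mem i) one_pos
      (Chow.X_mem _) one_pos]
    have h1 := hratio (e j')
    rw [hevX, hevX, e.symm_apply_apply, ← hj, hfac] at h1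
    have h2 : φi (Away.isLocalizationElem (Chow.X_mem i) (Chow.X_mem (e j'))) * fac k (j k) = 1 := by
      have hj0 : val j' ≠ 0 := fun h0 => hvj (by rw [hfac, h0, mul_zero])
      exact mul_right_cancel₀ hj0 (by rw [mul_assoc, h1, one_mul])
    refine hOu _ (left_ne_zero_of_mul_eq_one h2) ?_
    rw [inv_eq_of_mul_eq_one_right h2]
    show fac k (j k) ∈ O
    cases j k with
    | none => exact one_mem O
    | some b => exact hk b.1
  -- the chart of `j'`
  let U : p.image.Opens := p.imageι ⁻¹ᵁ Proj.basicOpen (CohB1.polyGrading n R) (X (e j'))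
  have hU : IsAffineOpen U := by
    refine IsAffineOpen.preimage ?_ p.imageι
    rw [← Proj.opensRange_awayι (CohB1.polyGrading n R) (X (e j')) (Chow.X_mem _) one_pos]
    exact isAffineOpen_opensRange _
  refine ⟨U, hmem', hU, ?_⟩
  haveI : IsAffine (U : Scheme.{u}) := hU
  let c : (U : Scheme.{u}) ⟶ Spec (.of <| Away (CohB1.polyGrading n R) (X (e j'))) :=
    IsOpenImmersion.lift (Chow.chart n R (e j')) (U.ι ≫ p.imageι) (by
      rintro _ ⟨u, rfl⟩
      rw [← Scheme.Hom.coe_opensRange, Proj.opensRange_awayι]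
      exact u.2)
  have hpU : Set.range p.toImage ⊆ Set.range U.ι := by
    rintro _ ⟨x, rfl⟩
    rw [Scheme.Opens.range_ι]
    show (p.toImage ≫ p.imageι) x ∈ Proj.basicOpen (CohB1.polyGrading n R) (X (e j'))
    rw [p.toImage_imageι, show p = chartPoint ev (e j') hvj' from chartPoint_eq ev _ _ hev0 hvj',
      ← Proj.opensRange_awayι (CohB1.polyGrading n R) (X (e j')) (Chow.X_mem _) one_pos]
    exact ⟨Spec.map (CommRingCat.ofHom (Chow.away ev _ hvj')) x, rfl⟩
  let l : Spec (CommRingCat.of L) ⟶ (U : Scheme.{u}) := IsOpenImmersion.lift U.ι p.toImage hpU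
  have hlι : l ≫ U.ι = p.toImage := IsOpenImmersion.lift_fac _ _ _
  have hld : DenseRange l.base := by
    refine dense_iff_inter_open.2 fun V hV hne => ?_
    obtain ⟨u, hu⟩ := hne
    obtain ⟨x, hx⟩ := p.toImage.denseRange.exists_mem_open (U.ι.isOpenEmbedding.isOpenMap V hV)
      ⟨_, ⟨u, hu, rfl⟩⟩
    obtain ⟨u', hu', he⟩ := hx
    refine ⟨u', hu', x, U.ι.isOpenEmbedding.injective ?_⟩
    rw [← Scheme.Hom.comp_apply, hlι, he]
  haveI : IsDominant l := ⟨hld⟩
  have hlc : l ≫ c = Spec.map (CommRingCat.ofHom (Chow.away ev _ hvj')) := by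
    rw [← cancel_mono (Chow.chart n R (e j')), Category.assoc, IsOpenImmersion.lift_fac, ← Category.assoc,
      hlι, p.toImage_imageι]
    exact chartPoint_eq ev _ _ hev0 hvj'
  -- functions on `U` are the values of the chart
  let γ : L →+* Γ(Spec (CommRingCat.of L), ⊤) := (Scheme.ΓSpecIso (CommRingCat.of L)).inv.hom
  let cH := Chow.specHom c
  let φ' := Chow.away ev (X (e j')) hvj'
  have hcH : l.appTop.hom.comp cH = γ.comp φ' := by
    show ((Scheme.ΓSpecIso _).inv ≫ c.appTop ≫ l.appTop).hom = _
    rw [← Scheme.Hom.comp_appTop, hlc, ← Scheme.ΓSpecIso_inv_naturality]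
    rfl
  have hlinj := appTop_injective_of_denseRange l hld
  have hθr : ∀ b, γ (θ k b) ∈ l.appTop.hom.range := fun b => by
    have hb : b ∈ Algebra.adjoin R (sB : Set B) := hsB.ge Algebra.mem_top
    induction hb using Algebra.adjoin_induction with
    | mem b hb =>
      let j₂ : J := Function.update j' k (some ⟨b, hb⟩)
      refine ⟨cH (Away.isLocalizationElem (Chow.X_mem (e j')) (Chow.X_mem (e j₂))), ?_⟩
      rw [← RingHom.comp_apply, hcH, RingHom.comp_apply]
      refine congrArg γ (mul_right_cancel₀ hvj'.ne_zero ?_)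
      have he := Chow.away_mk ev _ hvj' (Chow.X_mem (e j')) 1 (X (e j₂) ^ 1)
        (by simpa using Chow.X_mem (e j₂))
      rw [pow_one (ev (X (e j'))), map_pow, pow_one (ev (X (e j₂)))] at he
      refine Eq.trans he ?_
      rw [hevX, hevX, e.symm_apply_apply, e.symm_apply_apply]
      simp only [val]
      rw [← Finset.mul_prod_erase _ _ (Finset.mem_univ k), ← Finset.mul_prod_erase _ _ (Finset.mem_univ k)]
      have : ∀ l ∈ Finset.univ.erase k, fac l (j₂ l) = fac l (j' l) := fun l hl => by
        simp [j₂, Function.update_of_ne (Finset.ne_of_mem_erase hl)]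
      rw [Finset.prod_congr rfl this, show fac k (j₂ k) = θ k b by simp [j₂, fac],
        show fac k (j' k) = 1 by simp [j', fac], one_mul]
    | algebraMap r =>
      refine ⟨cH (Chow.scal n R (X (e j')) r), ?_⟩
      rw [← RingHom.comp_apply, hcH, RingHom.comp_apply]
      exact congrArg γ (((RingHom.congr_fun (Chow.away_scal ev _ hvj' (Chow.X_mem _)) r).trans
        (RingHom.congr_fun hρ r)).trans (RingHom.congr_fun (hθ k) r).symm)
    | add a b _ _ ha hb => rw [map_add, map_add]; exact add_mem ha hb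
    | mul a b _ _ ha hb => rw [map_mul, map_mul]; exact mul_mem ha hb
  let θ' : B →+* Γ((U : Scheme.{u}), ⊤) :=
    (RingEquiv.ofBijective l.appTop.hom.rangeRestrict
      ⟨fun a b hab => hlinj (congrArg Subtype.val hab), RingHom.rangeRestrict_surjective _⟩).symm.toRingHom.comp
      ((γ.comp (θ k)).codRestrict _ hθr)
  have hθ' : l.appTop.hom.comp θ' = γ.comp (θ k) := RingHom.ext fun b =>
    congrArg Subtype.val (RingEquiv.apply_symm_apply (RingEquiv.ofBijective l.appTop.hom.rangeRestrict
      ⟨fun a b hab => hlinj (congrArg Subtype.val hab), RingHom.rangeRestrict_surjective _⟩) _)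
  refine ⟨(U : Scheme.{u}).toSpecΓ ≫ Spec.map (CommRingCat.ofHom θ'), ?_⟩
  haveI : IsReduced (U : Scheme.{u}) := isReduced_of_isOpenImmersion U.ι
  refine ext_of_isDominant l ?_
  have e1 : l ≫ U.ι ≫ π = Spec.map (CommRingCat.ofHom ρ) := by
    rw [← Category.assoc, hlι]
    show p.toImage ≫ p.imageι ≫ Chow.str n R = _
    rw [← Category.assoc, p.toImage_imageι, show p = chartPoint ev _ hev0 from rfl, chartPoint,
      Category.assoc]
    erw [Chow.chart_toSpec (n := n) (R := R) (X (e fun _ => none)) (Chow.X_mem _) one_pos]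
    rw [← Spec.map_comp, ← CommRingCat.ofHom_comp, Chow.away_scal ev _ hev0 (Chow.X_mem _), hρ]
  rw [e1, Category.assoc, Scheme.toSpecΓ_naturality_assoc, ← Spec.map_comp, ← Spec.map_comp]
  have e2 : CommRingCat.ofHom τ ≫ CommRingCat.ofHom θ' ≫ l.appTop =
      CommRingCat.ofHom ρ ≫ (Scheme.ΓSpecIso (CommRingCat.of L)).inv := by
    refine CommRingCat.hom_ext ?_
    show (l.appTop.hom.comp θ').comp τ = γ.comp ρ
    rw [hθ', RingHom.comp_assoc, hθ]
  refine (congrArg (fun q => (Spec (CommRingCat.of L)).toSpecΓ ≫ Spec.map q)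
    ((Category.assoc _ _ _).trans e2)).trans ?_
  rw [Spec.map_comp, ← Category.assoc, toSpecΓ_SpecMap_ΓSpecIso_inv, Category.id_comp]

end Groth.Agent.HTopUltra
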