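import Groth.Agent.HTopUltra.Refine
import Groth.Agent.HTopPh.VSheaf
import Mathlib.CategoryTheory.Sites.Canonical

/-!
# Recognising sheaves for the h topology on schemes over a base
-/

set_option autoImplicit false
set_option linter.style.haveILetI false

universe w u

open CategoryTheory CategoryTheory.Limits AlgebraicGeometry Topology TopologicalSpace Opposite

namespace Groth.Agent.HTopUltra.HSheaf

/-- h coverings are stable under base change. -/
instance isStableUnderBaseChange_hPrecoverage :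
    (HTop.hPrecoverage : Precoverage Scheme.{u}).IsStableUnderBaseChange where
  mem_coverings_of_isPullback {ι T X} f hR {Y} g {P} p₁ p₂ h := by
    let E : PreZeroHypercover.{u + 1} T := ⟨ι, X, f⟩
    let E' : PreZeroHypercover.{u + 1} Y := ⟨ι, P, p₁⟩
    obtain ⟨hlfp, hV⟩ := (HTop.presieve₀_mem_hPrecoverage_iff E).1 hR
    refine (HTop.presieve₀_mem_hPrecoverage_iff E').2
      ⟨fun i => MorphismProperty.of_isPullback (h i).flip (hlfp i), fun U => ?_⟩
    obtain ⟨F, hF, hFE⟩ := HTopLib.isVCover_pullback g hV U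
    refine ⟨F, hF, hFE.of_hom (E := E.pullback₁ g)
      { s₀ := id
        h₀ := fun i => (h i).lift (pullback.fst g (f i)) (pullback.snd g (f i)) pullback.condition
        w₀ := fun i => (h i).lift_fst _ _ _ }⟩

theorem zariskiPrecoverage_le_hPrecoverage :
    (Scheme.zariskiPrecoverage : Precoverage Scheme.{u}) ≤ HTop.hPrecoverage := by
  intro X R hR
  obtain ⟨𝒰, rfl⟩ := Precoverage.mem_iff_exists_zeroHypercover.1 hR
  haveI : ∀ i, IsOpenImmersion (𝒰.f i) := fun i => ((Scheme.ofArrows_mem_precoverage_iff _).1 𝒰.mem₀).2 i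
  refine (HTop.presieve₀_mem_hPrecoverage_iff 𝒰.toPreZeroHypercover).2 ⟨fun i => inferInstance, ?_⟩
  exact HTopLib.isVCover_of_fpqc _ fun i => inferInstance

variable {S : Scheme.{u}} {F : (Over S)ᵒᵖ ⥤ Type w}

theorem isHSheafOver_of_isSheaf (h : Presieve.IsSheaf (HTop.Jh S) F) : HTop.IsHSheafOver S F := by
  have h' : Presieve.IsSheaf (HTop.hPrecoverage.toGrothendieck.over S) F := h
  rw [over_toGrothendieck_eq_toGrothendieck_comap_forget] at h'
  exact fun X R hR => h'.isSheafFor_of_mem_precoverage hR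

theorem isSheaf_zariski_of_isSheaf (h : Presieve.IsSheaf (HTop.Jh S) F) :
    Presieve.IsSheaf (Scheme.zariskiTopology.over S) F :=
  Presieve.isSheaf_of_le F (fun _ _ hs => Precoverage.toGrothendieck_mono
    zariskiPrecoverage_le_hPrecoverage _ hs) h

section criterion

theorem openCover_mem_comap (X : Over S) (𝒰 : Scheme.OpenCover.{u} X.left) :
    Presieve.ofArrows (fun i => Over.mk (𝒰.f i ≫ X.hom))
      (fun i => (Over.homMk (𝒰.f i) rfl : Over.mk (𝒰.f i ≫ X.hom) ⟶ X)) ∈
      Scheme.zariskiPrecoverage.comap (Over.forget S) X := by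
  rw [Precoverage.mem_comap_iff, Presieve.map_ofArrows]
  exact 𝒰.mem₀

theorem openCover_mem (X : Over S) (𝒰 : Scheme.OpenCover.{u} X.left) :
    Sieve.generate (Presieve.ofArrows (fun i => Over.mk (𝒰.f i ≫ X.hom))
      (fun i => (Over.homMk (𝒰.f i) rfl : Over.mk (𝒰.f i ≫ X.hom) ⟶ X))) ∈
      Scheme.zariskiTopology.over S X := by
  show _ ∈ Scheme.zariskiPrecoverage.toGrothendieck.over S X
  rw [over_toGrothendieck_eq_toGrothendieck_comap_forget]
  exact Precoverage.generate_mem_toGrothendieck (openCover_mem_comap X 𝒰)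

variable (hz : Presieve.IsSheaf (Scheme.zariskiTopology.over S) F)

include hz in
theorem isSheafFor_openCover (X : Over S) (𝒰 : Scheme.OpenCover.{u} X.left) :
    Presieve.IsSheafFor F (Presieve.ofArrows (fun i => Over.mk (𝒰.f i ≫ X.hom))
      (fun i => (Over.homMk (𝒰.f i) rfl : Over.mk (𝒰.f i ≫ X.hom) ⟶ X))) :=
  (Presieve.isSheafFor_iff_generate _).2 (hz _ (openCover_mem X 𝒰))

include hz in
theorem ext_openCover {X : Over S} (𝒰 : Scheme.OpenCover.{u} X.left) {t t' : F.obj (op X)}
    (h : ∀ i, F.map (Over.homMk (𝒰.f i) rfl : Over.mk (𝒰.f i ≫ X.hom) ⟶ X).op t =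
      F.map (Over.homMk (𝒰.f i) rfl : Over.mk (𝒰.f i ≫ X.hom) ⟶ X).op t') : t = t' :=
  (isSheafFor_openCover hz X 𝒰).isSeparatedFor.ext fun Y g hg => by
    obtain ⟨i⟩ := hg
    exact h i

include hz in
/-- The sheaf condition for a sieve can be checked after pulling back to affine schemes. -/
theorem isSheafFor_of_affine {X : Over S} (R : Sieve X)
    (H : ∀ (U : Over S) (g : U ⟶ X), IsAffine U.left → Presieve.IsSheafFor F (R.pullback g).arrows) :
    Presieve.IsSheafFor F R.arrows := by
  have hsep : ∀ {Z : Over S} (a : Z ⟶ X), Presieve.IsSeparatedFor F (R.pullback a).arrows := by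
    intro Z a x t₁ t₂ h₁ h₂
    refine ext_openCover hz Z.left.affineCover fun i => ?_
    refine (H _ ((Over.homMk (Z.left.affineCover.f i) rfl : Over.mk (Z.left.affineCover.f i ≫ Z.hom) ⟶ Z) ≫ a)
      (Scheme.isAffine_affineCover Z.left i)).isSeparatedFor.ext fun V r hr => ?_
    rw [← ConcreteCategory.comp_apply, ← ConcreteCategory.comp_apply, ← Functor.map_comp, ← op_comp]
    have hr' : R.pullback a (r ≫ (Over.homMk (Z.left.affineCover.f i) rfl :
        Over.mk (Z.left.affineCover.f i ≫ Z.hom) ⟶ Z)) := by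
      rwa [Sieve.pullback_comp] at hr
    exact (h₁ _ hr').trans (h₂ _ hr').symm
  intro x hx
  let 𝒰 := X.left.affineCover
  let U : 𝒰.I₀ → Over S := fun i => Over.mk (𝒰.f i ≫ X.hom)
  let g : ∀ i, U i ⟶ X := fun i => Over.homMk (𝒰.f i) rfl
  have hloc : ∀ i, ∃ t : F.obj (op (U i)), ∀ {Z : Over S} (h : Z ⟶ U i) (hh : R (h ≫ g i)),
      F.map h.op t = x (h ≫ g i) hh := fun i => by
    obtain ⟨t, ht, -⟩ := H (U i) (g i) (Scheme.isAffine_affineCover X.left i)
      (fun Z h hh => x (h ≫ g i) hh) fun Y₁ Y₂ Z a b f₁ f₂ hf₁ hf₂ hab =>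
        hx a b hf₁ hf₂ (by rw [reassoc_of% hab])
    exact ⟨t, fun h hh => ht h hh⟩
  choose t ht using hloc
  obtain ⟨s, hs, hsu⟩ := (Presieve.isSheafFor_arrows_iff _ _).1 (isSheafFor_openCover hz X 𝒰) t
    fun i j Z a b hab => by
      refine (hsep (a ≫ g i)).ext fun Y h hh => ?_
      have hh₁ : R ((h ≫ a) ≫ g i) := by rw [Category.assoc]; exact hh
      have hh₂ : R ((h ≫ b) ≫ g j) := by
        rw [Category.assoc]
        exact (congrArg (fun q => R (h ≫ q)) hab).mp hh
      rw [← ConcreteCategory.comp_apply, ← ConcreteCategory.comp_apply, ← Functor.map_comp,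
        ← Functor.map_comp, ← op_comp, ← op_comp, ht i _ hh₁, ht j _ hh₂]
      have e : (h ≫ a) ≫ g i = (h ≫ b) ≫ g j := by
        rw [Category.assoc, Category.assoc]; exact congrArg (h ≫ ·) hab
      congr 1
  refine ⟨s, fun Z f hf => ?_, fun s' hs' => hsu s' fun i => ?_⟩
  · refine ext_openCover hz (𝒰.pullback₁ f.left) fun i => ?_
    let P : Over S := Over.mk (pullback.fst f.left (𝒰.f i) ≫ Z.hom)
    let p : P ⟶ Z := Over.homMk (pullback.fst _ _) rfl
    let q : P ⟶ U i := Over.homMk (pullback.snd f.left (𝒰.f i)) (by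
      show pullback.snd _ _ ≫ 𝒰.f i ≫ X.hom = pullback.fst _ _ ≫ Z.hom
      rw [← Over.w f, pullback.condition_assoc])
    have hpq : p ≫ f = q ≫ g i := Over.OverMorphism.ext pullback.condition
    show F.map p.op (F.map f.op s) = F.map p.op (x f hf)
    have hq : R (q ≫ g i) := hpq ▸ R.downward_closed hf p
    have hsi : F.map (g i).op s = t i := hs i
    rw [← ConcreteCategory.comp_apply, ← Functor.map_comp, ← op_comp, hpq, op_comp, Functor.map_comp,
      ConcreteCategory.comp_apply, hsi, ht i q hq]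
    have := hx (𝟙 P) p hq hf (by rw [Category.id_comp, hpq])
    simpa using this
  · refine (hsep (g i)).ext fun Y h hh => ?_
    rw [← ConcreteCategory.comp_apply, ← Functor.map_comp, ← op_comp]
    exact (hs' _ hh).trans (ht i h hh).symm

variable (hp : ∀ (U V : Over S) (f : V ⟶ U), IsAffine U.left → IsProper f.left → Surjective f.left →
    LocallyOfFinitePresentation f.left → Presieve.IsSheafFor F (Presieve.singleton f))

include hz hp in
theorem proper_mem_finest {U V : Over S} (f : V ⟶ U) [IsProper f.left] [Surjective f.left]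
    [LocallyOfFinitePresentation f.left] :
    Sieve.generate (Presieve.singleton f) ∈ Sheaf.finestTopology {F} U := by
  refine Sheaf.mem_finestTopology_of_forall_isSheafFor fun P hP Y g => ?_
  obtain rfl := Set.mem_singleton_iff.1 hP
  refine isSheafFor_of_affine hz _ fun W a hW => ?_
  rw [← Sieve.pullback_comp]
  generalize a ≫ g = g'
  let Q : Over S := Over.mk (pullback.fst g'.left f.left ≫ W.hom)
  let q : Q ⟶ W := Over.homMk (pullback.fst _ _) rfl
  let r : Q ⟶ V := Over.homMk (pullback.snd g'.left f.left) (by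
    show pullback.snd _ _ ≫ V.hom = pullback.fst _ _ ≫ W.hom
    rw [← Over.w f, ← Over.w g', pullback.condition_assoc])
  have hqr : q ≫ g' = r ≫ f := Over.OverMorphism.ext pullback.condition
  have he : (Sieve.generate (Presieve.singleton f)).pullback g' = Sieve.generate (Presieve.singleton q) := by
    refine le_antisymm ?_ ?_
    · rintro Z h ⟨Z', b, k, ⟨⟩, hb⟩
      have hb' : h.left ≫ g'.left = b.left ≫ f.left := (congrArg CommaMorphism.left hb).symm
      refine ⟨Q, Over.homMk (pullback.lift h.left b.left hb') ?_, q, ⟨⟩,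
        Over.OverMorphism.ext (pullback.lift_fst _ _ _)⟩
      show pullback.lift _ _ _ ≫ pullback.fst _ _ ≫ W.hom = Z.hom
      rw [pullback.lift_fst_assoc]
      exact Over.w h
    · rw [Sieve.generate_le_iff]
      rintro Z h ⟨⟩
      exact ⟨V, r, f, ⟨⟩, hqr.symm⟩
  rw [he, ← Presieve.isSheafFor_iff_generate]
  exact hp W Q q hW (MorphismProperty.pullback_fst g'.left f.left (inferInstance : IsProper f.left))
    (MorphismProperty.pullback_fst g'.left f.left (inferInstance : Surjective f.left))
    (MorphismProperty.pullback_fst g'.left f.left (inferInstance : LocallyOfFinitePresentation f.left))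

theorem generate_of_left {X Z : Over S} {P : Presieve X} (f : Z ⟶ X) {T : Scheme.{u}} {r : T ⟶ X.left}
    (hr : P.map (Over.forget S) r) (a : Z.left ⟶ T) (ha : a ≫ r = f.left) : Sieve.generate P f := by
  obtain ⟨hu⟩ := hr
  rename_i Y v
  exact ⟨Y, Over.homMk a (by rw [← Over.w v, ← Over.w f, ← ha, Category.assoc]; rfl), v, hu,
    Over.OverMorphism.ext ha⟩

include hz hp in
theorem generate_mem_finest {X : Over S} (P : Presieve X)
    (hP : P.map (Over.forget S) ∈ HTop.hPrecoverage X.left) :
    Sieve.generate P ∈ Sheaf.finestTopology {F} X := by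
  obtain ⟨E, he⟩ := (P.map (Over.forget S)).exists_eq_preZeroHypercover
  rw [he] at hP
  obtain ⟨hlfp, hV⟩ := (HTop.presieve₀_mem_hPrecoverage_iff E).1 hP
  have hzle : Scheme.zariskiTopology.over S ≤ Sheaf.finestTopology {F} :=
    Sheaf.le_finestTopology _ _ fun G hG => by obtain rfl := Set.mem_singleton_iff.1 hG; exact hz
  refine (Sheaf.finestTopology {F}).transitive (hzle _ (openCover_mem X X.left.affineCover)) _ ?_
  rintro Z _ ⟨_, b, _, ⟨k⟩, rfl⟩
  rw [Sieve.pullback_comp]
  refine (Sheaf.finestTopology {F}).pullback_stable b ?_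
  haveI := Scheme.isAffine_affineCover X.left k
  let g : Over.mk (X.left.affineCover.f k ≫ X.hom) ⟶ X := Over.homMk (X.left.affineCover.f k) rfl
  obtain ⟨Y, q, hq, hqs, hqf, hloc⟩ := exists_proper_refining (E.pullback₁ (X.left.affineCover.f k))
    (fun i => MorphismProperty.pullback_fst _ _ (hlfp i)) (HTopLib.isVCover_pullback _ hV)
  let Yo : Over S := Over.mk (q ≫ X.left.affineCover.f k ≫ X.hom)
  let p : Yo ⟶ Over.mk (X.left.affineCover.f k ≫ X.hom) := Over.homMk q rfl
  haveI : IsProper p.left := hq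
  haveI : Surjective p.left := hqs
  haveI : LocallyOfFinitePresentation p.left := hqf
  refine (Sheaf.finestTopology {F}).transitive (proper_mem_finest hz hp p) _ ?_
  rintro Z' _ ⟨_, c, _, ⟨⟩, rfl⟩
  rw [Sieve.pullback_comp]
  refine (Sheaf.finestTopology {F}).pullback_stable c ?_
  choose U hyU _hU i h hh using hloc
  refine (Sheaf.finestTopology {F}).superset_covering ?_ (hzle _ (openCover_mem Yo
    (Scheme.openCoverOfIsOpenCover Yo.left U (IsOpenCover.mk (eq_top_iff.2 fun y _ =>
      Opens.mem_iSup.2 ⟨y, hyU y⟩)))))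
  rw [Sieve.generate_le_iff]
  rintro _ _ ⟨y⟩
  revert y
  show ∀ y : Yo.left, _
  intro y
  let h' : (U y : Scheme.{u}) ⟶ pullback (X.left.affineCover.f k) (E.f (i y)) := h y
  have hh' : h' ≫ pullback.fst (X.left.affineCover.f k) (E.f (i y)) = (U y).ι ≫ q := hh y
  refine generate_of_left _ (show P.map (Over.forget S) (E.f (i y)) by rw [he]; exact ⟨_⟩)
    (h' ≫ pullback.snd _ _) ?_
  show (h' ≫ pullback.snd (X.left.affineCover.f k) (E.f (i y))) ≫ E.f (i y) =
    (U y).ι ≫ q ≫ X.left.affineCover.f k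
  exact (Category.assoc _ _ _).trans ((congrArg (h' ≫ ·) pullback.condition.symm).trans
    ((Category.assoc _ _ _).symm.trans ((congrArg (· ≫ X.left.affineCover.f k) hh').trans (Category.assoc _ _ _))))

include hz hp in
theorem isSheaf_Jh : Presieve.IsSheaf (HTop.Jh S) F := by
  show Presieve.IsSheaf (HTop.hPrecoverage.toGrothendieck.over S) F
  rw [over_toGrothendieck_eq_toGrothendieck_comap_forget]
  refine Presieve.isSheaf_of_le F ?_ (Sheaf.sheaf_for_finestTopology {F} (Set.mem_singleton F))
  rw [Precoverage.toGrothendieck_le_iff_le_toPrecoverage]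
  intro X R hR
  rw [GrothendieckTopology.mem_toPrecoverage_iff]
  exact generate_mem_finest hz hp R hR

end criterion

theorem isSheafFor_proper (h : Presieve.IsSheaf (HTop.Jh S) F) {U V : Over S} (f : V ⟶ U)
    [IsProper f.left] [Surjective f.left] [LocallyOfFinitePresentation f.left] :
    Presieve.IsSheafFor F (Presieve.singleton f) :=
  HTopPh.VSheaf.isSheafFor_hSingleton (isHSheafOver_of_isSheaf h) f (HTopLib.isHCover_of_proper _)

end Groth.Agent.HTopUltra.HSheaf
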