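import Groth.Agent.HTopUltra.Stage
import Groth.Agent.HTopLib.Sheaf

/-!
# Standard h coverings descend along limits of affine schemes
-/

set_option autoImplicit false
set_option linter.style.haveILetI false

universe w u

open CategoryTheory CategoryTheory.Limits AlgebraicGeometry Groth.Agent.LimLib

namespace Groth.Agent.HTopUltra

theorem hasValLift_of_isVCover {T : Scheme.{u}} [IsAffine T] {E : PreZeroHypercover.{w} T}
    (hE : HTop.IsVCover E) : HTop.HasValLift E := by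
  obtain ⟨F, hF, hFE⟩ := HTopLib.exists_standard_refining hE (𝟙 T)
  intro V _ _ g
  obtain ⟨W, hW, hW', φ, hφ, j, g', hg'⟩ := hF.lift V g
  obtain ⟨i, h, hh⟩ := hFE j
  refine ⟨W, hW, hW', φ, hφ, i, g' ≫ h, ?_⟩
  rw [Category.assoc, hh, Category.comp_id, hg']

theorem exists_affine_model {I : Type u} [SmallCategory I] [IsCofiltered I] (D : I ⥤ Scheme.{u})
    [∀ i, IsAffine (D.obj i)] (c : Cone D) (hc : IsLimit c) [IsAffine c.pt] {X : Scheme.{u}} [IsAffine X]
    (f : X ⟶ c.pt) [LocallyOfFinitePresentation f] :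
    ∃ (i : I) (Xi : Scheme.{u}) (fi : Xi ⟶ D.obj i) (m : X ⟶ Xi),
      IsAffine Xi ∧ LocallyOfFinitePresentation fi ∧ IsPullback m f fi (c.π.app i) := by
  obtain ⟨T, T₁, h, b, m, _, _, hh, hT, hsq⟩ := exists_fp_model f
  let t : D ⟶ (Functor.const I).obj (Spec (CommRingCat.of (ULift.{u} ℤ))) :=
    { app := fun j => specULiftZIsTerminal.from _
      naturality := fun _ _ _ => specULiftZIsTerminal.hom_ext _ _ }
  obtain ⟨j, b₁, hb₁, -⟩ := Scheme.exists_π_app_comp_eq_of_locallyOfFinitePresentation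
    D t (specULiftZIsTerminal.from T) c hc b (by ext; exact specULiftZIsTerminal.hom_ext _ _)
  refine ⟨j, pullback h b₁, pullback.snd h b₁, pullback.lift m (f ≫ c.π.app j) (by simp [hsq.w, hb₁]),
    inferInstance, inferInstance, ?_⟩
  exact IsPullback.of_right (by rw [pullback.lift_fst, hb₁]; exact hsq) (pullback.lift_snd _ _ _)
    (IsPullback.of_hasPullback _ _)

theorem exists_isStandardH_descends {I : Type u} [SmallCategory I] [IsCofiltered I] (D : I ⥤ Scheme.{u})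
    [∀ i, IsAffine (D.obj i)] (c : Cone D) (hc : IsLimit c) [IsAffine c.pt]
    (V : PreZeroHypercover.{w} c.pt) (hV : HTop.IsStandardH V) :
    ∃ (i : I) (W : PreZeroHypercover.{w} (D.obj i)), HTop.IsStandardH W ∧
      ∃ (σ : V.I₀ ≃ W.I₀) (e : ∀ j, V.X j ≅ pullback (c.π.app i) (W.f (σ j))),
        ∀ j, (e j).hom ≫ pullback.fst (c.π.app i) (W.f (σ j)) = V.f j := by
  classical
  haveI := hV.finite_index
  haveI := hV.isAffine_obj
  haveI := hV.finitePresentation
  choose i₁ X f m hX hf hsq using fun j => exists_affine_model D c hc (V.f j)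
  haveI := Fintype.ofFinite V.I₀
  obtain ⟨i₀, hi₀⟩ := IsCofiltered.inf_objs_exists (Finset.univ.image i₁)
  let φ₀ : ∀ j, i₀ ⟶ i₁ j := fun j => (hi₀ (Finset.mem_image_of_mem i₁ (Finset.mem_univ j))).some
  let X₀ : V.I₀ → Scheme.{u} := fun j => pullback (f j) (D.map (φ₀ j))
  let f₀ : ∀ j, X₀ j ⟶ D.obj i₀ := fun j => pullback.snd _ _
  let m₀ : ∀ j, V.X j ⟶ X₀ j := fun j =>
    pullback.lift (m j) (V.f j ≫ c.π.app i₀) (by rw [Category.assoc, c.w, (hsq j).w])
  have hsq₀ : ∀ j, IsPullback (m₀ j) (V.f j) (f₀ j) (c.π.app i₀) := fun j =>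
    IsPullback.of_right (by rw [pullback.lift_fst, c.w]; exact hsq j) (pullback.lift_snd _ _ _)
      (IsPullback.of_hasPullback _ _)
  obtain ⟨n, ⟨e₀⟩⟩ := Finite.exists_equiv_fin V.I₀
  let p : (∐ fun k => X₀ (e₀.symm k)) ⟶ D.obj i₀ := Sigma.desc fun k => f₀ (e₀.symm k)
  haveI : LocallyOfFinitePresentation p :=
    IsZariskiLocalAtSource.sigmaDesc (P := @LocallyOfFinitePresentation) fun k => inferInstance
  let qY : (∐ fun k => V.X (e₀.symm k)) ⟶ ∐ fun k => X₀ (e₀.symm k) :=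
    Limits.Sigma.map fun k => m₀ (e₀.symm k)
  let q : (∐ fun k => V.X (e₀.symm k)) ⟶ c.pt := Sigma.desc fun k => V.f (e₀.symm k)
  have hq : qY ≫ p = q ≫ c.π.app i₀ := by
    ext k
    simp [qY, q, p, (hsq₀ (e₀.symm k)).w]
  have hlift : HTop.HasValLift (PreZeroHypercover.singleton.{w} q) := by
    intro R _ _ g
    obtain ⟨S, hS, hS', χ, hχ, j, g', hg'⟩ := hasValLift_of_isVCover hV.isVCover R g
    have : ∃ g'' : Spec S ⟶ ∐ fun k => V.X (e₀.symm k), g'' ≫ q = Spec.map χ ≫ g := by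
      obtain ⟨k, rfl⟩ := e₀.symm.surjective j
      exact ⟨g' ≫ Sigma.ι (fun k => V.X (e₀.symm k)) k, by rw [Category.assoc, Sigma.ι_desc, hg']⟩
    obtain ⟨g'', hg''⟩ := this
    exact ⟨S, hS, hS', χ, hχ, PUnit.unit, g'', hg''⟩
  obtain ⟨i, φ, hi⟩ := exists_stage_hasValLift D c hc i₀ p qY q hq hlift
  let W : PreZeroHypercover.{w} (D.obj i) :=
    ⟨V.I₀, fun j => pullback (f₀ j) (D.map φ), fun j => pullback.snd _ _⟩
  have hW : HTop.HasValLift W := by
    intro R _ _ g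
    obtain ⟨S, hS, hS', χ, hχ, _j, g', hg'⟩ := hi R g
    let g₁ : Spec S ⟶ pullback p (D.map φ) := g'
    have hg₁ : g₁ ≫ pullback.snd p (D.map φ) = Spec.map χ ≫ g := hg'
    obtain ⟨k, y, hy⟩ := (sigmaOpenCover fun k => X₀ (e₀.symm k)).exists_eq
      ((g₁ ≫ pullback.fst p (D.map φ)) (IsLocalRing.closedPoint S))
    have hr : Set.range (g₁ ≫ pullback.fst p (D.map φ)) ⊆
        Set.range (Sigma.ι (fun k => X₀ (e₀.symm k)) k) :=
      HTopLib.range_subset_of_closedPoint _ (Sigma.ι (fun k => X₀ (e₀.symm k)) k).opensRange ⟨y, hy⟩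
    refine ⟨S, hS, hS', χ, hχ, e₀.symm k,
      pullback.lift (IsOpenImmersion.lift _ _ hr) (Spec.map χ ≫ g) ?_, pullback.lift_snd _ _ _⟩
    rw [← Sigma.ι_desc (fun k => f₀ (e₀.symm k)) k]
    show IsOpenImmersion.lift _ _ hr ≫ Sigma.ι (fun k => X₀ (e₀.symm k)) k ≫ p = _
    rw [IsOpenImmersion.lift_fac_assoc, ← hg₁]
    simp [pullback.condition]
  have hWstd : HTop.IsStandardV W :=
    ⟨inferInstance, inferInstanceAs (Finite V.I₀), fun j => inferInstanceAs (IsAffine (pullback _ _)), hW⟩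
  refine ⟨i, W, ⟨inferInstance, inferInstanceAs (Finite V.I₀), hWstd.isAffine_obj,
    fun j => inferInstanceAs (LocallyOfFinitePresentation (pullback.snd _ _)),
    HTopLib.isVCover_of_isStandardV hWstd⟩, Equiv.refl _, ?_⟩
  have hpb : ∀ j, IsPullback (V.f j)
      (pullback.lift (m₀ j) (V.f j ≫ c.π.app i) (by rw [Category.assoc, c.w, (hsq₀ j).w]))
      (c.π.app i) (pullback.snd (f₀ j) (D.map φ)) := fun j =>
    (IsPullback.of_right (by rw [pullback.lift_fst, c.w]; exact hsq₀ j) (pullback.lift_snd _ _ _)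
      (IsPullback.of_hasPullback _ _)).flip
  exact ⟨fun j => (hpb j).isoPullback, fun j => (hpb j).isoPullback_hom_fst⟩

end Groth.Agent.HTopUltra
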