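import Groth.Agent.SGA1Desc.EffDescend
import Groth.Agent.SGA1Desc.Refine
import Groth.Agent.EtaleSite.TopInv

/-!
# Étale effective descent along a composite
-/

set_option autoImplicit false
set_option linter.style.haveILetI false
set_option maxHeartbeats 400000
set_option backward.isDefEq.respectTransparency false

universe u

open CategoryTheory CategoryTheory.Limits AlgebraicGeometry Topology TopologicalSpace
open Groth.Agent.SGA1Desc

namespace Groth.Agent.HTopUltra

variable {X S T₁ : Scheme.{u}} {g : X ⟶ S} {D : Desc.SchDD g} (hg : SGA1.UnivSubmersive g)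
  {c : T₁ ⟶ S} (E : Eff D (c ≫ 𝟙 S))

/-- Effectiveness of the descended datum gives effectiveness of the datum. -/
theorem exists_eff_of_translDatum [Etale D.obj.hom] (hc : SGA1.UnivSubmersive c)
    (hU : ∃ U : Over S, Etale U.hom ∧ Nonempty ((Desc.toDD c).obj U ≅ translDatum hg E)) :
    Nonempty (Eff D (𝟙 S)) := by
  haveI : Surjective c := SGA1Misc.univSubmersive_surjective hc
  let j₀ : S ⟶ S := 𝟙 S
  haveI hE : Etale E.str := E.etale
  obtain ⟨U, hUe, ⟨i⟩⟩ := hU
  obtain ⟨q₁, hsq₁, hq₁⟩ := exists_of_iso (D := translDatum hg E) i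
  let m := Eff.bcMap (D := D) c (c ≫ j₀) rfl
  have hm1 : m ≫ pullback.fst (D.obj.hom ≫ g) j₀ = pullback.fst _ _ := Eff.bcMap_fst _ _ _
  have hm2 : m ≫ pullback.snd (D.obj.hom ≫ g) j₀ = pullback.snd _ _ ≫ c := Eff.bcMap_snd _ _ _
  have hm : IsPullback m (pullback.snd (D.obj.hom ≫ g) (c ≫ j₀)) (pullback.snd (D.obj.hom ≫ g) j₀)
      c := Eff.isPullback_bcMap _ _ _
  haveI : Surjective m := MorphismProperty.of_isPullback hm.flip ‹Surjective c›
  haveI := hUe
  have hmu : SGA1.UnivSubmersive m :=
    (MorphismProperty.universally_isStableUnderBaseChange _).of_isPullback hm.flip hc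
  have hq₁' : q₁ ≫ U.hom = E.str ≫ c := hsq₁.w
  obtain ⟨q₀, hw, hq₀⟩ := exists_desc_etale (pullback.snd (D.obj.hom ≫ g) j₀) U.hom m hmu (E.q ≫ q₁)
    (by rw [Category.assoc, hq₁', reassoc_of% E.q_str, hm2]) (by
      simp only [← Category.assoc]
      refine hq₁ _ _ (rel_translDatum hg E ?_ ?_)
      · rw [← hm1, reassoc_of% (pullback.condition (f := m) (g := m))]; exact rel_refl _
      · rw [← hm2, reassoc_of% (pullback.condition (f := m) (g := m))])
  let z₀ := pullback.fst (D.obj.hom ≫ g) j₀ ≫ D.obj.hom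
  have hz₀ : z₀ ≫ g = q₀ ≫ U.hom ≫ j₀ := by
    rw [reassoc_of% hw, Category.assoc, pullback.condition]
  let k : pullback (D.obj.hom ≫ g) j₀ ⟶ pullback (U.hom ≫ j₀) g := pullback.lift q₀ z₀ hz₀.symm
  let θ : pullback (U.hom ≫ j₀) g ⟶ S := pullback.fst (U.hom ≫ j₀) g ≫ U.hom
  have hk : k ≫ θ = pullback.snd (D.obj.hom ≫ g) j₀ := by simp [k, θ, hw]
  let d : pullback (D.obj.hom ≫ g) (c ≫ j₀) ⟶ pullback θ c :=
    pullback.lift (m ≫ k) (pullback.snd _ _) (by rw [Category.assoc, hk, hm2])
  have hd : IsPullback m d k (pullback.fst θ c) := by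
    refine IsPullback.of_bot ?_ (pullback.lift_fst _ _ _).symm (IsPullback.of_hasPullback θ c)
    rw [hk, pullback.lift_snd]
    exact hm
  have hiso : IsIso d := by
    let l : pullback θ c ⟶ E.base := hsq₁.lift (pullback.fst θ c ≫ pullback.fst (U.hom ≫ j₀) g)
      (pullback.snd θ c) (by
        simp only [Category.assoc]
        exact pullback.condition (f := θ) (g := c))
    have hl1 : l ≫ q₁ = pullback.fst θ c ≫ pullback.fst (U.hom ≫ j₀) g := hsq₁.lift_fst _ _ _
    have hl2 : l ≫ E.str = pullback.snd θ c := hsq₁.lift_snd _ _ _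
    let d' : pullback θ c ⟶ pullback (D.obj.hom ≫ g) (c ≫ j₀) :=
      E.isPullback.lift l (pullback.fst θ c ≫ pullback.snd (U.hom ≫ j₀) g) (by
        rw [reassoc_of% hl2, ← pullback.condition_assoc (f := θ) (g := c)]
        simp [θ, j₀, ← pullback.condition])
    have hd'1 : d' ≫ E.q = l := E.isPullback.lift_fst _ _ _
    have hd'2 : d' ≫ pullback.fst _ _ ≫ D.obj.hom =
        pullback.fst θ c ≫ pullback.snd (U.hom ≫ j₀) g := E.isPullback.lift_snd _ _ _
    have hd1 : d ≫ pullback.fst θ c = m ≫ k := pullback.lift_fst _ _ _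
    have hd2 : d ≫ pullback.snd θ c = pullback.snd (D.obj.hom ≫ g) (c ≫ j₀) :=
      pullback.lift_snd _ _ _
    refine ⟨d', ?_, ?_⟩
    · refine E.isPullback.hom_ext ?_ ?_
      · rw [Category.assoc, hd'1, Category.id_comp]
        refine hsq₁.hom_ext ?_ ?_
        · rw [Category.assoc, hl1, reassoc_of% hd1, pullback.lift_fst, hq₀]
        · change (d ≫ l) ≫ E.str = E.q ≫ E.str
          rw [Category.assoc, hl2, hd2, E.q_str]
      · rw [Category.assoc, hd'2, reassoc_of% hd1, pullback.lift_snd, Category.id_comp]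
        rw [reassoc_of% hm1]
    · apply pullback.hom_ext
      · apply pullback.hom_ext
        · simp only [Category.assoc, Category.id_comp, reassoc_of% hd1, k, pullback.lift_fst]
          rw [hq₀, reassoc_of% hd'1, hl1]
        · simp only [Category.assoc, Category.id_comp, reassoc_of% hd1, k, pullback.lift_snd, z₀]
          rw [reassoc_of% hm1]
          exact hd'2
      · rw [Category.assoc, hd2, Category.id_comp, ← E.q_str, reassoc_of% hd'1, hl2]
  haveI := hiso
  haveI : Surjective (pullback.fst θ c) := MorphismProperty.pullback_fst _ _ ‹Surjective c›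
  haveI : Surjective (m ≫ k) := by
    rw [show m ≫ k = d ≫ pullback.fst θ c from (pullback.lift_fst _ _ _).symm]
    infer_instance
  haveI : Surjective k := Surjective.of_comp m k
  haveI : Surjective (pullback.diagonal k) := ⟨fun z => by
    let e := pullback.fst (pullback.fst k k ≫ pullback.snd (D.obj.hom ≫ g) j₀) c
    let t := pullback.snd (pullback.fst k k ≫ pullback.snd (D.obj.hom ≫ g) j₀) c
    have hkk : pullback.fst k k ≫ k = pullback.snd k k ≫ k := pullback.condition
    have hks : pullback.fst k k ≫ pullback.snd (D.obj.hom ≫ g) j₀ =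
        pullback.snd k k ≫ pullback.snd (D.obj.hom ≫ g) j₀ := by
      rw [← hk, reassoc_of% hkk]
    have het : e ≫ pullback.fst k k ≫ pullback.snd (D.obj.hom ≫ g) j₀ = t ≫ c := pullback.condition
    let a₁ := hm.lift (e ≫ pullback.fst k k) t (by rw [Category.assoc, het])
    let b₁ := hm.lift (e ≫ pullback.snd k k) t (by rw [Category.assoc, ← hks, het])
    have hab : a₁ = b₁ := by
      rw [← cancel_mono d]
      apply pullback.hom_ext
      · simp only [Category.assoc, d, pullback.lift_fst]
        rw [← Category.assoc, ← Category.assoc b₁, hm.lift_fst, hm.lift_fst, Category.assoc, Category.assoc, hkk]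
      · simp only [Category.assoc, d, pullback.lift_snd]
        rw [hm.lift_snd, hm.lift_snd]
    have heq : e ≫ pullback.fst k k = e ≫ pullback.snd k k := by
      rw [← hm.lift_fst (e ≫ pullback.fst k k) t (by rw [Category.assoc, het])]
      show a₁ ≫ m = _
      rw [hab, hm.lift_fst]
    have hfac : (e ≫ pullback.fst k k) ≫ pullback.diagonal k = e := by
      apply pullback.hom_ext
      · rw [Category.assoc, pullback.diagonal_fst]
        exact Category.comp_id _
      · rw [Category.assoc, pullback.diagonal_snd]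
        exact (Category.comp_id _).trans heq
    haveI : Surjective e := MorphismProperty.pullback_fst _ _ ‹Surjective c›
    obtain ⟨w, rfl⟩ := e.surjective z
    exact ⟨(e ≫ pullback.fst k k) w, by rw [← Scheme.Hom.comp_apply, hfac]⟩⟩
  haveI : UniversallyInjective k := (UniversallyInjective.iff_diagonal k).2 ‹_›
  haveI : Etale (U.hom ≫ j₀) := inferInstanceAs (Etale (U.hom ≫ 𝟙 S))
  haveI : Etale (pullback.snd (U.hom ≫ j₀) g) := MorphismProperty.pullback_snd _ _ ‹_›
  haveI : Etale z₀ := by
    haveI : IsIso (pullback.fst (D.obj.hom ≫ g) j₀) :=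
      inferInstanceAs (IsIso (pullback.fst (D.obj.hom ≫ g) (𝟙 S)))
    exact inferInstanceAs (Etale (pullback.fst (D.obj.hom ≫ g) j₀ ≫ D.obj.hom))
  haveI : Etale (k ≫ pullback.snd (U.hom ≫ j₀) g) := by
    rw [show k ≫ pullback.snd (U.hom ≫ j₀) g = z₀ from pullback.lift_snd _ _ _]
    infer_instance
  haveI : Etale k := Etale.of_comp k (pullback.snd (U.hom ≫ j₀) g)
  have hkiso : IsIso k := EtaleSite.isIso_of_etale_of_universallyInjective k
  haveI : IsIso k := hkiso
  have hsq : IsPullback q₀ z₀ (U.hom ≫ j₀) g :=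
    IsPullback.of_iso_pullback ⟨hz₀.symm⟩ (asIso k) (by simp [k]) (by simp [k])
  refine ⟨{ base := U.left, str := U.hom, etale := hUe, q := q₀, q_str := hw,
            isPullback := hsq, compat := fun W a b hr hs => ?_ }⟩
  let e := pullback.fst (a ≫ pullback.snd (D.obj.hom ≫ g) j₀) c
  let t := pullback.snd (a ≫ pullback.snd (D.obj.hom ≫ g) j₀) c
  haveI : Surjective e := MorphismProperty.pullback_fst _ _ ‹Surjective c›
  have het : e ≫ a ≫ pullback.snd (D.obj.hom ≫ g) j₀ = t ≫ c := pullback.condition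
  let a₁ := hm.lift (e ≫ a) t (by rw [Category.assoc, het])
  let b₁ := hm.lift (e ≫ b) t (by rw [Category.assoc, ← hs, het])
  have ha₁ : a₁ ≫ m = e ≫ a := hm.lift_fst _ _ _
  have hb₁ : b₁ ≫ m = e ≫ b := hm.lift_fst _ _ _
  have := E.compat a₁ b₁ (by
    rw [← hm1, reassoc_of% ha₁, reassoc_of% hb₁]; exact rel_comp e hr)
    (by rw [hm.lift_snd, hm.lift_snd])
  refine SGA1Misc.eq_of_surjective_comp_eq U.hom _ _ (by rw [Category.assoc, Category.assoc, hw, hs]) e ?_
  rw [← reassoc_of% ha₁, ← reassoc_of% hb₁, hq₀, reassoc_of% this]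

end Groth.Agent.HTopUltra
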