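import Groth.Agent.SGA1Desc.Glue
import Groth.Agent.SGA1Desc.Etale
import Groth.Agent.SGA1Desc.CompletionEff

/-!
# Gluing étale descended pieces along stable opens
-/

set_option autoImplicit false
set_option linter.style.haveILetI false
set_option backward.isDefEq.respectTransparency false

universe u

open CategoryTheory CategoryTheory.Limits AlgebraicGeometry Topology TopologicalSpace
open Groth.Agent.SGA1Desc

namespace Groth.Agent.HTopUltra.EtGlue

variable {X S : Scheme.{u}} {p : X ⟶ S} {D : Desc.SchDD p}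

section lemmas

variable (hp : SGA1.UnivSubmersive p) {W : D.obj.left.Opens} (P : Piece D W)

include hp

theorem univSubmersive_q : SGA1.UnivSubmersive P.q :=
  (MorphismProperty.universally_isStableUnderBaseChange _).of_isPullback P.isPullback.flip hp

theorem surjective_q : Surjective P.q := SGA1Misc.univSubmersive_surjective (univSubmersive_q hp P)

theorem hom_ext_etale {V : Scheme.{u}} (v : V ⟶ S) {f g : P.base ⟶ V} [h : Etale v]
    (hf : f ≫ v = g ≫ v) (hq : P.q ≫ f = P.q ≫ g) : f = g :=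
  haveI := surjective_q hp P
  SGA1Misc.eq_of_surjective_comp_eq v f g hf P.q hq

theorem isOpen_image (O : D.obj.left.Opens) (hO : Stable D O) :
    IsOpen (P.q.base '' (W.ι.base ⁻¹' O)) := by
  have hq : Topology.IsQuotientMap P.q.base :=
    MorphismProperty.universally_le _ _ (univSubmersive_q hp P)
  rw [← hq.isOpen_preimage]
  convert (W.ι ⁻¹ᵁ O).isOpen using 1
  ext x
  exact ⟨fun ⟨y, hy, hyx⟩ => P.mem_of_eq hO hyx hy, fun hx => ⟨x, hx, rfl⟩⟩

theorem exists_restrict' (he : Etale P.str) {W' : D.obj.left.Opens} (hW' : Stable D W') (h : W' ≤ W) :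
    ∃ (R : Piece D W') (ι : R.base ⟶ P.base), Etale R.str ∧ IsOpenImmersion ι ∧
      R.q ≫ ι = D.obj.left.homOfLE h ≫ P.q ∧ ι ≫ P.str = R.str ∧
      Set.range ι.base = P.q.base '' (W.ι.base ⁻¹' W') := by
  let O : P.base.Opens := ⟨_, isOpen_image hp P W' hW'⟩
  have hpre : P.q ⁻¹ᵁ O = W.ι ⁻¹ᵁ W' :=
    TopologicalSpace.Opens.ext (Set.ext fun x =>
      ⟨fun ⟨y, hy, hyx⟩ => P.mem_of_eq hW' hyx hy, fun hx => ⟨x, hx, rfl⟩⟩)
  have hle : ∀ w, (D.obj.left.homOfLE h ≫ P.q).base w ∈ O := fun w => by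
    change (D.obj.left.homOfLE h).base w ∈ P.q ⁻¹ᵁ O
    rw [hpre]
    change (D.obj.left.homOfLE h ≫ W.ι).base w ∈ W'
    rw [Scheme.homOfLE_ι]
    exact w.2
  let q' : W'.toScheme ⟶ O.toScheme := IsOpenImmersion.lift O.ι (D.obj.left.homOfLE h ≫ P.q) (by
    rintro _ ⟨w, rfl⟩
    rw [Scheme.Opens.range_ι]
    exact hle w)
  have hq' : q' ≫ O.ι = D.obj.left.homOfLE h ≫ P.q := IsOpenImmersion.lift_fac _ _ _
  haveI := he
  let R : Piece D W' :=
    { stable := hW'
      base := O.toScheme
      str := O.ι ≫ P.str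
      q := q'
      isPullback := by
        have hr : P.q ⁻¹ᵁ O.ι.opensRange = (D.obj.left.homOfLE h).opensRange := by
          rw [Scheme.Opens.opensRange_ι, hpre]
          refine TopologicalSpace.Opens.ext (Set.ext fun x => ⟨fun hx => ⟨⟨x.1, hx⟩, ?_⟩, ?_⟩)
          · apply W.ι.isOpenEmbedding.injective
            rw [← Scheme.Hom.comp_apply, Scheme.homOfLE_ι]
            rfl
          · rintro ⟨w, rfl⟩
            change (D.obj.left.homOfLE h ≫ W.ι).base w ∈ W'
            rw [Scheme.homOfLE_ι]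
            exact w.2
        have h1 := (IsOpenImmersion.isPullback q' (D.obj.left.homOfLE h) O.ι P.q
          hq'.symm hr).paste_vert P.isPullback
        rwa [Scheme.homOfLE_ι_assoc] at h1
      compat := fun T a b hab => by
        rw [← cancel_mono O.ι, Category.assoc, Category.assoc, hq', ← Category.assoc, ← Category.assoc]
        exact P.compat _ _ (by simpa [Category.assoc] using hab) }
  exact ⟨R, O.ι, inferInstanceAs (Etale (O.ι ≫ P.str)), inferInstanceAs (IsOpenImmersion O.ι), hq', rfl,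
    Scheme.Opens.range_ι O⟩

theorem exists_restrict (he : Etale P.str) {W' : D.obj.left.Opens} (hW' : Stable D W') (h : W' ≤ W) :
    ∃ R : Piece D W', Etale R.str := by
  obtain ⟨R, -, hR, -⟩ := exists_restrict' hp P he hW' h
  exact ⟨R, hR⟩

theorem exists_desc {V : Scheme.{u}} (v : V ⟶ S) [Etale v] (f : W.toScheme ⟶ V)
    (hv : f ≫ v = P.q ≫ P.str)
    (hf : ∀ ⦃T : Scheme.{u}⦄ (a b : T ⟶ W.toScheme),
      Rel D (a ≫ W.ι) (b ≫ W.ι) → a ≫ f = b ≫ f) :
    ∃ g : P.base ⟶ V, g ≫ v = P.str ∧ P.q ≫ g = f :=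
  exists_desc_etale P.str v P.q (univSubmersive_q hp P) f hv (hf _ _ (P.rel_of_eq pullback.condition))

theorem exists_map (he : Etale P.str) {W' : D.obj.left.Opens} (P' : Piece D W') (he' : Etale P'.str)
    (h : W ≤ W') :
    ∃ g : P.base ⟶ P'.base, IsOpenImmersion g ∧ P.q ≫ g = D.obj.left.homOfLE h ≫ P'.q ∧
      g ≫ P'.str = P.str ∧ Set.range g.base = P'.q.base '' (W'.ι.base ⁻¹' W) := by
  obtain ⟨R, ι, hR, hι, hfac, hιs, hrange⟩ := exists_restrict' hp P' he' P.stable h
  obtain ⟨g₁, hg₁s, hg₁⟩ := exists_desc hp P R.str R.q (by rw [R.q_w, P.q_w]) R.compat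
  obtain ⟨g₂, hg₂s, hg₂⟩ := exists_desc hp R P.str P.q (by rw [R.q_w, P.q_w]) P.compat
  have e1 : g₁ ≫ g₂ = 𝟙 _ := hom_ext_etale hp P P.str (h := he)
    (by rw [Category.assoc, hg₂s, hg₁s, Category.id_comp]) (by rw [reassoc_of% hg₁, hg₂, Category.comp_id])
  have e2 : g₂ ≫ g₁ = 𝟙 _ := hom_ext_etale hp R R.str (h := hR)
    (by rw [Category.assoc, hg₁s, hg₂s, Category.id_comp]) (by rw [reassoc_of% hg₂, hg₁, Category.comp_id])
  haveI : IsIso g₁ := ⟨g₂, e1, e2⟩
  refine ⟨g₁ ≫ ι, inferInstance, by rw [reassoc_of% hg₁, hfac], by rw [Category.assoc, hιs, hg₁s], ?_⟩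
  rw [Scheme.Hom.comp_base, TopCat.coe_comp,
    (show Function.Surjective g₁.base from g₁.homeomorph.surjective).range_comp, hrange]

end lemmas

variable (D)

/-- Stable opens over which the datum descends to an étale scheme. -/
abbrev EtGood : Type u := {W : D.obj.left.Opens // ∃ P : Piece D W, Etale P.str}

/-- A chosen piece. -/
noncomputable def EtGood.piece {D : Desc.SchDD p} (i : EtGood D) : Piece D i.1 := i.2.choose

theorem EtGood.etale {D : Desc.SchDD p} (i : EtGood D) : Etale i.piece.str := i.2.choose_spec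

/-- A descent datum covered by stable opens over which it descends is effective. -/
theorem exists_etPiece_top (hp : SGA1.UnivSubmersive p) (hcov : ∀ z : D.obj.left, ∃ W : D.obj.left.Opens,
    z ∈ W ∧ ∃ P : Piece D W, Etale P.str) : ∃ P : Piece D ⊤, Etale P.str := by
  have hmap : ∀ {i j : EtGood D} (h : i ≤ j), ∃ g : i.piece.base ⟶ j.piece.base, IsOpenImmersion g ∧
      i.piece.q ≫ g = D.obj.left.homOfLE h ≫ j.piece.q ∧ g ≫ j.piece.str = i.piece.str ∧
      Set.range g.base = j.piece.q.base '' (j.1.ι.base ⁻¹' i.1) :=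
    fun {i j} h => exists_map hp i.piece i.etale j.piece j.etale h
  choose m hmo hmq hms hmr using @hmap
  let F : EtGood D ⥤ Scheme.{u} :=
    { obj := fun i => i.piece.base
      map := fun f => m (leOfHom f)
      map_id := fun i => by
        refine hom_ext_etale hp i.piece i.piece.str (h := i.etale) (by rw [hms, Category.id_comp]) ?_
        rw [hmq, Scheme.homOfLE_rfl, Category.id_comp, Category.comp_id]
      map_comp := fun {i j k} f g => by
        refine hom_ext_etale hp i.piece k.piece.str (h := k.etale) (by rw [Category.assoc, hms, hms, hms]) ?_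
        rw [hmq, reassoc_of% (hmq (leOfHom f)), hmq, Scheme.homOfLE_homOfLE_assoc] }
  haveI : ∀ {i j : EtGood D} (f : i ⟶ j), IsOpenImmersion (F.map f) := fun f => hmo (leOfHom f)
  haveI : (F ⋙ Scheme.forget).IsLocallyDirected := ⟨fun {i j k} fi fj xi xj h => by
    haveI := surjective_q hp k.piece
    obtain ⟨w, hw⟩ := k.piece.q.surjective ((F.map fi).base xi)
    have hwi : w.1 ∈ i.1 := by
      obtain ⟨w', hw', he⟩ := (hmr (leOfHom fi)).le ⟨xi, rfl⟩
      exact k.piece.mem_of_eq i.piece.stable (he.trans hw.symm) hw'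
    have hwj : w.1 ∈ j.1 := by
      obtain ⟨w', hw', he⟩ := (hmr (leOfHom fj)).le ⟨xj, rfl⟩
      exact k.piece.mem_of_eq j.piece.stable (he.trans (h.symm.trans hw.symm)) hw'
    let l : EtGood D := ⟨i.1 ⊓ j.1,
      exists_restrict hp i.piece i.etale (i.piece.stable.inf j.piece.stable) inf_le_left⟩
    have hli : l ≤ i := inf_le_left (b := j.1)
    have hlj : l ≤ j := inf_le_right (a := i.1)
    let wl : l.1.toScheme := ⟨w.1, hwi, hwj⟩
    have key : ∀ (n : EtGood D) (hn : l ≤ n) (hnk : n ≤ k),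
        (m hnk).base ((m hn).base (l.piece.q.base wl)) = k.piece.q.base w := by
      intro n hn hnk
      have e : l.piece.q ≫ m hn ≫ m hnk = D.obj.left.homOfLE (hn.trans hnk) ≫ k.piece.q := by
        rw [reassoc_of% (hmq hn), hmq, Scheme.homOfLE_homOfLE_assoc]
      refine (congrArg (fun f => f.base wl) e).trans ?_
      change k.piece.q.base ((D.obj.left.homOfLE _).base wl) = _
      congr 1
      apply k.1.ι.isOpenEmbedding.injective
      rw [← Scheme.Hom.comp_apply, Scheme.homOfLE_ι]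
      rfl
    refine ⟨l, homOfLE hli, homOfLE hlj, l.piece.q.base wl, ?_, ?_⟩
    · exact (hmo (leOfHom fi)).base_open.injective ((key i hli (leOfHom fi)).trans hw)
    · exact (hmo (leOfHom fj)).base_open.injective
        (((key j hlj (leOfHom fj)).trans hw).trans h)⟩
  let str : colimit F ⟶ S := colimit.desc F
    ⟨S, { app := fun i => i.piece.str, naturality := fun i j f => by simp [F, hms] }⟩
  have hstr : ∀ i, colimit.ι F i ≫ str = i.piece.str := fun i => colimit.ι_desc _ _
  -- the projection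
  choose Wz hWz hPz using hcov
  let idx : D.obj.left → EtGood D := fun z => ⟨Wz z, hPz z⟩
  have hsup : IsOpenCover (fun i : EtGood D => i.1) := by
    refine IsOpenCover.mk (eq_top_iff.2 fun z _ => ?_)
    exact Opens.mem_iSup.2 ⟨idx z, hWz z⟩
  let 𝒰 := D.obj.left.openCoverOfIsOpenCover (fun i : EtGood D => i.1) hsup
  have hinf : ∀ i j : EtGood D, ∃ P : Piece D (i.1 ⊓ j.1), Etale P.str := fun i j =>
    exists_restrict hp i.piece i.etale (i.piece.stable.inf j.piece.stable) inf_le_left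
  have hcompat : ∀ (i j : EtGood D) {T : Scheme.{u}} (a : T ⟶ i.1.toScheme) (b : T ⟶ j.1.toScheme),
      a ≫ i.1.ι = b ≫ j.1.ι →
      a ≫ i.piece.q ≫ colimit.ι F i = b ≫ j.piece.q ≫ colimit.ι F j := by
    intro i j T a b hab
    let l : EtGood D := ⟨i.1 ⊓ j.1, hinf i j⟩
    have hr : Set.range (a ≫ i.1.ι).base ⊆ Set.range l.1.ι.base := by
      rintro _ ⟨t, rfl⟩
      rw [Scheme.Opens.range_ι]
      refine ⟨(a.base t).2, ?_⟩
      rw [hab]
      exact (b.base t).2
    let c := IsOpenImmersion.lift l.1.ι (a ≫ i.1.ι) hr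
    have hci : c ≫ D.obj.left.homOfLE (inf_le_left (b := j.1)) = a := by
      rw [← cancel_mono i.1.ι, Category.assoc, Scheme.homOfLE_ι, IsOpenImmersion.lift_fac]
    have hcj : c ≫ D.obj.left.homOfLE (inf_le_right (a := i.1)) = b := by
      rw [← cancel_mono j.1.ι, Category.assoc, Scheme.homOfLE_ι, IsOpenImmersion.lift_fac, hab]
    have li : l ≤ i := inf_le_left (b := j.1)
    have lj : l ≤ j := inf_le_right (a := i.1)
    have h1 := colimit.w F (homOfLE li)
    have h2 := colimit.w F (homOfLE lj)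
    rw [← hci, ← hcj, Category.assoc, Category.assoc,
      ← reassoc_of% (hmq li), ← reassoc_of% (hmq lj)]
    exact (congrArg (fun f => c ≫ l.piece.q ≫ f) h1).trans
      (congrArg (fun f => c ≫ l.piece.q ≫ f) h2).symm
  let q : D.obj.left ⟶ colimit F := 𝒰.glueMorphisms (fun i => i.piece.q ≫ colimit.ι F i)
    (fun i j => hcompat i j _ _ pullback.condition)
  have hq : ∀ i : EtGood D, i.1.ι ≫ q = i.piece.q ≫ colimit.ι F i := fun i =>
    𝒰.ι_glueMorphisms _ _ i
  have hqp : ∀ i : EtGood D, q ⁻¹ᵁ (colimit.ι F i).opensRange = i.1 := by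
    intro i
    refine TopologicalSpace.Opens.ext (Set.ext fun z => ⟨?_, fun hz => ?_⟩)
    · rintro ⟨xi, hxi⟩
      let j := idx z
      have hj : q.base z = (colimit.ι F j).base (j.piece.q.base ⟨z, hWz z⟩) := by
        rw [← Scheme.Hom.comp_apply, ← hq]
        rfl
      obtain ⟨l, fi, fj, x, -, hx⟩ :=
        (Scheme.IsLocallyDirected.ι_eq_ι_iff F).1 (hxi.trans hj)
      obtain ⟨w', hw', he⟩ := (hmr (leOfHom fj)).le ⟨x, rfl⟩
      have : z ∈ l.1 := j.piece.mem_of_eq l.piece.stable (he.trans hx) hw'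
      exact leOfHom fi this
    · refine ⟨i.piece.q.base ⟨z, hz⟩, ?_⟩
      rw [← Scheme.Hom.comp_apply, ← hq]
      rfl
  haveI : IsIso (⊤ : D.obj.left.Opens).ι := (Scheme.topIso D.obj.left).isIso_hom
  refine ⟨{ stable := stable_top, base := colimit F, str := str, q := (⊤ : D.obj.left.Opens).ι ≫ q,
            isPullback := ?_, compat := ?_ }, IsZariskiLocalAtSource.of_openCover
              (Scheme.IsLocallyDirected.openCover F) fun i => ?_⟩
  · have hZ : IsPullback q D.obj.hom str p := by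
      refine Scheme.isPullback_of_openCover _ _ _ _ (Scheme.IsLocallyDirected.openCover F) fun i => ?_
      have h1 : IsPullback i.piece.q i.1.ι (colimit.ι F i) q :=
        IsOpenImmersion.isPullback _ _ _ _ (hq i)
          ((hqp i).trans (Scheme.Opens.opensRange_ι i.1).symm)
      let e := h1.flip.isoPullback
      refine IsPullback.of_iso i.piece.isPullback e (Iso.refl _) (Iso.refl _) (Iso.refl _) ?_ ?_ ?_ ?_
      · simp only [Iso.refl_hom, Category.comp_id]
        exact h1.flip.isoPullback_hom_snd.symm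
      · simp only [Iso.refl_hom, Category.comp_id]
        change _ = e.hom ≫ pullback.fst q _ ≫ D.obj.hom
        rw [h1.flip.isoPullback_hom_fst_assoc]
      · simp only [Iso.refl_hom, Category.comp_id, Category.id_comp]
        exact (hstr i).symm
      · simp
    exact IsPullback.of_iso hZ (asIso (⊤ : D.obj.left.Opens).ι).symm (Iso.refl _) (Iso.refl _)
      (Iso.refl _) (by simp) (by simp) (by simp) (by simp)
  · intro T a b hab
    rw [← Category.assoc, ← Category.assoc]
    let A := fun i : EtGood D => (a ≫ (⊤ : D.obj.left.Opens).ι) ⁻¹ᵁ i.1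
    have hA : IsOpenCover A := by
      refine IsOpenCover.mk (eq_top_iff.2 fun t _ => Opens.mem_iSup.2 ?_)
      exact ⟨idx _, hWz ((a ≫ (⊤ : D.obj.left.Opens).ι).base t)⟩
    refine Scheme.Cover.hom_ext (T.openCoverOfIsOpenCover A hA) _ _ fun i => ?_
    change (A i).ι ≫ _ = (A i).ι ≫ _
    have hb : A i ≤ (b ≫ (⊤ : D.obj.left.Opens).ι) ⁻¹ᵁ i.1 := i.piece.stable _ _ hab
    let a' := (a ≫ (⊤ : D.obj.left.Opens).ι).resLE i.1 (A i) le_rfl
    let b' := (b ≫ (⊤ : D.obj.left.Opens).ι).resLE i.1 (A i) hb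
    have ha' : a' ≫ i.1.ι = (A i).ι ≫ a ≫ (⊤ : D.obj.left.Opens).ι :=
      Scheme.Hom.resLE_comp_ι _ _
    have hb' : b' ≫ i.1.ι = (A i).ι ≫ b ≫ (⊤ : D.obj.left.Opens).ι :=
      Scheme.Hom.resLE_comp_ι _ _
    have := i.piece.compat a' b' (by rw [ha', hb']; exact rel_comp _ hab)
    simp only [Category.assoc] at ha' hb' ⊢
    rw [← reassoc_of% ha', ← reassoc_of% hb', hq, reassoc_of% this]
  · show Etale (colimit.ι F i ≫ str)
    rw [hstr]
    exact i.etale

theorem range_lift {W : D.obj.left.Opens} (hW : Stable D W) {T : Scheme.{u}} {a b : T ⟶ D.obj.left}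
    (h : Rel D a b) (ha : ∀ t, a.base t ∈ W) : Set.range b.base ⊆ Set.range W.ι.base := by
  rintro _ ⟨t, rfl⟩
  rw [Scheme.Opens.range_ι]
  exact hW a b h (ha t)

/-- The datum on a stable open. -/
@[reducible] noncomputable def restrictDatum (W : D.obj.left.Opens) (hW : Stable D W) : Desc.SchDD p where
  obj := Over.mk (W.ι ≫ D.obj.hom)
  φ T x₀ x₁ h :=
    { toFun := fun v =>
        let w := D.φ x₀ x₁ h ⟨v.1 ≫ W.ι, (Category.assoc _ _ _).trans v.2⟩
        ⟨IsOpenImmersion.lift W.ι w.1 (range_lift D hW (rel_of_phi x₀ x₁ h _) (fun t => (v.1.base t).2)), by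
          show _ ≫ W.ι ≫ D.obj.hom = x₁
          rw [IsOpenImmersion.lift_fac_assoc]; exact w.2⟩
      invFun := fun v =>
        let w := D.φ x₁ x₀ h.symm ⟨v.1 ≫ W.ι, (Category.assoc _ _ _).trans v.2⟩
        ⟨IsOpenImmersion.lift W.ι w.1 (range_lift D hW (rel_of_phi x₁ x₀ h.symm _) (fun t => (v.1.base t).2)), by
          show _ ≫ W.ι ≫ D.obj.hom = x₀
          rw [IsOpenImmersion.lift_fac_assoc]; exact w.2⟩
      left_inv := fun v => by
        refine Subtype.ext ((cancel_mono W.ι).1 ?_)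
        simp only [IsOpenImmersion.lift_fac, Subtype.coe_eta, D.φ_comp, D.φ_self]
      right_inv := fun v => by
        refine Subtype.ext ((cancel_mono W.ι).1 ?_)
        simp only [IsOpenImmersion.lift_fac, Subtype.coe_eta, D.φ_comp, D.φ_self] }
  φ_natural T T' k x₀ x₁ h h' v v' hv := by
    refine (cancel_mono W.ι).1 ?_
    simp only [Equiv.coe_fn_mk, Category.assoc, IsOpenImmersion.lift_fac]
    exact D.φ_natural k x₀ x₁ h h' _ _ (by show v'.1 ≫ W.ι = k ≫ v.1 ≫ W.ι; rw [hv, Category.assoc])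
  φ_self T x v := Subtype.ext ((cancel_mono W.ι).1 (by simp [D.φ_self]))
  φ_comp T x₀ x₁ x₂ h₀₁ h₁₂ v := Subtype.ext ((cancel_mono W.ι).1 (by simp [D.φ_comp]))

theorem rel_restrictDatum {W : D.obj.left.Opens} (hW : Stable D W) {T : Scheme.{u}}
    (a b : T ⟶ W.toScheme) : Rel (restrictDatum D W hW) a b ↔ Rel D (a ≫ W.ι) (b ≫ W.ι) := by
  constructor
  · rintro ⟨h, hb⟩
    have h1 := congrArg (· ≫ W.ι) hb
    simp only [restrictDatum, Equiv.coe_fn_mk, IsOpenImmersion.lift_fac] at h1
    exact h1 ▸ rel_of_phi _ _ h ⟨a ≫ W.ι, Category.assoc _ _ _⟩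
  · intro hr
    have h' : (a ≫ (restrictDatum D W hW).obj.hom) ≫ p = (b ≫ (restrictDatum D W hW).obj.hom) ≫ p := by
      simpa [Category.assoc] using hr.1
    refine ⟨h', (cancel_mono W.ι).1 ?_⟩
    simp only [restrictDatum, Equiv.coe_fn_mk, IsOpenImmersion.lift_fac]
    exact phi_eq_of_rel hr _ _ _ (Category.assoc _ _ _) (Category.assoc _ _ _)

/-- Effectiveness of the datum on a stable open gives an étale piece. -/
theorem exists_etPiece_of_eff {W : D.obj.left.Opens} (hW : Stable D W)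
    (E : Eff (restrictDatum D W hW) (𝟙 S)) : ∃ P : Piece D W, Etale P.str := by
  let π := pullback.fst ((restrictDatum D W hW).obj.hom ≫ p) (𝟙 S)
  haveI : IsIso π := inferInstanceAs (IsIso (pullback.fst ((restrictDatum D W hW).obj.hom ≫ p) (𝟙 S)))
  have hπ : π ≫ (restrictDatum D W hW).obj.hom ≫ p = pullback.snd _ _ :=
    pullback.condition.trans (Category.comp_id _)
  let q : W.toScheme ⟶ E.base := inv π ≫ E.q
  refine ⟨{ stable := hW, base := E.base, str := E.str, q := q, isPullback := ?_, compat := ?_ }, E.etale⟩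
  · have := E.isPullback
    rw [Category.comp_id] at this
    exact IsPullback.of_iso this (asIso π) (Iso.refl _) (Iso.refl _) (Iso.refl _)
      (by simp [q]) (by simp [π, restrictDatum]) (by simp) (by simp)
  · intro T a b hab
    simp only [q, ← Category.assoc]
    have hr := (rel_restrictDatum D hW a b).2 hab
    refine E.compat _ _ (by simpa [π] using hr) ?_
    have h3 : ∀ c : T ⟶ W.toScheme, (c ≫ inv π) ≫ pullback.snd _ (𝟙 S) =
        (c ≫ (restrictDatum D W hW).obj.hom) ≫ p := fun c => by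
      rw [← hπ]; simp
    exact (h3 a).trans (hr.1.trans (h3 b).symm)

/-- An étale datum covered by stable opens with effective restrictions is effective. -/
theorem exists_eff_of_cover (hp : SGA1.UnivSubmersive p)
    (hcov : ∀ z : D.obj.left, ∃ (W : D.obj.left.Opens) (hW : Stable D W),
      z ∈ W ∧ Nonempty (Eff (restrictDatum D W hW) (𝟙 S))) : Nonempty (Eff D (𝟙 S)) := by
  obtain ⟨P, hP⟩ := exists_etPiece_top D hp fun z => by
    obtain ⟨W, hW, hz, ⟨E⟩⟩ := hcov z
    exact ⟨W, hz, exists_etPiece_of_eff D hW E⟩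
  haveI : IsIso (⊤ : D.obj.left.Opens).ι := (Scheme.topIso D.obj.left).isIso_hom
  let π := pullback.fst (D.obj.hom ≫ p) (𝟙 S)
  haveI : IsIso π := inferInstanceAs (IsIso (pullback.fst (D.obj.hom ≫ p) (𝟙 S)))
  have hπ : π ≫ D.obj.hom ≫ p = pullback.snd _ _ := pullback.condition.trans (Category.comp_id _)
  refine ⟨{ base := P.base, str := P.str, etale := hP,
            q := π ≫ inv (⊤ : D.obj.left.Opens).ι ≫ P.q, q_str := ?_, isPullback := ?_, compat := ?_ }⟩
  · rw [Category.assoc, Category.assoc, P.q_w, IsIso.inv_hom_id_assoc, hπ]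
  · rw [Category.comp_id]
    exact IsPullback.of_iso P.isPullback (asIso (⊤ : D.obj.left.Opens).ι ≪≫ (asIso π).symm) (Iso.refl _)
      (Iso.refl _) (Iso.refl _) (by simp) (by simp [π]) (by simp) (by simp)
  · intro T a b hr _
    simp only [← Category.assoc]
    exact P.compat _ _ (by simpa [π] using hr)

end Groth.Agent.HTopUltra.EtGlue
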