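import Groth.Agent.WN.Scheme
import Mathlib.AlgebraicGeometry.Morphisms.Proper
import Mathlib.RingTheory.TensorProduct.Free

/-!
# Functions on a universally closed surjection descend to a seminormal base
-/

set_option autoImplicit false
set_option linter.style.haveILetI false

universe u

open CategoryTheory CategoryTheory.Limits AlgebraicGeometry TopologicalSpace TensorProduct

namespace Groth.Agent.HTopUltra.SNDescent

/-- An element of a field extension with `z ⊗ 1 = 1 ⊗ z` is in the base field. -/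
theorem mem_range_of_tmul_eq {K L : Type u} [Field K] [Field L] [Algebra K L] {z : L}
    (h : z ⊗ₜ[K] (1 : L) = (1 : L) ⊗ₜ[K] z) : z ∈ (algebraMap K L).range := by
  by_contra hz
  have hni : z ∉ Submodule.span K ({1} : Set L) := fun hm => by
    obtain ⟨c, hc⟩ := Submodule.mem_span_singleton.1 hm
    exact hz ⟨c, by rw [Algebra.algebraMap_eq_smul_one, hc]⟩
  obtain ⟨f, hf1, hf⟩ := Submodule.exists_dual_map_eq_bot_of_notMem hni inferInstance
  have hf0 : f 1 = 0 := by
    have := Submodule.mem_map_of_mem (f := f) (Submodule.mem_span_singleton_self (R := K) (1 : L))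
    rw [hf] at this
    exact this
  have := congrArg (TensorProduct.lift (LinearMap.lsmul K L ∘ₗ f)) h
  simp [TensorProduct.lift.tmul, hf0] at this
  exact hf1 (by simpa using this)

theorem appTop_eq_of_comp_eq {X Y T : Scheme.{u}} (π : Y ⟶ X) (s : Γ(Y, ⊤))
    (hs : (pullback.fst π π).appTop s = (pullback.snd π π).appTop s) (a b : T ⟶ Y) (h : a ≫ π = b ≫ π) :
    a.appTop s = b.appTop s := by
  conv_lhs => rw [← pullback.lift_fst a b h]
  conv_rhs => rw [← pullback.lift_snd a b h]
  rw [Scheme.Hom.comp_appTop, Scheme.Hom.comp_appTop, ConcreteCategory.comp_apply,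
    ConcreteCategory.comp_apply, hs]

theorem appTop_map_eq {R S : Type u} [CommRing R] [CommRing S] (g : R →+* S) (x : R) :
    (Spec.map (CommRingCat.ofHom g)).appTop ((Scheme.ΓSpecIso (CommRingCat.of R)).inv x) =
      (Scheme.ΓSpecIso (CommRingCat.of S)).inv (g x) := by
  show ((Scheme.ΓSpecIso _).inv ≫ (Spec.map (CommRingCat.ofHom g)).appTop) x = _
  rw [← Scheme.ΓSpecIso_inv_naturality]
  rfl

theorem appTop_comp_map {T : Scheme.{u}} {R S : Type u} [CommRing R] [CommRing S]
    (r : T ⟶ Spec (CommRingCat.of S)) (g : R →+* S) (x : R) :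
    (r ≫ Spec.map (CommRingCat.ofHom g)).appTop ((Scheme.ΓSpecIso (CommRingCat.of R)).inv x) =
      r.appTop ((Scheme.ΓSpecIso (CommRingCat.of S)).inv (g x)) := by
  rw [Scheme.Hom.comp_appTop, ConcreteCategory.comp_apply, appTop_map_eq]

theorem surjective_affine {X Y : Scheme.{u}} [IsAffine X] (hA : HTop.IsSeminormalRing Γ(X, ⊤))
    (π : Y ⟶ X) [UniversallyClosed π] [Surjective π] [AlgebraicGeometry.IsReduced Y] (s : Γ(Y, ⊤))
    (hs : (pullback.fst π π).appTop s = (pullback.snd π π).appTop s) :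
    ∃ t : Γ(X, ⊤), π.appTop t = s := by
  letI := π.appTop.hom.toAlgebra
  haveI : _root_.IsReduced Γ(Y, ⊤) := inferInstance
  let R : Subalgebra Γ(X, ⊤) Γ(Y, ⊤) := Algebra.adjoin Γ(X, ⊤) {s}
  haveI : _root_.IsReduced R := isReduced_of_injective R.val Subtype.coe_injective
  let φ : Γ(X, ⊤) →+* R := algebraMap Γ(X, ⊤) R
  have hint : φ.IsIntegral := by
    haveI : Algebra.IsIntegral Γ(X, ⊤) Γ(Y, ⊤) := ⟨isIntegral_appTop_of_universallyClosed π⟩
    intro r
    exact (isIntegral_algHom_iff R.val Subtype.val_injective).1 (Algebra.IsIntegral.isIntegral (r : Γ(Y, ⊤)))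
  let h : Y ⟶ Spec (CommRingCat.of R) := Y.toSpecΓ ≫ Spec.map (CommRingCat.ofHom R.val.toRingHom)
  have hπ : h ≫ Spec.map (CommRingCat.ofHom φ) = π ≫ X.isoSpec.hom := by
    rw [show π ≫ X.isoSpec.hom = Y.toSpecΓ ≫ Spec.map π.appTop from Scheme.toSpecΓ_naturality π,
      Category.assoc, ← Spec.map_comp]
    rfl
  haveI : UniversallyClosed (h ≫ Spec.map (CommRingCat.ofHom φ)) := by rw [hπ]; infer_instance
  haveI : UniversallyClosed h := UniversallyClosed.of_comp_of_isSeparated h (Spec.map (CommRingCat.ofHom φ))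
  haveI : CompactSpace Y := (quasiCompact_iff_compactSpace π).mp inferInstance
  haveI : IsDominant h := by
    refine isDominant_of_of_appTop_injective ?_
    have e : h.appTop = (Scheme.ΓSpecIso (CommRingCat.of R)).hom ≫ CommRingCat.ofHom R.val.toRingHom := by
      simp [h, Scheme.toSpecΓ_appTop, ← Scheme.ΓSpecIso_naturality]
      rfl
    rw [e]
    exact Subtype.val_injective.comp (ConcreteCategory.bijective_of_isIso _).1
  haveI : Surjective h := surjective_of_isDominant_of_isClosed_range h h.isClosedMap.isClosed_range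
  have hsurj : Function.Surjective (PrimeSpectrum.comap φ) := fun p => by
    obtain ⟨y, hy⟩ := (π ≫ X.isoSpec.hom).surjective p
    exact ⟨h y, by rw [← hy, ← hπ]; rfl⟩
  let s' : R := ⟨s, Algebra.self_mem_adjoin_singleton _ s⟩
  have hval : ∀ {T : Scheme.{u}} (a : T ⟶ Y) (x : R),
      (a ≫ h).appTop ((Scheme.ΓSpecIso (CommRingCat.of R)).inv x) = a.appTop (x : Γ(Y, ⊤)) := fun a x => by
    simp only [h, Scheme.Hom.comp_appTop, Scheme.toSpecΓ_appTop, ConcreteCategory.comp_apply]
    refine congrArg a.appTop ?_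
    refine (congrArg (Scheme.ΓSpecIso Γ(Y, ⊤)).hom (appTop_map_eq R.val.toRingHom x)).trans ?_
    exact CategoryTheory.Iso.inv_hom_id_apply (Scheme.ΓSpecIso Γ(Y, ⊤)) (x : Γ(Y, ⊤))
  have hrad : Groth.Agent.WN.IsRadicial φ := by
    intro K _ g₁ g₂ hg
    have hs' : g₁ s' = g₂ s' := by
      let W₁ := pullback h (Spec.map (CommRingCat.ofHom g₁))
      let W₂ := pullback h (Spec.map (CommRingCat.ofHom g₂))
      let q₁ : W₁ ⟶ Spec (CommRingCat.of K) := pullback.snd _ _
      let q₂ : W₂ ⟶ Spec (CommRingCat.of K) := pullback.snd _ _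
      haveI : Surjective q₁ := MorphismProperty.pullback_snd _ _ ‹_›
      haveI : Surjective q₂ := MorphismProperty.pullback_snd _ _ ‹_›
      haveI : Surjective (pullback.fst q₁ q₂) := MorphismProperty.pullback_fst _ _ ‹_›
      haveI : Surjective (pullback.fst q₁ q₂ ≫ q₁) := inferInstance
      let a := pullback.fst q₁ q₂ ≫ pullback.fst h _
      let b := pullback.snd q₁ q₂ ≫ pullback.fst h _
      let r := pullback.fst q₁ q₂ ≫ q₁
      have ha : a ≫ h = r ≫ Spec.map (CommRingCat.ofHom g₁) :=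
        (Category.assoc _ _ _).trans
          ((congrArg (pullback.fst q₁ q₂ ≫ ·) pullback.condition).trans (Category.assoc _ _ _).symm)
      have hb : b ≫ h = r ≫ Spec.map (CommRingCat.ofHom g₂) :=
        ((Category.assoc _ _ _).trans
          ((congrArg (pullback.snd q₁ q₂ ≫ ·) pullback.condition).trans (Category.assoc _ _ _).symm)).trans
          (congrArg (· ≫ Spec.map (CommRingCat.ofHom g₂)) (pullback.condition (f := q₁) (g := q₂)).symm)
      have hab : a ≫ π = b ≫ π := by
        rw [← cancel_mono X.isoSpec.hom]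
        refine ((Category.assoc a π _).trans ((congrArg (a ≫ ·) hπ.symm).trans (Category.assoc a h _).symm)).trans
          ((congrArg (· ≫ Spec.map (CommRingCat.ofHom φ)) ha).trans (Eq.trans ?_
            ((congrArg (· ≫ Spec.map (CommRingCat.ofHom φ)) hb.symm).trans
              ((Category.assoc b h _).trans ((congrArg (b ≫ ·) hπ).trans (Category.assoc b π _).symm)))))
        simp only [Category.assoc]
        rw [← Spec.map_comp, ← Spec.map_comp, ← CommRingCat.ofHom_comp, ← CommRingCat.ofHom_comp, hg]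
      have key := appTop_eq_of_comp_eq π s hs a b hab
      rw [show s = (s' : Γ(Y, ⊤)) from rfl, ← hval a, ← hval b, ha, hb, appTop_comp_map,
        appTop_comp_map] at key
      obtain ⟨w, -⟩ := r.surjective (IsLocalRing.closedPoint K)
      haveI : Nontrivial Γ(pullback q₁ q₂, ⊤) :=
        haveI : Nonempty (⊤ : (pullback q₁ q₂).Opens) := ⟨⟨w, trivial⟩⟩
        inferInstance
      exact ((r.appTop.hom.comp (Scheme.ΓSpecIso (CommRingCat.of K)).inv.hom).injective key)
    refine RingHom.ext fun x => ?_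
    obtain ⟨x, hx⟩ := x
    induction hx using Algebra.adjoin_induction with
    | mem y hy => obtain rfl := hy; exact hs'
    | algebraMap r => exact RingHom.congr_fun hg r
    | add y z hy hz ihy ihz =>
      show g₁ (⟨y, hy⟩ + ⟨z, hz⟩) = g₂ (⟨y, hy⟩ + ⟨z, hz⟩)
      rw [map_add, map_add, ihy, ihz]
    | mul y z hy hz ihy ihz =>
      show g₁ (⟨y, hy⟩ * ⟨z, hz⟩) = g₂ (⟨y, hy⟩ * ⟨z, hz⟩)
      rw [map_mul, map_mul, ihy, ihz]
  have htriv : Groth.Agent.WN.HasTrivRes φ := by
    intro q _ b
    obtain ⟨y, hy⟩ := h.surjective ⟨q, ‹_›⟩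
    let L := Y.residueField y
    let fy := Y.fromSpecResidueField y
    let ε : R →+* L := (Spec.preimage (fy ≫ h)).hom
    have hεh : fy ≫ h = Spec.map (CommRingCat.ofHom ε) := (Spec.map_preimage _).symm
    have hker : RingHom.ker ε = q := by
      have h1 : (fy ≫ h) (IsLocalRing.closedPoint L) = (⟨q, ‹_›⟩ : PrimeSpectrum R) := by
        rw [Scheme.Hom.comp_apply, Scheme.fromSpecResidueField_apply, hy]
      rw [hεh] at h1
      have h2 : (IsLocalRing.maximalIdeal L).comap ε = q := congrArg PrimeSpectrum.asIdeal h1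
      rw [← h2, IsLocalRing.maximalIdeal_eq_bot, RingHom.ker_eq_comap_bot]
    let p := RingHom.ker (ε.comp φ)
    haveI : p.IsPrime := RingHom.ker_isPrime _
    let K := FractionRing (Γ(X, ⊤) ⧸ p)
    letI : Algebra (Γ(X, ⊤) ⧸ p) L := (RingHom.kerLift (ε.comp φ)).toAlgebra
    haveI : FaithfulSMul (Γ(X, ⊤) ⧸ p) L :=
      (faithfulSMul_iff_algebraMap_injective _ _).2 (RingHom.kerLift_injective _)
    letI : Algebra K L := FractionRing.liftAlgebra _ L
    haveI : IsScalarTower (Γ(X, ⊤) ⧸ p) K L := FractionRing.isScalarTower_liftAlgebra _ L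
    have hεs : ε s' ∈ (algebraMap K L).range := by
      refine mem_range_of_tmul_eq ?_
      let i₁ : L →+* L ⊗[K] L := Algebra.TensorProduct.includeLeftRingHom
      let i₂ : L →+* L ⊗[K] L := (Algebra.TensorProduct.includeRight (R := K) (A := L) (B := L)).toRingHom
      let a := Spec.map (CommRingCat.ofHom i₁) ≫ fy
      let c := Spec.map (CommRingCat.ofHom i₂) ≫ fy
      have ha : a ≫ h = Spec.map (CommRingCat.ofHom (i₁.comp ε)) := by
        simp only [a, Category.assoc, hεh, ← Spec.map_comp, ← CommRingCat.ofHom_comp]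
      have hc : c ≫ h = Spec.map (CommRingCat.ofHom (i₂.comp ε)) := by
        simp only [c, Category.assoc, hεh, ← Spec.map_comp, ← CommRingCat.ofHom_comp]
      have hi : (i₁.comp ε).comp φ = (i₂.comp ε).comp φ := RingHom.ext fun x => by
        have hx : ε (φ x) = algebraMap K L (algebraMap (Γ(X, ⊤) ⧸ p) K (Ideal.Quotient.mk p x)) := by
          rw [← IsScalarTower.algebraMap_apply (Γ(X, ⊤) ⧸ p) K L]; rfl
        show ε (φ x) ⊗ₜ[K] (1 : L) = (1 : L) ⊗ₜ[K] ε (φ x)
        rw [hx, Algebra.algebraMap_eq_smul_one, TensorProduct.smul_tmul]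
      have hac : a ≫ π = c ≫ π := by
        rw [← cancel_mono X.isoSpec.hom]
        refine ((Category.assoc a π _).trans ((congrArg (a ≫ ·) hπ.symm).trans (Category.assoc a h _).symm)).trans
          ((congrArg (· ≫ Spec.map (CommRingCat.ofHom φ)) ha).trans (Eq.trans ?_
            ((congrArg (· ≫ Spec.map (CommRingCat.ofHom φ)) hc.symm).trans
              ((Category.assoc c h _).trans ((congrArg (c ≫ ·) hπ).trans (Category.assoc c π _).symm)))))
        rw [← Spec.map_comp, ← Spec.map_comp, ← CommRingCat.ofHom_comp, ← CommRingCat.ofHom_comp, hi]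
      have key := appTop_eq_of_comp_eq π s hs a c hac
      rw [show s = (s' : Γ(Y, ⊤)) from rfl, ← hval a, ← hval c, ha, hc, appTop_map_eq, appTop_map_eq] at key
      exact (ConcreteCategory.bijective_of_isIso (Scheme.ΓSpecIso (CommRingCat.of (L ⊗[K] L))).inv).1 key
    have hb : ∀ x : R, ε x ∈ (algebraMap K L).range := by
      rintro ⟨x, hx⟩
      induction hx using Algebra.adjoin_induction with
      | mem y hy => obtain rfl := hy; exact hεs
      | algebraMap r =>
        exact ⟨algebraMap (Γ(X, ⊤) ⧸ p) K (Ideal.Quotient.mk p r), by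
          rw [← IsScalarTower.algebraMap_apply (Γ(X, ⊤) ⧸ p) K L]; rfl⟩
      | add y z hy hz ihy ihz =>
        show ε (⟨y, hy⟩ + ⟨z, hz⟩) ∈ _
        rw [map_add]
        exact add_mem ihy ihz
      | mul y z hy hz ihy ihz =>
        show ε (⟨y, hy⟩ * ⟨z, hz⟩) ∈ _
        rw [map_mul]
        exact mul_mem ihy ihz
    obtain ⟨k, hk⟩ := hb b
    obtain ⟨n, d, hd, hnd⟩ := IsFractionRing.div_surjective (Γ(X, ⊤) ⧸ p) k
    obtain ⟨n, rfl⟩ := Ideal.Quotient.mk_surjective n
    obtain ⟨d, rfl⟩ := Ideal.Quotient.mk_surjective d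
    have hd0 : ε (φ d) ≠ 0 := fun h0 => nonZeroDivisors.ne_zero hd (Ideal.Quotient.eq_zero_iff_mem.2 h0)
    refine ⟨n, d, fun hq => hd0 ?_, ?_⟩
    · rw [← hker] at hq
      exact hq
    · rw [← hker, RingHom.mem_ker, map_sub, map_mul, ← hk, ← hnd, map_div₀,
        ← IsScalarTower.algebraMap_apply (Γ(X, ⊤) ⧸ p) K L, ← IsScalarTower.algebraMap_apply (Γ(X, ⊤) ⧸ p) K L]
      show ε (φ d) * (ε (φ n) / ε (φ d)) - ε (φ n) = 0
      rw [mul_div_cancel₀ _ hd0, sub_self]
  obtain ⟨t, ht⟩ := (Groth.Agent.WN.bijective_of_isSeminormalRing ⟨hint, hsurj, hrad⟩ htriv hA).2 s'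
  exact ⟨t, congrArg Subtype.val ht⟩

theorem app_injective {X Y : Scheme.{u}} [AlgebraicGeometry.IsReduced X] (f : Y ⟶ X) [Surjective f]
    (U : X.Opens) : Function.Injective (f.app U) := by
  refine (injective_iff_map_eq_zero (f.app U).hom).2 fun s hs => ?_
  refine (basicOpen_eq_bot_iff s).1 (Opens.ext (Set.eq_empty_iff_forall_notMem.2 fun x hx => ?_))
  obtain ⟨y, rfl⟩ := f.surjective x
  have hy : y ∈ f ⁻¹ᵁ X.basicOpen s := hx
  rw [Scheme.preimage_basicOpen, show f.app U s = 0 from hs, Scheme.basicOpen_zero] at hy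
  exact hy

theorem existsUnique {X Y : Scheme.{u}} (hX : HTop.IsSeminormal X) (π : Y ⟶ X) [UniversallyClosed π]
    [Surjective π] [AlgebraicGeometry.IsReduced Y] (s : Γ(Y, ⊤))
    (hs : (pullback.fst π π).appTop s = (pullback.snd π π).appTop s) :
    ∃! t : Γ(X, ⊤), π.appTop t = s := by
  haveI : AlgebraicGeometry.IsReduced X := Groth.Agent.WN.isReduced_of_isSeminormal hX
  have loc : ∀ U : X.affineOpens, ∃ t : Γ(X, U.1),
      π.app U.1 t = Y.presheaf.map (homOfLE le_top).op s := fun U => by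
    haveI : IsAffine U.1.toScheme := U.2
    haveI : Surjective (π ∣_ U.1) := IsZariskiLocalAtTarget.restrict (P := @Surjective) ‹_› _
    haveI : UniversallyClosed (π ∣_ U.1) := IsZariskiLocalAtTarget.restrict (P := @UniversallyClosed) ‹_› _
    haveI : AlgebraicGeometry.IsReduced (π ⁻¹ᵁ U.1).toScheme := isReduced_of_isOpenImmersion (π ⁻¹ᵁ U.1).ι
    obtain ⟨t, ht⟩ := surjective_affine (Groth.Agent.WN.isSeminormalRing_of_ringEquiv
      U.1.topIso.commRingCatIsoToRingEquiv.symm (Groth.Agent.WN.isSeminormalRing_of_isSeminormal hX U))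
      (π ∣_ U.1) ((π ⁻¹ᵁ U.1).ι.appTop s) (by
        rw [← ConcreteCategory.comp_apply, ← ConcreteCategory.comp_apply, ← Scheme.Hom.comp_appTop,
          ← Scheme.Hom.comp_appTop]
        refine appTop_eq_of_comp_eq π s hs _ _ ?_
        rw [Category.assoc, Category.assoc, ← morphismRestrict_ι, pullback.condition_assoc])
    refine ⟨U.1.topIso.hom t, ?_⟩
    have h1 := congrArg (π ⁻¹ᵁ U.1).topIso.hom ht
    simp only [← ConcreteCategory.comp_apply] at h1 ⊢
    have e₁ : U.1.topIso.hom ≫ π.app U.1 = (π ∣_ U.1).appTop ≫ (π ⁻¹ᵁ U.1).topIso.hom := by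
      rw [morphismRestrict_appTop, Scheme.Opens.topIso_hom, Scheme.Opens.topIso_hom]
      erw [Scheme.Hom.naturality, Category.assoc]
      congr 1
      erw [← Functor.map_comp]
      rfl
    have e₂ : (π ⁻¹ᵁ U.1).ι.appTop ≫ (π ⁻¹ᵁ U.1).topIso.hom = Y.presheaf.map (homOfLE le_top).op := by
      rw [Scheme.Opens.ι_appTop, Scheme.Opens.topIso_hom]
      erw [← Functor.map_comp]
      rfl
    rw [e₁, ← e₂]
    exact h1
  choose t ht using loc
  obtain ⟨T, hT, -⟩ := X.sheaf.existsUnique_gluing' (fun U : X.affineOpens => U.1) ⊤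
    (fun U => homOfLE le_top) (iSup_affineOpens_eq_top X).ge t (fun U V => by
      refine app_injective π (U.1 ⊓ V.1) ?_
      show π.app (U.1 ⊓ V.1) (X.presheaf.map _ (t U)) = π.app (U.1 ⊓ V.1) (X.presheaf.map _ (t V))
      rw [← ConcreteCategory.comp_apply, ← ConcreteCategory.comp_apply, Scheme.Hom.naturality,
        Scheme.Hom.naturality, ConcreteCategory.comp_apply, ConcreteCategory.comp_apply, ht, ht,
        ← ConcreteCategory.comp_apply, ← ConcreteCategory.comp_apply, ← Functor.map_comp, ← Functor.map_comp]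
      rfl)
  have hTs : π.appTop T = s := by
    refine Y.sheaf.eq_of_locally_eq' (fun U : X.affineOpens => π ⁻¹ᵁ U.1) ⊤ (fun U => homOfLE le_top)
      (by rw [← Scheme.Hom.preimage_iSup, iSup_affineOpens_eq_top X]; rfl) _ _ fun U => ?_
    show Y.presheaf.map _ (π.app ⊤ T) = Y.presheaf.map _ s
    refine Eq.trans ?_ ((congrArg (π.app U.1) (hT U)).trans (ht U))
    show _ = π.app U.1 (X.presheaf.map _ T)
    rw [← ConcreteCategory.comp_apply, ← ConcreteCategory.comp_apply, Scheme.Hom.naturality]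
    rfl
  exact ⟨T, hTs, fun T' hT' => app_injective π ⊤ (hT'.trans hTs.symm)⟩

end Groth.Agent.HTopUltra.SNDescent
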