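import Groth.Agent.HTopUltra.Noeth
import Groth.Agent.HTopUltra.Refine
import Groth.Agent.SubtrLib.Submersive
import Groth.Agent.LimLib.Proper
import Groth.Agent.FormalFun.SecFinite
import Groth.Agent.HTopUltra.SNDescent

/-!
# Finite type descends along universally submersive morphisms of Noetherian schemes
-/

set_option autoImplicit false
set_option linter.style.haveILetI false

universe w u

open CategoryTheory CategoryTheory.Limits AlgebraicGeometry TopologicalSpace Groth.Agent.LimLib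
open scoped Pointwise

namespace Groth.Agent.HTopUltra.FTDescent

theorem finiteType_of_quotient_nilpotent {A B : Type u} [CommRing A] [CommRing B] [Algebra A B]
    (N : Ideal B) (hN : N.FG) (hnil : IsNilpotent N) [Algebra.FiniteType A (B ⧸ N)] :
    Algebra.FiniteType A B := by
  classical
  obtain ⟨s, hs⟩ := (inferInstance : Algebra.FiniteType A (B ⧸ N)).out
  choose l hl using fun y : B ⧸ N => Ideal.Quotient.mk_surjective y
  obtain ⟨t, ht⟩ := hN
  let S := Algebra.adjoin A ((s.image l ∪ t : Finset B) : Set B)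
  refine ⟨⟨s.image l ∪ t, eq_top_iff.2 fun x _ => ?_⟩⟩
  have hquot : ∀ y : B ⧸ N, ∃ z ∈ S, Ideal.Quotient.mk N z = y := fun y => by
    have hy : y ∈ Algebra.adjoin A (s : Set (B ⧸ N)) := hs.ge Algebra.mem_top
    induction hy using Algebra.adjoin_induction with
    | mem y hy =>
      exact ⟨l y, Algebra.subset_adjoin (Finset.mem_coe.2 (Finset.mem_union_left _ (Finset.mem_image_of_mem _ hy))), hl y⟩
    | algebraMap r => exact ⟨algebraMap A B r, S.algebraMap_mem r, rfl⟩
    | add y z _ _ ihy ihz =>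
      obtain ⟨a, ha, rfl⟩ := ihy
      obtain ⟨b, hb, rfl⟩ := ihz
      exact ⟨a + b, add_mem ha hb, map_add _ _ _⟩
    | mul y z _ _ ihy ihz =>
      obtain ⟨a, ha, rfl⟩ := ihy
      obtain ⟨b, hb, rfl⟩ := ihz
      exact ⟨a * b, mul_mem ha hb, map_mul _ _ _⟩
  have htS : ∀ (k : ℕ) p, p ∈ (t : Set B) ^ k → p ∈ S := fun k => by
    induction k with
    | zero => intro p hp; rw [pow_zero, Set.mem_one] at hp; exact hp ▸ one_mem S
    | succ k ih =>
      intro p hp
      rw [pow_succ] at hp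
      obtain ⟨a, ha, b, hb, rfl⟩ := Set.mem_mul.1 hp
      exact mul_mem (ih a ha) (Algebra.subset_adjoin (Finset.mem_coe.2 (Finset.mem_union_right _ hb)))
  have step : ∀ k : ℕ, ∀ m ∈ N ^ k, ∃ z ∈ S, m - z ∈ N ^ (k + 1) := fun k m hm => by
    have hspan : N ^ k = Ideal.span ((t : Set B) ^ k) := by rw [← ht]; exact Submodule.span_pow _ _
    rw [hspan] at hm
    induction hm using Submodule.span_induction with
    | mem p hp => exact ⟨p, htS k p hp, by rw [sub_self]; exact zero_mem _⟩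
    | zero => exact ⟨0, zero_mem S, by rw [sub_zero]; exact zero_mem _⟩
    | add y z _ _ ihy ihz =>
      obtain ⟨a, ha, hya⟩ := ihy
      obtain ⟨b, hb, hzb⟩ := ihz
      exact ⟨a + b, add_mem ha hb, by rw [add_sub_add_comm]; exact add_mem hya hzb⟩
    | smul c y hy ihy =>
      obtain ⟨a, ha, hya⟩ := ihy
      obtain ⟨c', hc', hcc⟩ := hquot (Ideal.Quotient.mk N c)
      refine ⟨c' * a, mul_mem hc' ha, ?_⟩
      have h1 : c - c' ∈ N := (Ideal.Quotient.mk_eq_mk_iff_sub_mem _ _).1 hcc.symm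
      have h2 : y ∈ N ^ k := by rw [hspan]; exact hy
      rw [smul_eq_mul, show c * y - c' * a = (c - c') * y + c' * (y - a) by ring]
      exact add_mem (by rw [pow_succ']; exact Ideal.mul_mem_mul h1 h2) (Ideal.mul_mem_left _ _ hya)
  have main : ∀ k : ℕ, ∃ z ∈ S, x - z ∈ N ^ k := fun k => by
    induction k with
    | zero => exact ⟨0, zero_mem S, by rw [pow_zero, Ideal.one_eq_top]; trivial⟩
    | succ k ih =>
      obtain ⟨z, hz, hxz⟩ := ih
      obtain ⟨z', hz', h'⟩ := step k _ hxz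
      exact ⟨z + z', add_mem hz hz', by rw [← sub_sub]; exact h'⟩
  obtain ⟨n, hn⟩ := hnil
  obtain ⟨z, hz, hxz⟩ := main n
  rw [hn, Ideal.zero_eq_bot, Ideal.mem_bot, sub_eq_zero] at hxz
  exact hxz ▸ hz

/-- The reduced case, on rings. -/
theorem finiteType_of_hasValLift_reduced {A B C : Type u} [CommRing A] [CommRing B] [CommRing C]
    [IsNoetherianRing A] [IsNoetherianRing B] [_root_.IsReduced B] (α : A →+* B) (τ : B →+* C)
    (h : (τ.comp α).FiniteType)
    (hv : HTop.HasValLift (PreZeroHypercover.singleton.{0} (Spec.map (CommRingCat.ofHom τ)))) :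
    α.FiniteType := by
  classical
  have hτ : τ.FiniteType := h.of_comp_finiteType
  obtain ⟨P, π, hπ, hπs, -, hl⟩ := exists_proper_surjective_noetherian τ hτ hv
  haveI hlft : LocallyOfFiniteType (π ≫ Spec.map (CommRingCat.ofHom α)) := by
    choose U hyU hU l hl' using hl
    rw [IsZariskiLocalAtSource.iff_of_openCover (P := @LocallyOfFiniteType)
      (P.openCoverOfIsOpenCover U (eq_top_iff.2 fun y _ => Opens.mem_iSup.2 ⟨y, hyU y⟩))]
    intro (y : P)
    show LocallyOfFiniteType ((U y).ι ≫ π ≫ Spec.map (CommRingCat.ofHom α))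
    rw [← Category.assoc, ← hl' y, Category.assoc, ← Spec.map_comp, ← CommRingCat.ofHom_comp]
    haveI : LocallyOfFiniteType (Spec.map (CommRingCat.ofHom (τ.comp α))) :=
      (HasRingHomProperty.Spec_iff (P := @LocallyOfFiniteType)).2 h
    haveI : LocallyOfFiniteType (l y ≫ Spec.map (CommRingCat.ofHom τ)) := by rw [hl' y]; infer_instance
    haveI : LocallyOfFiniteType (l y) := locallyOfFiniteType_of_comp (l y) (Spec.map (CommRingCat.ofHom τ))
    infer_instance
  letI := α.toAlgebra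
  let S : Finset B →o Subalgebra A B :=
    ⟨fun s => Algebra.adjoin A (s : Set B), fun s t h => Algebra.adjoin_mono (Finset.coe_subset.2 h)⟩
  let c : Cone ((subalgRings S).op ⋙ Scheme.Spec) := Scheme.Spec.mapCone (subalgCocone S).op
  have hc : IsLimit c := isLimitOfPreserves Scheme.Spec
    (isColimitSubalgCocone S fun x => ⟨{x}, Algebra.subset_adjoin (Finset.mem_singleton_self x)⟩).op
  haveI : ∀ i, IsAffine (((subalgRings S).op ⋙ Scheme.Spec).obj i) := fun i => inferInstanceAs (IsAffine (Spec _))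
  let πc : P ⟶ c.pt := π
  haveI : IsProper πc := hπ
  have hft : ∀ i, LocallyOfFiniteType (πc ≫ c.π.app i) := fun i => by
    let g : Spec (CommRingCat.of (S i.unop)) ⟶ Spec (CommRingCat.of A) :=
      Spec.map (CommRingCat.ofHom (algebraMap A (S i.unop)))
    let ρ : P ⟶ Spec (CommRingCat.of (S i.unop)) :=
      π ≫ Spec.map (CommRingCat.ofHom (S i.unop).val.toRingHom)
    haveI : LocallyOfFiniteType (ρ ≫ g) := by
      have e : ρ ≫ g = π ≫ Spec.map (CommRingCat.ofHom α) := by
        show (π ≫ Spec.map _) ≫ Spec.map _ = _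
        rw [Category.assoc, ← Spec.map_comp]
        rfl
      rw [e]
      exact hlft
    exact locallyOfFiniteType_of_comp ρ g
  obtain ⟨i, hi⟩ := eventually_isProper_of_fixed_source ((subalgRings S).op ⋙ Scheme.Spec) c hc πc
  let R := S i.unop
  haveI : Algebra.FiniteType A R := (Subalgebra.fg_iff_finiteType _).1 ⟨i.unop, rfl⟩
  haveI : IsNoetherianRing R := Algebra.FiniteType.isNoetherianRing A R
  let j : Spec (CommRingCat.of B) ⟶ Spec (CommRingCat.of R) := Spec.map (CommRingCat.ofHom R.val.toRingHom)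
  haveI : IsProper (π ≫ j) := hi i (𝟙 i)
  have h1 : ((π ≫ j).appTop).hom.Finite := FormalFun.finite_app (π ≫ j) (isAffineOpen_top _)
  haveI : AlgebraicGeometry.IsReduced (Spec (CommRingCat.of B)) := inferInstance
  let ε : B →+* Γ(P, ⊤) := π.appTop.hom.comp (Scheme.ΓSpecIso (CommRingCat.of B)).inv.hom
  have hε : Function.Injective ε :=
    (SNDescent.app_injective π ⊤).comp (ConcreteCategory.bijective_of_isIso _).1
  have h2 : (ε.comp R.val.toRingHom).Finite := by
    have e : ε.comp R.val.toRingHom =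
        (π ≫ j).appTop.hom.comp (Scheme.ΓSpecIso (CommRingCat.of R)).inv.hom := by
      refine RingHom.ext fun x => ?_
      show π.appTop ((Scheme.ΓSpecIso (CommRingCat.of B)).inv (R.val.toRingHom x)) = _
      rw [← SNDescent.appTop_map_eq R.val.toRingHom x]
      rfl
    rw [e]
    exact h1.comp (RingHom.Finite.of_surjective _ (ConcreteCategory.bijective_of_isIso _).2)
  letI := (ε.comp R.val.toRingHom).toAlgebra
  haveI : Module.Finite R Γ(P, ⊤) := h2
  let εl : B →ₗ[R] Γ(P, ⊤) :=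
    { toFun := ε
      map_add' := map_add ε
      map_smul' := fun r b => by
        show ε ((r : B) * b) = ε r * ε b
        exact map_mul ε _ _ }
  haveI : Module.Finite R B := Module.Finite.of_injective εl hε
  exact Algebra.FiniteType.trans (inferInstance : Algebra.FiniteType A R) inferInstance

theorem finiteType_of_hasValLift {A B C : Type u} [CommRing A] [CommRing B] [CommRing C]
    [IsNoetherianRing A] [IsNoetherianRing B] (α : A →+* B) (τ : B →+* C) (h : (τ.comp α).FiniteType)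
    (hv : HTop.HasValLift (PreZeroHypercover.singleton.{0} (Spec.map (CommRingCat.ofHom τ)))) :
    α.FiniteType := by
  let N := nilradical B
  haveI : _root_.IsReduced (B ⧸ N) := (Ideal.isRadical_iff_quotient_reduced N).1 (Ideal.radical_isRadical _)
  let q : B →+* B ⧸ N := Ideal.Quotient.mk N
  let τ₀ : B ⧸ N →+* C ⧸ N.map τ := Ideal.quotientMap _ τ Ideal.le_comap_map
  have hft : (τ₀.comp (q.comp α)).FiniteType := by
    have e : τ₀.comp (q.comp α) = (Ideal.Quotient.mk (N.map τ)).comp (τ.comp α) := rfl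
    rw [e]
    exact (RingHom.FiniteType.of_surjective _ Ideal.Quotient.mk_surjective).comp h
  have hv₀ : HTop.HasValLift (PreZeroHypercover.singleton.{0} (Spec.map (CommRingCat.ofHom τ₀))) := by
    intro V _ _ g
    obtain ⟨W, hW, hW', φ, hφ, _j, g', hg'⟩ := hv V (g ≫ Spec.map (CommRingCat.ofHom q))
    let g₁ : Spec W ⟶ Spec (CommRingCat.of C) := g'
    let ψ := (Spec.preimage g₁).hom
    let γ := (Spec.preimage g).hom
    have e : ψ.comp τ = φ.hom.comp (γ.comp q) := by
      have h1 : g₁ ≫ Spec.map (CommRingCat.ofHom τ) = Spec.map φ ≫ g ≫ Spec.map (CommRingCat.ofHom q) := hg'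
      rw [← Spec.map_preimage g₁, ← Spec.map_preimage g, ← Spec.map_comp, ← Spec.map_comp, ← Spec.map_comp] at h1
      exact CommRingCat.hom_ext_iff.1 (Spec.map_injective h1)
    have hker : N.map τ ≤ RingHom.ker ψ := Ideal.map_le_iff_le_comap.2 fun x hx => by
      show (ψ.comp τ) x = 0
      rw [e]
      show φ.hom (γ (q x)) = 0
      rw [Ideal.Quotient.eq_zero_iff_mem.2 hx, map_zero, map_zero]
    let ψ₀ : C ⧸ N.map τ →+* W := Ideal.Quotient.lift _ ψ hker
    refine ⟨W, hW, hW', φ, hφ, PUnit.unit, Spec.map (CommRingCat.ofHom ψ₀), ?_⟩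
    show Spec.map (CommRingCat.ofHom ψ₀) ≫ Spec.map (CommRingCat.ofHom τ₀) = Spec.map φ ≫ g
    rw [← Spec.map_preimage g, ← Spec.map_comp, ← Spec.map_comp]
    refine congrArg Spec.map (CommRingCat.hom_ext ?_)
    exact Ideal.Quotient.ringHom_ext e
  have h₀ := finiteType_of_hasValLift_reduced (q.comp α) τ₀ hft hv₀
  letI := α.toAlgebra
  haveI : Algebra.FiniteType A (B ⧸ N) := h₀
  exact finiteType_of_quotient_nilpotent N (IsNoetherian.noetherian N) (IsNoetherianRing.isNilpotent_nilradical B)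

theorem locallyOfFiniteType {X' X Y : Scheme.{u}} [IsNoetherian X'] [IsNoetherian X] [IsNoetherian Y]
    (f : X' ⟶ X) (hf : SGA1.UnivSubmersive f) (g : X ⟶ Y) [LocallyOfFiniteType (f ≫ g)] :
    LocallyOfFiniteType g := by
  classical
  have key : ∀ x : X, ∃ V : X.affineOpens, x ∈ V.1 ∧ LocallyOfFiniteType (V.1.ι ≫ g) := by
   intro x
   obtain ⟨U₀, hU₀, hxU, -⟩ := exists_isAffineOpen_mem_and_subset (Opens.mem_top (g x))
   obtain ⟨V₀, hV₀, hxV, e⟩ := exists_isAffineOpen_mem_and_subset (U := g ⁻¹ᵁ U₀) hxU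
   let U : Y.affineOpens := ⟨U₀, hU₀⟩
   let V : X.affineOpens := ⟨V₀, hV₀⟩
   refine ⟨V, hxV, ?_⟩
   have hlift := (HTopLib.hasValLift_singleton_iff.{0} f).2 (SubtrLib.univSSubtrusive_of_univSubmersive f hf)
   haveI : CompactSpace (f ⁻¹ᵁ V.1).toScheme :=
     isCompact_iff_compactSpace.1 (NoetherianSpace.isCompact (f ⁻¹ᵁ V.1 : Set X'))
   obtain ⟨n, W, hW, hcov⟩ := HTopLib.exists_affine_cover (f ⁻¹ᵁ V.1).toScheme
   haveI : ∀ k, IsAffine (W k).toScheme := hW
   let T := ∐ fun k => (W k).toScheme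
   let t : T ⟶ X' := Sigma.desc fun k => (W k).ι ≫ (f ⁻¹ᵁ V.1).ι
   let fV : T ⟶ V.1.toScheme := Sigma.desc fun k => (W k).ι ≫ (f ∣_ V.1)
   have hfV : fV ≫ V.1.ι = t ≫ f := by
     ext k
     simp [fV, t, morphismRestrict_ι]
   haveI : IsAffine V.1.toScheme := V.2
   haveI : IsAffine U.1.toScheme := U.2
   let gVU : V.1.toScheme ⟶ U.1.toScheme := g.resLE U.1 V.1 e
   have hlft : LocallyOfFiniteType (fV ≫ gVU) := by
     haveI : LocallyOfFiniteType t :=
       IsZariskiLocalAtSource.sigmaDesc (P := @LocallyOfFiniteType) fun k => inferInstance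
     haveI : LocallyOfFiniteType ((fV ≫ gVU) ≫ U.1.ι) := by
       rw [Category.assoc, Scheme.Hom.resLE_comp_ι, reassoc_of% hfV]
       infer_instance
     exact locallyOfFiniteType_of_comp _ U.1.ι
   have hl : HTop.HasValLift (PreZeroHypercover.singleton.{0} fV) := by
     intro R _ _ a
     obtain ⟨Z, hZ, hZ', φ, hφ, _j, b, hb⟩ := hlift R (a ≫ V.1.ι)
     let b₁ : Spec Z ⟶ X' := b
     have hb₁ : b₁ ≫ f = Spec.map φ ≫ a ≫ V.1.ι := hb
     have hr : Set.range b₁ ⊆ Set.range (f ⁻¹ᵁ V.1).ι := by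
       rw [Scheme.Opens.range_ι]
       rintro _ ⟨z, rfl⟩
       show f (b₁ z) ∈ V.1
       rw [← Scheme.Hom.comp_apply, hb₁, ← Category.assoc, Scheme.Hom.comp_apply]
       exact ((Spec.map φ ≫ a) z).2
     let b₂ := IsOpenImmersion.lift (f ⁻¹ᵁ V.1).ι b₁ hr
     obtain ⟨k, hk⟩ := hcov (b₂ (IsLocalRing.closedPoint Z))
     have hr₂ : Set.range b₂ ⊆ Set.range (W k).ι := by
       rw [Scheme.Opens.range_ι]
       exact HTopLib.range_subset_of_closedPoint b₂ (W k) hk
     refine ⟨Z, hZ, hZ', φ, hφ, PUnit.unit,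
       IsOpenImmersion.lift (W k).ι b₂ hr₂ ≫ Sigma.ι (fun k => (W k).toScheme) k, ?_⟩
     show (IsOpenImmersion.lift (W k).ι b₂ hr₂ ≫ Sigma.ι (fun k => (W k).toScheme) k) ≫ fV = _
     rw [Category.assoc, Sigma.ι_desc, IsOpenImmersion.lift_fac_assoc, ← cancel_mono V.1.ι, Category.assoc,
       morphismRestrict_ι, IsOpenImmersion.lift_fac_assoc, hb₁, Category.assoc]
   haveI : IsNoetherianRing Γ(Y, U.1) := IsLocallyNoetherian.component_noetherian U
   haveI : IsNoetherianRing Γ(U.1.toScheme, ⊤) :=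
     isNoetherianRing_of_ringEquiv Γ(Y, U.1) U.1.topIso.commRingCatIsoToRingEquiv.symm
   haveI : IsNoetherianRing Γ(X, V.1) := IsLocallyNoetherian.component_noetherian V
   haveI : IsNoetherianRing Γ(V.1.toScheme, ⊤) :=
     isNoetherianRing_of_ringEquiv Γ(X, V.1) V.1.topIso.commRingCatIsoToRingEquiv.symm
   have hft : (fV.appTop.hom.comp gVU.appTop.hom).FiniteType := by
     rw [← CommRingCat.hom_comp, ← Scheme.Hom.comp_appTop]
     exact (HasRingHomProperty.iff_of_isAffine (P := @LocallyOfFiniteType)).1 hlft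
   have hv : HTop.HasValLift (PreZeroHypercover.singleton.{0} (Spec.map (CommRingCat.ofHom fV.appTop.hom))) := by
     intro R _ _ a
     obtain ⟨Z, hZ, hZ', φ, hφ, _j, b, hb⟩ := hl R (a ≫ V.1.toScheme.isoSpec.inv)
     let b₁ : Spec Z ⟶ T := b
     have hb₁ : b₁ ≫ fV = Spec.map φ ≫ a ≫ V.1.toScheme.isoSpec.inv := hb
     refine ⟨Z, hZ, hZ', φ, hφ, PUnit.unit, b₁ ≫ T.isoSpec.hom, ?_⟩
     show (b₁ ≫ T.isoSpec.hom) ≫ Spec.map fV.appTop = _
     rw [Category.assoc, Scheme.isoSpec_hom_naturality, reassoc_of% hb₁, Iso.inv_hom_id, Category.comp_id]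
   have h1 := finiteType_of_hasValLift gVU.appTop.hom fV.appTop.hom hft hv
   have h2 : LocallyOfFiniteType gVU := (HasRingHomProperty.iff_of_isAffine (P := @LocallyOfFiniteType)).2 h1
   haveI := h2
   rw [← Scheme.Hom.resLE_comp_ι g e]
   show LocallyOfFiniteType (gVU ≫ U.1.ι)
   infer_instance
  choose V hxV hV using key
  rw [IsZariskiLocalAtSource.iff_of_openCover (P := @LocallyOfFiniteType)
    (X.openCoverOfIsOpenCover (fun x => (V x).1) (eq_top_iff.2 fun y _ => Opens.mem_iSup.2 ⟨y, hxV y⟩))]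
  intro (y : X)
  exact hV y

end Groth.Agent.HTopUltra.FTDescent
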