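import Groth.Agent.HTopUltra.StableCover
import Groth.Agent.SGA1Desc.Glue
import Groth.Agent.SGA1Desc.Affine
import Groth.Agent.GrpdLib.InvAffine
import Mathlib.AlgebraicGeometry.AlgClosed.Basic

/-!
# Effective descent along finite locally free morphisms when orbits lie in affine opens
-/

set_option autoImplicit false
set_option linter.style.haveILetI false
set_option backward.isDefEq.respectTransparency false

universe u

open CategoryTheory CategoryTheory.Limits AlgebraicGeometry Topology TopologicalSpace
open Groth.Agent.SGA1Desc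

namespace Groth.Agent.HTopUltra

variable {X S : Scheme.{u}} {p : X ⟶ S} (D : Desc.SchDD p)

theorem pair_ext {T : Scheme.{u}} {a b : T ⟶ pairs D} (h₁ : a ≫ src D = b ≫ src D)
    (h₂ : a ≫ tgt D = b ≫ tgt D) : a = b := by
  refine pullback.hom_ext h₁ ?_
  rw [← tgt_hom]
  exact congrArg (· ≫ D.obj.hom) h₂ |>.trans (Category.assoc _ _ _) |> (Category.assoc _ _ _).symm.trans

theorem rel_of_pair {T : Scheme.{u}} (a : T ⟶ pairs D) : Rel D (a ≫ src D) (a ≫ tgt D) :=
  rel_comp a (rel_src_tgt D)

theorem exists_compose : ∃ c : pullback (src D) (tgt D) ⟶ pairs D,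
    c ≫ src D = pullback.snd (src D) (tgt D) ≫ src D ∧ c ≫ tgt D = pullback.fst (src D) (tgt D) ≫ tgt D :=
  exists_pair_lift D (rel_trans (rel_of_pair D _)
    ((pullback.condition (f := src D) (g := tgt D)) ▸ rel_of_pair D (pullback.fst (src D) (tgt D))))

/-- The groupoid of related pairs. -/
@[reducible] noncomputable def pairGroupoid : Grpd.GroupoidScheme S where
  U := D.obj.left
  R := pairs D
  pU := D.obj.hom ≫ p
  pR := src D ≫ D.obj.hom ≫ p
  s := src D
  t := tgt D
  e := (exists_pair_lift D (rel_refl (𝟙 D.obj.left))).choose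
  i := (exists_swap D).choose
  c := (exists_compose D).choose
  s_over := rfl
  t_over := by
    have := (rel_src_tgt D).1
    simpa only [Category.assoc] using this.symm
  comp_s α β h := by
    rw [Category.assoc, (exists_compose D).choose_spec.1, pullback.lift_snd_assoc]
  comp_t α β h := by
    rw [Category.assoc, (exists_compose D).choose_spec.2, pullback.lift_fst_assoc]
  assoc α β γ h₁ h₂ := by
    apply pair_ext
    · simp only [Category.assoc, (exists_compose D).choose_spec.1, pullback.lift_snd_assoc]
    · simp only [Category.assoc, (exists_compose D).choose_spec.2, pullback.lift_fst_assoc]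
  e_s := (exists_pair_lift D (rel_refl (𝟙 D.obj.left))).choose_spec.1
  e_t := (exists_pair_lift D (rel_refl (𝟙 D.obj.left))).choose_spec.2
  comp_e α := by
    apply pair_ext
    · simp only [Category.assoc, (exists_compose D).choose_spec.1, pullback.lift_snd_assoc]
      rw [(exists_pair_lift D (rel_refl (𝟙 D.obj.left))).choose_spec.1, Category.comp_id]
    · simp only [Category.assoc, (exists_compose D).choose_spec.2, pullback.lift_fst_assoc]
  e_comp α := by
    apply pair_ext
    · simp only [Category.assoc, (exists_compose D).choose_spec.1, pullback.lift_snd_assoc]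
    · simp only [Category.assoc, (exists_compose D).choose_spec.2, pullback.lift_fst_assoc]
      rw [(exists_pair_lift D (rel_refl (𝟙 D.obj.left))).choose_spec.2, Category.comp_id]
  i_s := (exists_swap D).choose_spec.2.1
  i_t := (exists_swap D).choose_spec.2.2
  comp_i α := by
    apply pair_ext
    · simp only [Category.assoc, (exists_compose D).choose_spec.1, pullback.lift_snd_assoc]
      rw [(exists_swap D).choose_spec.2.1, (exists_pair_lift D (rel_refl (𝟙 D.obj.left))).choose_spec.1,
        Category.comp_id]
    · simp only [Category.assoc, (exists_compose D).choose_spec.2, pullback.lift_fst_assoc]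
      rw [(exists_pair_lift D (rel_refl (𝟙 D.obj.left))).choose_spec.2, Category.comp_id]
  i_comp α := by
    apply pair_ext
    · simp only [Category.assoc, (exists_compose D).choose_spec.1, pullback.lift_snd_assoc]
      rw [(exists_pair_lift D (rel_refl (𝟙 D.obj.left))).choose_spec.1, Category.comp_id]
    · simp only [Category.assoc, (exists_compose D).choose_spec.2, pullback.lift_fst_assoc]
      rw [(exists_swap D).choose_spec.2.2, (exists_pair_lift D (rel_refl (𝟙 D.obj.left))).choose_spec.2,
        Category.comp_id]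

variable {D}

theorem orb_base {u v : D.obj.left} (h : Orb D u v) : p (D.obj.hom u) = p (D.obj.hom v) := by
  obtain ⟨r, rfl, rfl⟩ := h
  exact congrArg (fun f => f r) (rel_src_tgt D).1

theorem orb_eq_image (u : D.obj.left) : {v | Orb D u v} = tgt D '' (src D ⁻¹' {u}) := by
  ext v
  exact ⟨fun ⟨r, h₁, h₂⟩ => ⟨r, h₁, h₂⟩, fun ⟨r, h₁, h₂⟩ => ⟨r, h₁, h₂⟩⟩

/-- Orbits under a finite projection are finite. -/
theorem finite_orb [IsFinite p] (u : D.obj.left) : {v | Orb D u v}.Finite := by
  haveI : IsFinite (src D) := MorphismProperty.pullback_fst _ _ ‹IsFinite p›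
  rw [orb_eq_image]
  exact ((src D).finite_preimage_singleton u).image _

/-- The number of points of an orbit is bounded by the geometric fibres. -/
theorem encard_orb_le [IsFinite p] {d : ℕ} (hfib : ∀ (k : Type u) [Field k] [IsAlgClosed k]
    (y : Spec (CommRingCat.of k) ⟶ S), Set.encard {x : Spec (CommRingCat.of k) ⟶ X | x ≫ p = y} ≤ d)
    (u : D.obj.left) : {v | Orb D u v}.encard ≤ d := by
  rw [orb_eq_image]
  refine le_trans (Set.encard_image_le _ _) ?_
  let K := AlgebraicClosure (D.obj.left.residueField u)
  let y : Spec (CommRingCat.of K) ⟶ D.obj.left :=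
    Spec.map (CommRingCat.ofHom (algebraMap (D.obj.left.residueField u) K)) ≫
      D.obj.left.fromSpecResidueField u
  have hyu : ∀ t, y t = u := fun t => by
    rw [Scheme.Hom.comp_apply]; exact Scheme.fromSpecResidueField_apply _ _
  haveI : IsFinite (src D) := MorphismProperty.pullback_fst _ _ ‹IsFinite p›
  let P := pullback (src D) y
  haveI : IsFinite (pullback.snd (src D) y) := MorphismProperty.pullback_snd _ _ ‹IsFinite (src D)›
  haveI : IsLocallyArtinian P := .of_locallyQuasiFinite (pullback.snd (src D) y)
  haveI : DiscreteTopology P := inferInstance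
  have hlift : ∀ r : ↥(src D ⁻¹' {u}), ∃ z : P, pullback.fst (src D) y z = r.1 := fun r => by
    obtain ⟨z, hz, -⟩ := Scheme.Pullback.exists_preimage_pullback (f := src D) (g := y) r.1
      (IsLocalRing.closedPoint K) (r.2.trans (hyu _).symm)
    exact ⟨z, hz⟩
  choose z hz using hlift
  let σ : ↥(src D ⁻¹' {u}) → {x : Spec (CommRingCat.of K) ⟶ X | x ≫ p = y ≫ D.obj.hom ≫ p} := fun r =>
    ⟨pointOfClosedPoint (pullback.snd (src D) y) (z r) (isClosed_discrete _) ≫
      pullback.fst (src D) y ≫ pullback.snd (D.obj.hom ≫ p) p, by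
      show (_ ≫ _ ≫ _) ≫ p = _
      simp only [Category.assoc, ← pullback.condition (f := D.obj.hom ≫ p) (g := p)]
      rw [pullback.condition_assoc, pointOfClosedPoint_comp_assoc]⟩
  have hσ : Function.Injective σ := fun r r' h => by
    have e : pointOfClosedPoint (pullback.snd (src D) y) (z r) (isClosed_discrete _) ≫ pullback.fst (src D) y =
        pointOfClosedPoint (pullback.snd (src D) y) (z r') (isClosed_discrete _) ≫ pullback.fst (src D) y := by
      refine pullback.hom_ext ?_ ?_
      · simp only [Category.assoc, pullback.condition, pointOfClosedPoint_comp_assoc]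
      · simpa only [Category.assoc] using congrArg Subtype.val h
    have := congrArg (fun f => f (IsLocalRing.closedPoint K)) e
    simp only [Scheme.Hom.comp_apply, pointOfClosedPoint_apply, hz] at this
    exact Subtype.ext this
  exact (Function.Embedding.encard_le ⟨σ, hσ⟩).trans (hfib K _)

variable (D)

/-- Descent data along finite locally free surjections are effective when orbits lie in affines. -/
theorem effective_of_orbits_in_affines [Surjective p] [IsFinite p] [Flat p]
    [LocallyOfFinitePresentation p]
    (h : ∀ u : D.obj.left, ∃ V : D.obj.left.Opens, IsAffineOpen V ∧ ∀ v, Orb D u v → v ∈ V) :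
    ∃ W : Over S, Nonempty ((Desc.toDD p).obj W ≅ D) := by
  refine effective_of_pieces D fun z => ?_
  obtain ⟨U₀, hU₀, hzU, -⟩ := exists_isAffineOpen_mem_and_subset (x := p (D.obj.hom z)) (U := ⊤) trivial
  obtain ⟨V, hV, hzV⟩ := h z
  obtain ⟨f, hfU, hfO⟩ := GrpdLib.exists_basicOpen_le_of_finite hV
    (U := D.obj.hom ⁻¹ᵁ (p ⁻¹ᵁ U₀)) (finite_orb z)
    (fun v hv => show p (D.obj.hom v) ∈ U₀ by rw [← orb_base hv]; exact hzU) hzV
  haveI : IsFinite (pairGroupoid D).s := MorphismProperty.pullback_fst _ _ ‹IsFinite p›
  haveI : Flat (pairGroupoid D).s := MorphismProperty.pullback_fst _ _ ‹Flat p›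
  haveI : LocallyOfFinitePresentation (pairGroupoid D).s :=
    MorphismProperty.pullback_fst _ _ ‹LocallyOfFinitePresentation p›
  obtain ⟨W, hW, hzW, hWV, hWs⟩ := GrpdLib.exists_invariant_affine (pairGroupoid D) (u := z)
    (hV.basicOpen f) fun r hr => hfO (show Orb D z _ from ⟨r, hr, rfl⟩)
  refine ⟨W, hzW, exists_piece_of_affine D hU₀ (hU₀.preimage p) hW ?_ (hWV.trans hfU)⟩
  refine stable_of_orb fun a b ⟨r, hra, hrb⟩ ha => ?_
  have hr : r ∈ (pairGroupoid D).s ⁻¹ᵁ W := show src D r ∈ W by rw [hra]; exact ha
  rw [hWs] at hr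
  exact hrb ▸ hr

end Groth.Agent.HTopUltra
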