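import Groth.Agent.HTopUltra.Refine
import Groth.Agent.Nagata.Boundary

/-!
# Proper surjective refinements of finitely presented V coverings of Noetherian schemes
-/

set_option autoImplicit false
set_option linter.style.haveILetI false

universe w u

open CategoryTheory CategoryTheory.Limits AlgebraicGeometry TopologicalSpace

namespace Groth.Agent.HTopUltra

variable {Y : Scheme.{u}}

/-- The family lifts locally at the point `y`. -/
def LiftsAt (E : PreZeroHypercover.{w} Y) {Q : Scheme.{u}} (q : Q ⟶ Y) (y : Q) : Prop :=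
  ∃ U : Q.Opens, y ∈ U ∧ IsAffineOpen U ∧
    ∃ (i : E.I₀) (h : (U : Scheme.{u}) ⟶ E.X i), h ≫ E.f i = U.ι ≫ q

theorem LiftsAt.comp {E : PreZeroHypercover.{w} Y} {Q R : Scheme.{u}} {q : Q ⟶ Y} (r : R ⟶ Q)
    {y : R} (h : LiftsAt E q (r y)) : LiftsAt E (r ≫ q) y := by
  obtain ⟨U, hy, -, i, l, hl⟩ := h
  obtain ⟨W, hW, hyW, hWU⟩ := exists_isAffineOpen_mem_and_subset (x := y) (U := r ⁻¹ᵁ U) hy
  refine ⟨W, hyW, hW, i, r.resLE U W hWU ≫ l, ?_⟩
  rw [Category.assoc, hl, Scheme.Hom.resLE_comp_ι_assoc]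

theorem LiftsAt.of_isOpenImmersion {E : PreZeroHypercover.{w} Y} {Q R : Scheme.{u}} (j : Q ⟶ R)
    [IsOpenImmersion j] (ρ : R ⟶ Y) {y : Q} (h : LiftsAt E (j ≫ ρ) y) : LiftsAt E ρ (j y) := by
  obtain ⟨U, hy, hU, i, l, hl⟩ := h
  refine ⟨j ''ᵁ U, ⟨y, hy, rfl⟩, hU.image_of_isOpenImmersion j, i, (j.isoImage U).inv ≫ l, ?_⟩
  rw [Category.assoc, hl, ← Category.assoc U.ι, ← Scheme.Hom.isoImage_hom_ι, Category.assoc,
    Iso.inv_hom_id_assoc]

/-- Over one affine open, the lifting is achieved by a proper surjection of the whole base. -/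
theorem exists_proper_lifting_over [IsNoetherian Y] (E : PreZeroHypercover.{w} Y)
    (hlfp : ∀ i, LocallyOfFinitePresentation (E.f i)) (hE : HTop.IsVCover E) (U : Y.affineOpens) :
    ∃ (Q : Scheme.{u}) (q : Q ⟶ Y), IsProper q ∧ Surjective q ∧ ∀ y, q y ∈ U.1 → LiftsAt E q y := by
  haveI : IsAffine (U.1 : Scheme.{u}) := U.2
  obtain ⟨P, g, hg, hgs, -, hl⟩ := exists_proper_refining (E.pullback₁ U.1.ι)
    (fun i => MorphismProperty.pullback_fst _ _ (hlfp i)) (HTopLib.isVCover_pullback U.1.ι hE)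
  haveI := hg
  haveI := hgs
  obtain ⟨Pc, j, p, -, hj, hjc, hjd, hp, hjp, -, -⟩ :=
    Nagata.exists_compactification_boundary (g ≫ U.1.ι)
  haveI := hj
  haveI := hjc
  haveI := hjd
  haveI := hp
  let C : Closeds Y := ⟨(U.1 : Set Y)ᶜ, U.1.2.isClosed_compl⟩
  let Z := Scheme.IdealSheafData.vanishingIdeal C
  have hZ : Set.range Z.subschemeι = (U.1 : Set Y)ᶜ := RedSub.range_vanishingIdeal_subschemeι C
  have hl' : ∀ z : P, LiftsAt E (j ≫ p) z := fun z => by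
    rw [hjp]
    obtain ⟨W, hzW, hW, i, h, hh⟩ := hl z
    let h' : (W : Scheme.{u}) ⟶ pullback U.1.ι (E.f i) := h
    have hh' : h' ≫ pullback.fst U.1.ι (E.f i) = W.ι ≫ g := hh
    refine ⟨W, hzW, hW, i, h' ≫ pullback.snd U.1.ι (E.f i), ?_⟩
    rw [Category.assoc, ← pullback.condition, reassoc_of% hh']
  refine ⟨Pc ⨿ Z.subscheme, coprod.desc p Z.subschemeι, HTopLib.isProper_coprodDesc _ _, ⟨fun y => ?_⟩,
    fun y hy => ?_⟩
  · by_cases hy : y ∈ U.1
    · obtain ⟨z, hz⟩ := g.surjective (⟨y, hy⟩ : (U.1 : Scheme.{u}))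
      refine ⟨(coprod.inl : Pc ⟶ Pc ⨿ Z.subscheme) (j z), ?_⟩
      rw [← Scheme.Hom.comp_apply, ← Scheme.Hom.comp_apply, coprod.inl_desc, hjp, Scheme.Hom.comp_apply, hz]
      rfl
    · obtain ⟨z, hz⟩ : y ∈ Set.range Z.subschemeι := hZ ▸ hy
      exact ⟨(coprod.inr : Z.subscheme ⟶ Pc ⨿ Z.subscheme) z, by
        rw [← Scheme.Hom.comp_apply, coprod.inr_desc, hz]⟩
  obtain ⟨(x | z), rfl⟩ := (coprodMk Pc Z.subscheme).surjective y
  · rw [coprodMk_inl] at hy ⊢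
    rw [← Scheme.Hom.comp_apply, coprod.inl_desc] at hy
    refine LiftsAt.of_isOpenImmersion coprod.inl _ ?_
    rw [coprod.inl_desc]
    have hr : Set.range j ⊆ Set.range (p ⁻¹ᵁ U.1).ι := by
      rintro _ ⟨z, rfl⟩
      rw [Scheme.Opens.range_ι]
      show p (j z) ∈ U.1
      rw [← Scheme.Hom.comp_apply, hjp, Scheme.Hom.comp_apply]
      exact (g z).2
    let j' : P ⟶ (p ⁻¹ᵁ U.1).toScheme := IsOpenImmersion.lift _ j hr
    have hj' : j' ≫ p ∣_ U.1 = g := by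
      rw [← cancel_mono U.1.ι, Category.assoc, morphismRestrict_ι, IsOpenImmersion.lift_fac_assoc, hjp]
    haveI : IsProper (p ∣_ U.1) := IsZariskiLocalAtTarget.restrict (P := @IsProper) ‹_› _
    haveI : IsProper (j' ≫ p ∣_ U.1) := hj' ▸ hg
    haveI : IsProper j' := IsProper.of_comp j' (p ∣_ U.1)
    have hd : DenseRange j := IsDominant.denseRange (f := j)
    obtain ⟨z, hz⟩ : (⟨x, hy⟩ : (p ⁻¹ᵁ U.1).toScheme) ∈ Set.range j' := by
      rw [← (j'.isClosedMap.isClosed_range).closure_eq]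
      refine mem_closure_iff.2 fun O hO hxO => ?_
      obtain ⟨_, ⟨w, hw, rfl⟩, ⟨z, hz⟩⟩ := mem_closure_iff.1 (hd x) _
        ((p ⁻¹ᵁ U.1).ι.isOpenEmbedding.isOpenMap O hO) ⟨_, hxO, rfl⟩
      refine ⟨w, hw, z, (p ⁻¹ᵁ U.1).ι.isOpenEmbedding.injective ?_⟩
      rw [← Scheme.Hom.comp_apply, IsOpenImmersion.lift_fac, hz]
    have hzx : j z = x := by
      rw [← IsOpenImmersion.lift_fac (p ⁻¹ᵁ U.1).ι j hr, Scheme.Hom.comp_apply]
      exact congrArg Subtype.val hz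
    exact hzx ▸ LiftsAt.of_isOpenImmersion j p (hl' z)
  · rw [coprodMk_inr, ← Scheme.Hom.comp_apply, coprod.inr_desc] at hy
    exact absurd hy (hZ.le ⟨z, rfl⟩)

/-- A finitely presented V covering of a Noetherian scheme is refined by a proper surjection. -/
theorem exists_proper_refining_noetherian [IsNoetherian Y] (E : PreZeroHypercover.{w} Y)
    (hlfp : ∀ i, LocallyOfFinitePresentation (E.f i)) (hE : HTop.IsVCover E) :
    ∃ (Q : Scheme.{u}) (q : Q ⟶ Y), IsProper q ∧ Surjective q ∧ LocallyOfFinitePresentation q ∧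
      ∀ y, LiftsAt E q y := by
  classical
  have key : ∀ s : Finset Y.affineOpens, ∃ (Q : Scheme.{u}) (q : Q ⟶ Y), IsProper q ∧ Surjective q ∧
      ∀ y, (∃ U ∈ s, q y ∈ U.1) → LiftsAt E q y := by
    intro s
    induction s using Finset.induction_on with
    | empty => exact ⟨Y, 𝟙 Y, inferInstance, inferInstance, fun y h => by simp at h⟩
    | insert U s hU ih =>
      obtain ⟨Q₁, q₁, hq₁, hs₁, h₁⟩ := ih
      obtain ⟨Q₂, q₂, hq₂, hs₂, h₂⟩ := exists_proper_lifting_over E hlfp hE U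
      refine ⟨pullback q₁ q₂, pullback.fst q₁ q₂ ≫ q₁, inferInstance, inferInstance, fun y hy => ?_⟩
      obtain ⟨V, hV, hyV⟩ := hy
      rcases Finset.mem_insert.1 hV with rfl | hV
      · rw [pullback.condition] at hyV ⊢
        exact LiftsAt.comp _ (h₂ _ hyV)
      · exact LiftsAt.comp _ (h₁ _ ⟨V, hV, hyV⟩)
  obtain ⟨t, ht⟩ := (isCompact_univ (X := Y)).elim_finite_subcover
    (fun W : Y.affineOpens => (W.1 : Set Y)) (fun W => W.1.2) fun x _ => by
      obtain ⟨W, hW, hxW, -⟩ := exists_isAffineOpen_mem_and_subset (Opens.mem_top x)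
      exact Set.mem_iUnion.2 ⟨⟨W, hW⟩, hxW⟩
  obtain ⟨Q, q, hq, hs, hl⟩ := key t
  refine ⟨Q, q, hq, hs, inferInstance, fun y => hl y ?_⟩
  obtain ⟨W, hW, hy⟩ := Set.mem_iUnion₂.1 (ht (Set.mem_univ (q y)))
  exact ⟨W, hW, hy⟩

theorem exists_openCover_then_proper (hY : IsAffine Y ∨ IsNoetherian Y) (E : PreZeroHypercover.{w} Y)
    (hlfp : ∀ i, LocallyOfFinitePresentation (E.f i)) (hE : HTop.IsVCover E) :
    ∃ (Q : Scheme.{u}) (q : Q ⟶ Y) (n : ℕ) (V : Fin n → Q.Opens), IsProper q ∧ Surjective q ∧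
      LocallyOfFinitePresentation q ∧ (∀ j, IsAffineOpen (V j)) ∧ ⨆ j, V j = ⊤ ∧
      ∀ j, ∃ (i : E.I₀) (h : ((V j : Q.Opens) : Scheme.{u}) ⟶ E.X i), h ≫ E.f i = (V j).ι ≫ q := by
  rcases hY with hY | hY
  · exact exists_proper_refining_fin E hlfp hE
  obtain ⟨Q, q, hq, hs, hf, hl⟩ := exists_proper_refining_noetherian E hlfp hE
  choose U hyU hU i h hh using hl
  haveI : CompactSpace Q := QuasiCompact.compactSpace_of_compactSpace q
  obtain ⟨t, ht⟩ := (isCompact_univ (X := Q)).elim_finite_subcover (fun y => (U y : Set Q))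
    (fun y => (U y).2) fun y _ => Set.mem_iUnion.2 ⟨y, hyU y⟩
  obtain ⟨n, ⟨e⟩⟩ := Finite.exists_equiv_fin ↥t
  refine ⟨Q, q, n, fun j => U (e.symm j).1, hq, hs, hf, fun j => hU _, ?_, fun j => ⟨i _, h _, hh _⟩⟩
  refine eq_top_iff.2 fun y _ => ?_
  obtain ⟨z, hz⟩ := Set.mem_iUnion.1 (ht (Set.mem_univ y))
  obtain ⟨hzt, hy⟩ := Set.mem_iUnion.1 hz
  exact Opens.mem_iSup.2 ⟨e ⟨z, hzt⟩, by simpa using hy⟩

end Groth.Agent.HTopUltra
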