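import Groth.Agent.HTopUltra.Stage
import Groth.Agent.SubtrLib.Val
import Mathlib.AlgebraicGeometry.Morphisms.UniversallyOpen

/-!
# A valuative criterion for universally open morphisms

For a morphism locally of finite presentation, being universally open amounts to lifting generizations over
valuation rings through every rational point of the closed fibre.
-/

set_option autoImplicit false
set_option linter.style.haveILetI false
set_option backward.isDefEq.respectTransparency false

universe u

open CategoryTheory CategoryTheory.Limits AlgebraicGeometry Topology IsLocalRing TopologicalSpace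

namespace Groth.Agent.HTopUltra

/-- Rational points of closed fibres over valuation rings lift to points over extensions. -/
def GenLift {X Y : Scheme.{u}} (f : X ⟶ Y) : Prop :=
  ∀ (V : Type u) [CommRing V] [IsDomain V] [ValuationRing V] (g : Spec (CommRingCat.of V) ⟶ Y)
    (x : Spec (CommRingCat.of (ResidueField V)) ⟶ X),
    x ≫ f = Spec.map (CommRingCat.ofHom (residue V)) ≫ g →
    ∃ (O : Type u) (_ : CommRing O) (_ : IsDomain O) (_ : ValuationRing O) (χ : V →+* O) (_ : IsLocalHom χ)
      (a : Spec (CommRingCat.of O) ⟶ X),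
      Function.Injective χ ∧ a ≫ f = Spec.map (CommRingCat.ofHom χ) ≫ g ∧
        Spec.map (CommRingCat.ofHom (residue O)) ≫ a =
          Spec.map (CommRingCat.ofHom (ResidueField.map χ)) ≫ x

theorem map_gen {V W : Type u} [CommRing V] [IsDomain V] [CommRing W] [IsDomain W] (χ : V →+* W)
    (hχ : Function.Injective χ) : Spec.map (CommRingCat.ofHom χ) (SubtrLib.gen W) = SubtrLib.gen V := by
  apply PrimeSpectrum.ext
  show Ideal.comap χ (⊥ : Ideal W) = ⊥
  exact Ideal.comap_bot_of_injective _ hχ

theorem map_residue_pt {V : Type u} [CommRing V] [IsLocalRing V]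
    (t : Spec (CommRingCat.of (ResidueField V))) :
    Spec.map (CommRingCat.ofHom (residue V)) t = closedPoint V := by
  apply PrimeSpectrum.ext
  show Ideal.comap (residue V) t.asIdeal = maximalIdeal V
  rw [show t.asIdeal = ⊥ from (Ideal.eq_bot_or_top t.asIdeal).resolve_right t.2.ne_top]
  exact Ideal.mk_ker

/-- A domain maps injectively into a valuation ring dominating a given prime. -/
theorem exists_dominating {A : Type u} [CommRing A] [IsDomain A] (p : Ideal A) [p.IsPrime] :
    ∃ (O : Type u) (_ : CommRing O) (_ : IsDomain O) (_ : ValuationRing O) (ι : A →+* O),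
      Function.Injective ι ∧ ∀ a ∈ p, ¬ IsUnit (ι a) := by
  have hunit : ∀ s : p.primeCompl, IsUnit (algebraMap A (FractionRing A) s) := fun s =>
    IsUnit.mk0 _ ((map_ne_zero_iff _ (IsFractionRing.injective A (FractionRing A))).2 fun h0 =>
      s.2 (show (s : A) ∈ p from h0 ▸ p.zero_mem))
  let φ : Localization.AtPrime p →+* FractionRing A := IsLocalization.lift hunit
  obtain ⟨W, hW, hWloc⟩ := exists_factor_valuationRing φ
  let ι' : Localization.AtPrime p →+* W := φ.codRestrict W.toSubring hW
  haveI : IsLocalHom ι' := hWloc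
  refine ⟨W, inferInstance, inferInstance, inferInstance,
    ι'.comp (algebraMap A (Localization.AtPrime p)), fun a b h => ?_, fun a ha hu => ?_⟩
  · refine IsFractionRing.injective A (FractionRing A) ?_
    have h' : φ (algebraMap A _ a) = φ (algebraMap A _ b) := congrArg Subtype.val h
    simpa only [φ, IsLocalization.lift_eq] using h'
  · have hm := (IsLocalization.AtPrime.to_map_mem_maximal_iff (Localization.AtPrime p) p a).2 ha
    exact (IsLocalRing.mem_maximalIdeal _).1 hm (isUnit_of_map_unit ι' _ hu)

/-- A valuation ring extends to one with prescribed residue field extension. -/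
theorem exists_extension_residue {V : Type u} [CommRing V] [IsDomain V] [ValuationRing V] {L : Type u}
    [Field L] (r : ResidueField V →+* L) :
    ∃ (O : Type u) (_ : CommRing O) (_ : IsDomain O) (_ : ValuationRing O) (χ : V →+* O) (_ : IsLocalHom χ)
      (e : L →+* ResidueField O), Function.Injective χ ∧ e.comp r = ResidueField.map χ := by
  let ev : MvPolynomial L V →+* L := MvPolynomial.eval₂Hom (r.comp (residue V)) id
  have hev : Function.Surjective ev := fun l => ⟨MvPolynomial.X l, MvPolynomial.eval₂Hom_X' _ _ _⟩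
  haveI : (RingHom.ker ev).IsPrime := RingHom.ker_isPrime ev
  obtain ⟨O, _, _, _, ι, hιinj, hι⟩ := exists_dominating (RingHom.ker ev)
  let χ : V →+* O := ι.comp MvPolynomial.C
  haveI : IsLocalHom χ := ⟨fun v hv => by
    by_contra hn
    refine hι (MvPolynomial.C v) ?_ hv
    show ev (MvPolynomial.C v) = 0
    rw [MvPolynomial.eval₂Hom_C, RingHom.comp_apply, (residue_eq_zero_iff v).2 hn, map_zero]⟩
  have hinj : Function.Injective χ := hιinj.comp (MvPolynomial.C_injective L V)
  have hker : RingHom.ker ev ≤ RingHom.ker ((residue O).comp ι) := fun a ha => by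
    rw [RingHom.mem_ker, RingHom.comp_apply, residue_eq_zero_iff]
    exact hι a ha
  obtain ⟨e, he⟩ : ∃ e : L →+* ResidueField O, e.comp ev = (residue O).comp ι :=
    ⟨_, RingHom.liftOfRightInverse_comp ev _ (Function.rightInverse_surjInv hev) ⟨_, hker⟩⟩
  refine ⟨O, inferInstance, inferInstance, inferInstance, χ, ‹_›, e, hinj, RingHom.ext fun w => ?_⟩
  obtain ⟨v, rfl⟩ := residue_surjective w
  have h1 : e (ev (MvPolynomial.C v)) = residue O (χ v) := RingHom.congr_fun he _
  rw [MvPolynomial.eval₂Hom_C] at h1
  exact h1.trans (ResidueField.map_residue χ v).symm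

theorem genLift_of_universallyOpen {X Y : Scheme.{u}} (f : X ⟶ Y) [UniversallyOpen f]
    (hgen : ∀ {X' Y' : Scheme.{u}} (f' : X' ⟶ Y'), IsOpenMap f'.base → GeneralizingMap f'.base) :
    GenLift f := by
  intro V _ _ _ g x hx
  let P := pullback f g
  let snd : P ⟶ Spec (CommRingCat.of V) := pullback.snd f g
  haveI : UniversallyOpen snd := MorphismProperty.pullback_snd _ _ ‹UniversallyOpen f›
  let s : Spec (CommRingCat.of (ResidueField V)) ⟶ P := pullback.lift x _ hx
  have hs : s ≫ snd = Spec.map (CommRingCat.ofHom (residue V)) := pullback.lift_snd _ _ _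
  obtain ⟨⟨z, β⟩, hzs⟩ := (Scheme.SpecToEquivOfField (ResidueField V) P).symm.surjective s
  have hzs' : Spec.map β ≫ P.fromSpecResidueField z = s := hzs
  obtain ⟨γ, hγ⟩ := Spec.map_surjective (R := CommRingCat.of V) (S := P.residueField z)
    (P.fromSpecResidueField z ≫ snd)
  have hβ : γ ≫ β = CommRingCat.ofHom (residue V) := by
    apply Spec.map_injective
    rw [Spec.map_comp, hγ, ← Category.assoc, hzs', hs]
  have hβs : Function.Surjective β.hom := fun w => by
    obtain ⟨v, rfl⟩ := residue_surjective w
    exact ⟨γ.hom v, congrArg (fun m : CommRingCat.of V ⟶ CommRingCat.of (ResidueField V) => m.hom v) hβ⟩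
  haveI : IsIso β := (ConcreteCategory.isIso_iff_bijective β).2 ⟨β.hom.injective, hβs⟩
  have hz : snd z = closedPoint V := by
    have : s (closedPoint (ResidueField V)) = z := by
      rw [← hzs', Scheme.Hom.comp_apply]
      exact Scheme.fromSpecResidueField_apply _ _
    rw [← this, ← Scheme.Hom.comp_apply, hs]
    exact map_residue_pt _
  obtain ⟨ξ, hξz, hξ⟩ := hgen snd snd.isOpenMap (hz ▸ SubtrLib.gen_specializes _ : SubtrLib.gen V ⤳ snd z)
  obtain ⟨O, _, _, _, l, hl₁, hl₂⟩ := SubtrLib.exists_valuationRing_of_specializes hξz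
  obtain ⟨χ, hχ⟩ := Spec.map_surjective (R := CommRingCat.of V) (S := CommRingCat.of O) (l ≫ snd)
  have hsurj : Surjective (Spec.map χ) := SubtrLib.surjective_of_closedPoint_gen _
    (by rw [hχ, Scheme.Hom.comp_apply, hl₁, hz]) (by rw [hχ, Scheme.Hom.comp_apply, hl₂]; exact hξ)
  obtain ⟨h₁, h₂⟩ := SubtrLib.closedPoint_and_gen (Spec.map χ) hsurj.surj
  haveI hloc : IsLocalHom χ.hom := ⟨fun a ha => by
    by_contra hna
    have h' : a ∈ ((Spec.map χ) (closedPoint O)).asIdeal := by rw [h₁]; exact hna
    exact (mem_maximalIdeal _).1 h' ha⟩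
  have hinj : Function.Injective χ.hom := (injective_iff_map_eq_zero _).2 fun a ha => by
    have h' : a ∈ ((Spec.map χ) (SubtrLib.gen O)).asIdeal := ha
    rw [h₂] at h'
    exact h'
  have hla : (l ≫ pullback.fst f g) ≫ f = Spec.map χ ≫ g := by
    rw [hχ, Category.assoc, Category.assoc, pullback.condition]
  refine ⟨O, inferInstance, inferInstance, inferInstance, χ.hom, hloc, l ≫ pullback.fst f g, hinj, hla, ?_⟩
  let b := Spec.map (CommRingCat.ofHom (residue O)) ≫ l
  obtain ⟨⟨z', α⟩, hb⟩ := (Scheme.SpecToEquivOfField (ResidueField O) P).symm.surjective b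
  have hb' : Spec.map α ≫ P.fromSpecResidueField z' = b := hb
  obtain rfl : z' = z := by
    have : b (closedPoint (ResidueField O)) = z' := by
      rw [← hb', Scheme.Hom.comp_apply]
      exact Scheme.fromSpecResidueField_apply _ _
    rw [← this]
    simp only [b, Scheme.Hom.comp_apply, map_residue_pt, hl₁]
  let δ : CommRingCat.of (ResidueField V) ⟶ CommRingCat.of (ResidueField O) := inv β ≫ α
  have hbs : b = Spec.map δ ≫ s := by
    rw [← hzs', ← hb', ← Category.assoc, ← Spec.map_comp]
    simp [δ]
  have hδ : δ = CommRingCat.ofHom (ResidueField.map χ.hom) := by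
    have e : CommRingCat.ofHom (residue V) ≫ δ = χ ≫ CommRingCat.ofHom (residue O) := by
      apply Spec.map_injective
      rw [Spec.map_comp, ← hs, ← Category.assoc, ← hbs, Spec.map_comp, hχ]
      simp [b]
    ext w
    obtain ⟨v, rfl⟩ := residue_surjective w
    exact (congrArg (fun m : CommRingCat.of V ⟶ CommRingCat.of (ResidueField O) => m.hom v) e).trans
      (ResidueField.map_residue χ.hom v).symm
  rw [← Category.assoc]
  change b ≫ pullback.fst f g = _
  rw [hbs, hδ, Category.assoc, pullback.lift_fst]

theorem universallyOpen_of_genLift {X Y : Scheme.{u}} (f : X ⟶ Y) [LocallyOfFinitePresentation f]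
    (h : GenLift f) : UniversallyOpen f := by
  refine ⟨fun {X' Y'} i₁ i₂ f' sq => ?_⟩
  haveI : LocallyOfFinitePresentation f' :=
    MorphismProperty.of_isPullback sq.flip ‹LocallyOfFinitePresentation f›
  refine isOpenMap_of_generalizingMap f' fun x y hy => ?_
  obtain ⟨V, _, _, _, g, hg₁, hg₂⟩ := SubtrLib.exists_valuationRing_of_specializes hy
  let P := pullback f' g
  obtain ⟨z, hz₁, hz₂⟩ := Scheme.Pullback.exists_preimage_pullback (f := f') (g := g) x (closedPoint V) hg₁.symm
  obtain ⟨γ, hγ⟩ := Spec.map_surjective (R := CommRingCat.of V) (S := P.residueField z)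
    (P.fromSpecResidueField z ≫ pullback.snd f' g)
  have hker : RingHom.ker (residue V) ≤ RingHom.ker γ.hom := by
    have : (Spec.map γ) (closedPoint (P.residueField z)) = closedPoint V := by
      rw [hγ, Scheme.Hom.comp_apply, Scheme.fromSpecResidueField_apply, hz₂]
    have e := congrArg PrimeSpectrum.asIdeal this
    change Ideal.comap γ.hom (maximalIdeal (P.residueField z)) = maximalIdeal V at e
    rw [IsLocalRing.maximalIdeal_eq_bot] at e
    exact (Ideal.mk_ker.trans e.symm).le
  obtain ⟨r, hr⟩ : ∃ r : ResidueField V →+* P.residueField z, r.comp (residue V) = γ.hom :=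
    ⟨_, RingHom.liftOfRightInverse_comp (residue V) _ (Function.rightInverse_surjInv residue_surjective)
      ⟨γ.hom, hker⟩⟩
  obtain ⟨O, _, _, _, χ, _, e, hχ, he⟩ := exists_extension_residue r
  let w : Spec (CommRingCat.of (ResidueField O)) ⟶ X' :=
    Spec.map (CommRingCat.ofHom e) ≫ P.fromSpecResidueField z ≫ pullback.fst f' g
  have hw : w ≫ f' = Spec.map (CommRingCat.ofHom (residue O)) ≫ Spec.map (CommRingCat.ofHom χ) ≫ g := by
    simp only [w, Category.assoc, pullback.condition]
    rw [← reassoc_of% hγ, ← Spec.map_comp_assoc, ← Spec.map_comp_assoc]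
    congr 2
    ext v
    show e (γ.hom v) = residue O (χ v)
    rw [← ResidueField.map_residue χ v, ← he, RingHom.comp_apply]
    exact congrArg e (RingHom.congr_fun hr v).symm
  obtain ⟨O', _, _, _, χ', _, a, hχ', ha₁, ha₂⟩ := h O (Spec.map (CommRingCat.ofHom χ) ≫ g ≫ i₂) (w ≫ i₁) (by
    rw [Category.assoc, ← sq.w, reassoc_of% hw])
  let a' : Spec (CommRingCat.of O') ⟶ X' :=
    sq.lift (Spec.map (CommRingCat.ofHom χ') ≫ Spec.map (CommRingCat.ofHom χ) ≫ g) a
      (by rw [ha₁]; simp only [Category.assoc])
  have hc : Spec.map (CommRingCat.ofHom (residue O')) ≫ a' =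
      Spec.map (CommRingCat.ofHom (ResidueField.map χ')) ≫ w := by
    refine sq.hom_ext ?_ ?_
    · rw [Category.assoc, Category.assoc, sq.lift_fst, hw, ← Spec.map_comp_assoc, ← Spec.map_comp_assoc,
        ← Spec.map_comp_assoc, ← Spec.map_comp_assoc]
      congr 2
    · rw [Category.assoc, sq.lift_snd, ha₂]
      simp only [w, Category.assoc]
  have ha'₁ : a' ≫ f' = Spec.map (CommRingCat.ofHom χ') ≫ Spec.map (CommRingCat.ofHom χ) ≫ g :=
    sq.lift_fst _ _ _
  have ha'₂ : a' ≫ i₁ = a := sq.lift_snd _ _ _
  refine ⟨a' (SubtrLib.gen O'), ?_, ?_⟩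
  · have : a' (closedPoint O') = x := by
      rw [← map_residue_pt (V := O') (closedPoint (ResidueField O')), ← Scheme.Hom.comp_apply, hc]
      simp only [w, Scheme.Hom.comp_apply]
      exact (congrArg (pullback.fst f' g).base (P.fromSpecResidueField_apply z _)).trans hz₁
    exact this ▸ (SubtrLib.gen_specializes _).map a'.continuous
  · rw [← Scheme.Hom.comp_apply, ha'₁, Scheme.Hom.comp_apply, Scheme.Hom.comp_apply, map_gen _ hχ',
      map_gen _ hχ, hg₂]

end Groth.Agent.HTopUltra
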