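import Groth.Agent.HTopUltra.SepEff
import Groth.Agent.S10837

/-!
# Effective descent of separated étale schemes along universally open surjections
-/

set_option autoImplicit false
set_option linter.style.haveILetI false
set_option maxHeartbeats 800000
set_option backward.isDefEq.respectTransparency false

universe u

open CategoryTheory CategoryTheory.Limits AlgebraicGeometry Topology TopologicalSpace
open Groth.Agent.SGA1Desc

namespace Groth.Agent.HTopUltra.SepEff

/-- Universally open surjections are universally subtrusive. -/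
theorem univSSubtrusive_of_open {X Y : Scheme.{u}} (f : X ⟶ Y) [UniversallyOpen f] [Surjective f] :
    Subtr.UnivSSubtrusive f := by
  intro X' Y' i₁ i₂ f' sq y y' hy
  haveI : UniversallyOpen f' := MorphismProperty.of_isPullback sq.flip ‹UniversallyOpen f›
  haveI : Surjective f' := MorphismProperty.of_isPullback sq.flip ‹Surjective f›
  obtain ⟨x, rfl⟩ := f'.surjective y
  obtain ⟨x', hx', rfl⟩ := Groth.Agent.S10837.result f' f'.isOpenMap hy
  exact ⟨x, x', hx', rfl, rfl⟩

/-- Effective descent along universally open surjections, given the quasi-compact case. -/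
theorem exists_eff_of_open
    (hbase : ∀ {X' S' : Scheme.{u}} [IsAffine X'] [IsAffine S'] {g' : X' ⟶ S'}
      [UniversallyOpen g'] [Surjective g'] (D' : Desc.SchDD g') [QuasiCompact D'.obj.hom]
      [IsSeparated D'.obj.hom] [Etale D'.obj.hom], Nonempty (Eff D' (𝟙 S')))
    {X S : Scheme.{u}} {g : X ⟶ S} [UniversallyOpen g] [Surjective g] (D : Desc.SchDD g)
    [IsSeparated D.obj.hom] [Etale D.obj.hom] : Nonempty (Eff D (𝟙 S)) := by
  classical
  refine exists_eff_of_openCover D (univSubmersive_of_open g) fun s => ?_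
  obtain ⟨V, hV, hs, -⟩ := exists_isAffineOpen_mem_and_subset (Opens.mem_top s)
  refine ⟨V, hs, ?_⟩
  haveI : IsAffine V.toScheme := hV
  let g₁ := pullback.snd g V.ι
  haveI : UniversallyOpen g₁ := MorphismProperty.pullback_snd _ _ ‹UniversallyOpen g›
  haveI : Surjective g₁ := MorphismProperty.pullback_snd _ _ ‹Surjective g›
  let P := pullback g V.ι
  choose O hO hmem _hle using fun x : P => exists_isAffineOpen_mem_and_subset (Opens.mem_top x)
  obtain ⟨F, hF⟩ := (isCompact_univ (X := V.toScheme)).elim_finite_subcover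
    (fun x : P => g₁ '' (O x : Set P)) (fun x => g₁.isOpenMap _ (O x).2) fun v _ => by
      obtain ⟨x, rfl⟩ := g₁.surjective v
      exact Set.mem_iUnion.2 ⟨x, x, hmem x, rfl⟩
  haveI : ∀ x : ↥F, IsAffine (O x.1).toScheme := fun x => hO _
  let c : (∐ fun x : ↥F => (O x.1).toScheme) ⟶ P := Sigma.desc fun x => (O x.1).ι
  haveI : Etale c := IsZariskiLocalAtSource.sigmaDesc fun x => inferInstance
  haveI : UniversallyOpen c := inferInstance
  let p := c ≫ g₁
  haveI : UniversallyOpen p := inferInstanceAs (UniversallyOpen (c ≫ g₁))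
  haveI : Surjective p := ⟨fun v => by
    obtain ⟨x, hx⟩ := Set.mem_iUnion.1 (hF (Set.mem_univ v))
    obtain ⟨hxF, y, hy, rfl⟩ := Set.mem_iUnion.1 hx
    refine ⟨(Sigma.ι (fun x : ↥F => (O x.1).toScheme) ⟨x, hxF⟩) ⟨y, hy⟩, ?_⟩
    simp only [p]
    rw [← Scheme.Hom.comp_apply, Sigma.ι_desc_assoc]
    rfl⟩
  haveI : IsAffine (∐ fun x : ↥F => (O x.1).toScheme) := inferInstance
  haveI : QuasiCompact p := quasiCompact_of_compactSpace p
  have w : (c ≫ pullback.fst g V.ι) ≫ g = p ≫ V.ι := by
    simp only [p, g₁, Category.assoc, pullback.condition]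
  let D₁ := pullDatum D p (c ≫ pullback.fst g V.ι) V.ι w
  haveI : IsSeparated D₁.obj.hom := MorphismProperty.pullback_snd _ _ ‹IsSeparated D.obj.hom›
  haveI : Etale D₁.obj.hom := MorphismProperty.pullback_snd _ _ ‹Etale D.obj.hom›
  obtain ⟨E₁⟩ : Nonempty (Eff D₁ (𝟙 _)) :=
    exists_eff_of_stable_cover D₁ (univSubmersive_of_open p)
      (fun z => exists_stable_of_universallyOpen z)
      (fun D' _ _ _ => hbase D')
  obtain ⟨E⟩ := exists_eff_of_pullDatum D p (c ≫ pullback.fst g V.ι) V.ι w
    (univSubmersive_of_open p) E₁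
  exact ⟨E.pull (𝟙 _) V.ι (by simp)⟩

end Groth.Agent.HTopUltra.SepEff
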