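import Groth.Agent.HTopUltra.Stage
import Groth.Agent.HTopLib.Cover
import Groth.Agent.SubtrLib.Val
import Groth.Agent.LimTop.BaseChange
import Groth.Prelude.Def_W4c2submetdescSubtr

/-!
# Universally subtrusive morphisms of finite presentation descend along limits
-/

set_option autoImplicit false
set_option linter.style.haveILetI false

universe u

open CategoryTheory CategoryTheory.Limits AlgebraicGeometry Topology TopologicalSpace

namespace Groth.Agent.HTopUltra

theorem exists_univSSubtrusive_descend {I : Type u} [SmallCategory I] [IsCofiltered I]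
    (D : I ⥤ Scheme.{u}) (c : Cone D) (hc : IsLimit c)
    [∀ (i j : I) (a : i ⟶ j), IsAffineHom (D.map a)] (i₀ : I)
    {X₀ Y₀ : Scheme.{u}} (f₀ : X₀ ⟶ Y₀) (g₀ : Y₀ ⟶ D.obj i₀) [CompactSpace Y₀]
    [LocallyOfFinitePresentation f₀] [QuasiCompact f₀]
    {X Y : Scheme.{u}} (f : X ⟶ Y) (g : Y ⟶ c.pt) (qY : Y ⟶ Y₀) (qX : X ⟶ X₀)
    (hY : IsPullback qY g g₀ (c.π.app i₀)) (hX : IsPullback qX f f₀ qY)
    (hf : Subtr.UnivSSubtrusive f) :
    ∃ (i : I) (φ : i ⟶ i₀) (Xi Yi : Scheme.{u}) (fi : Xi ⟶ Yi) (gi : Yi ⟶ D.obj i) (pY : Yi ⟶ Y₀)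
      (pX : Xi ⟶ X₀), IsPullback pY gi g₀ (D.map φ) ∧ IsPullback pX fi f₀ pY ∧
        Subtr.UnivSSubtrusive fi := by
  classical
  have key : ∀ W : Y₀.affineOpens, ∃ j : Over i₀, ∀ (V : CommRingCat.{u}) [IsDomain V] [ValuationRing V]
      (a : Spec V ⟶ D.obj j.left) (l : Spec V ⟶ (W.1 : Scheme.{u})),
      a ≫ D.map j.hom = l ≫ W.1.ι ≫ g₀ →
      ∃ (V' : CommRingCat.{u}) (_ : IsDomain V') (_ : ValuationRing V') (χ : V ⟶ V'),
        HTop.IsExtVal V V' χ ∧ ∃ s : Spec V' ⟶ X₀, s ≫ f₀ = Spec.map χ ≫ l ≫ W.1.ι := by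
    intro W
    haveI : IsAffine (W.1 : Scheme.{u}) := W.2
    haveI : CompactSpace (f₀ ⁻¹ᵁ W.1).toScheme :=
      isCompact_iff_compactSpace.1 (f₀.isCompact_preimage W.2.isCompact)
    obtain ⟨n, U, hU, hcov⟩ := HTopLib.exists_affine_cover (f₀ ⁻¹ᵁ W.1).toScheme
    haveI : ∀ k, IsAffine (U k : Scheme.{u}) := hU
    let h : (W.1 : Scheme.{u}) ⟶ D.obj i₀ := W.1.ι ≫ g₀
    let D' : Over i₀ ⥤ Scheme.{u} := LimTop.bcDiagram D i₀ h
    haveI : ∀ j, IsAffine (D'.obj j) := fun j => by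
      haveI : IsAffineHom (D.map j.hom) :=
        (inferInstance : IsAffineHom (D.map (show j.left ⟶ i₀ from j.hom)))
      exact @isAffine_of_isAffineHom _ _ (pullback.snd (D.map j.hom) h)
        (MorphismProperty.pullback_snd _ _ this) _
    let c' : Cone D' := LimTop.bcCone c i₀ h
    have hc' : IsLimit c' := LimTop.isLimitBcCone hc i₀ h
    let j₀ : Over i₀ := Over.mk (𝟙 i₀)
    let p₀ : (∐ fun k => (U k : Scheme.{u})) ⟶ (W.1 : Scheme.{u}) :=
      Sigma.desc fun k => (U k).ι ≫ f₀ ∣_ W.1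
    haveI : LocallyOfFinitePresentation p₀ :=
      IsZariskiLocalAtSource.sigmaDesc (P := @LocallyOfFinitePresentation) fun k => inferInstance
    let e : (W.1 : Scheme.{u}) ⟶ D'.obj j₀ := pullback.lift h (𝟙 _)
      (show h ≫ D.map (𝟙 i₀) = 𝟙 _ ≫ h by rw [D.map_id, Category.comp_id, Category.id_comp])
    haveI : IsIso e := by
      haveI : IsIso (D.map j₀.hom) := inferInstanceAs (IsIso (D.map (𝟙 i₀)))
      have hs : IsIso (pullback.snd (D.map j₀.hom) h) := pullback_snd_iso_of_left_iso (D.map j₀.hom) h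
      have he : e ≫ pullback.snd (D.map j₀.hom) h = 𝟙 (W.1 : Scheme.{u}) := pullback.lift_snd _ _ _
      have hes : IsIso (e ≫ pullback.snd (D.map j₀.hom) h) := he.symm ▸ IsIso.id (W.1 : Scheme.{u})
      exact @IsIso.of_isIso_comp_right _ _ _ _ _ e (pullback.snd (D.map j₀.hom) h) hs hes
    let p : (∐ fun k => (U k : Scheme.{u})) ⟶ D'.obj j₀ := p₀ ≫ e
    haveI : LocallyOfFinitePresentation p := inferInstanceAs (LocallyOfFinitePresentation (p₀ ≫ e))
    let m : (∐ fun k => (U k : Scheme.{u})) ⟶ X₀ := Sigma.desc fun k => (U k).ι ≫ (f₀ ⁻¹ᵁ W.1).ι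
    have hm : m ≫ f₀ = p₀ ≫ W.1.ι := Sigma.hom_ext _ _ fun k => by simp [m, p₀]
    let P := pullback p₀ (pullback.snd (c.π.app i₀) h)
    let q : P ⟶ c'.pt := pullback.snd p₀ (pullback.snd (c.π.app i₀) h)
    have hπ : c'.π.app j₀ = pullback.snd (c.π.app i₀) h ≫ e := by
      refine pullback.hom_ext ?_ ?_
      · refine (LimTop.bcCone_fst c i₀ h j₀).trans ?_
        show pullback.fst (c.π.app i₀) h ≫ c.π.app i₀ = (pullback.snd (c.π.app i₀) h ≫ e) ≫ _
        exact (pullback.condition.trans ((congrArg (pullback.snd (c.π.app i₀) h ≫ ·)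
          (pullback.lift_fst h (𝟙 _) _).symm).trans (Category.assoc _ _ _).symm))
      · refine (LimTop.bcCone_snd c i₀ h j₀).trans ?_
        show pullback.snd (c.π.app i₀) h = (pullback.snd (c.π.app i₀) h ≫ e) ≫ _
        exact ((Category.comp_id _).symm.trans ((congrArg (pullback.snd (c.π.app i₀) h ≫ ·)
          (pullback.lift_snd h (𝟙 _) _).symm).trans (Category.assoc _ _ _).symm))
    have hq : pullback.fst p₀ (pullback.snd (c.π.app i₀) h) ≫ p = q ≫ c'.π.app j₀ := by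
      rw [hπ]
      exact pullback.condition_assoc e
    have hlift : HTop.HasValLift (PreZeroHypercover.singleton.{0} q) := by
      intro V _ _ gV
      let tY : pullback (c.π.app i₀) h ⟶ Y := hY.lift (pullback.snd _ _ ≫ W.1.ι) (pullback.fst _ _)
        (by rw [Category.assoc]; exact pullback.condition.symm)
      let gV' : Spec V ⟶ pullback (c.π.app i₀) h := gV
      obtain ⟨V', _, _, _, a, b, hb, hab⟩ :=
        (SubtrLib.univSSubtrusive_iff_exists_lift f).1 hf V (gV' ≫ tY)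
      have h1 : (a ≫ qX) ≫ f₀ = (b ≫ gV' ≫ pullback.snd _ _) ≫ W.1.ι := by
        rw [Category.assoc, hX.w, reassoc_of% hab]
        simp [tY]
      have hr : Set.range (a ≫ qX) ⊆ Set.range (f₀ ⁻¹ᵁ W.1).ι := by
        rintro _ ⟨z, rfl⟩
        rw [Scheme.Opens.range_ι]
        show f₀ ((a ≫ qX) z) ∈ W.1
        rw [← Scheme.Hom.comp_apply, h1, Scheme.Hom.comp_apply]
        exact ((b ≫ gV' ≫ pullback.snd _ _) z).2
      let a' := IsOpenImmersion.lift (f₀ ⁻¹ᵁ W.1).ι (a ≫ qX) hr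
      obtain ⟨k, hk⟩ := hcov (a' (IsLocalRing.closedPoint V'))
      have hr' : Set.range a' ⊆ Set.range (U k).ι := by
        rw [Scheme.Opens.range_ι]
        exact HTopLib.range_subset_of_closedPoint a' (U k) hk
      let a'' : Spec (CommRingCat.of V') ⟶ ∐ fun k => (U k : Scheme.{u}) :=
        IsOpenImmersion.lift (U k).ι a' hr' ≫ Sigma.ι (fun k => (U k : Scheme.{u})) k
      have ha'' : a'' ≫ p₀ = b ≫ gV' ≫ pullback.snd _ _ := by
        rw [← cancel_mono W.1.ι, ← h1]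
        simp [a'', p₀, a']
      obtain ⟨χ, hχ⟩ := Spec.map_surjective (R := V) (S := CommRingCat.of V') b
      refine ⟨CommRingCat.of V', ‹_›, ‹_›, χ, HTopLib.isExtVal_of_closedPoint_gen χ (hχ.symm ▸ hb),
        PUnit.unit, pullback.lift a'' (b ≫ gV') (ha''.trans (Category.assoc _ _ _).symm), ?_⟩
      rw [hχ]
      exact pullback.lift_snd _ _ _
    obtain ⟨j, ψ, hj⟩ := exists_stage_hasValLift D' c' hc' j₀ p _ q hq hlift
    refine ⟨j, fun V _ _ a l hal => ?_⟩
    let gV : Spec V ⟶ D'.obj j := pullback.lift a l hal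
    obtain ⟨V', hV1, hV2, χ, hχ, _, s, hs⟩ := hj V gV
    let s' : Spec V' ⟶ pullback p (D'.map ψ) := s
    have hs' : s' ≫ pullback.snd p (D'.map ψ) = Spec.map χ ≫ gV := hs
    refine ⟨V', hV1, hV2, χ, hχ, s' ≫ pullback.fst p (D'.map ψ) ≫ m, ?_⟩
    have hψ : D'.map ψ ≫ pullback.snd (D.map j₀.hom) h = pullback.snd (D.map j.hom) h :=
      pullback.lift_snd _ _ _
    have hp : p ≫ pullback.snd (D.map j₀.hom) h = p₀ :=
      (Category.assoc _ _ _).trans ((congrArg (p₀ ≫ ·) (pullback.lift_snd _ _ _)).trans (Category.comp_id _))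
    have hgV : gV ≫ pullback.snd (D.map j.hom) h = l := pullback.lift_snd _ _ _
    rw [Category.assoc, Category.assoc, hm, ← hp, Category.assoc, pullback.condition_assoc,
      reassoc_of% hs', reassoc_of% hψ, reassoc_of% hgV]
  choose j hj using key
  obtain ⟨t, ht⟩ := (isCompact_univ (X := Y₀)).elim_finite_subcover
    (fun W : Y₀.affineOpens => (W.1 : Set Y₀)) (fun W => W.1.2) fun x _ => by
      obtain ⟨W, hW, hxW, -⟩ := exists_isAffineOpen_mem_and_subset (Opens.mem_top x)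
      exact Set.mem_iUnion.2 ⟨⟨W, hW⟩, hxW⟩
  obtain ⟨i, hi⟩ := IsCofiltered.inf_objs_exists (t.image j)
  let pY : pullback g₀ (D.map i.hom) ⟶ Y₀ := pullback.fst _ _
  let fi : pullback f₀ pY ⟶ pullback g₀ (D.map i.hom) := pullback.snd _ _
  refine ⟨i.left, i.hom, _, _, fi, pullback.snd _ _, pY, pullback.fst _ _,
    IsPullback.of_hasPullback _ _, IsPullback.of_hasPullback _ _, ?_⟩
  rw [SubtrLib.univSSubtrusive_iff_exists_lift]
  intro V _ _ _ gV
  obtain ⟨W, hWt, hW⟩ := Set.mem_iUnion₂.1 (ht (Set.mem_univ ((gV ≫ pY) (IsLocalRing.closedPoint V))))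
  have hr : Set.range (gV ≫ pY) ⊆ Set.range W.1.ι := by
    rw [Scheme.Opens.range_ι]
    exact HTopLib.range_subset_of_closedPoint (gV ≫ pY) W.1 hW
  let a := (hi (Finset.mem_image_of_mem j hWt)).some
  obtain ⟨V', hV1, hV2, χ, hχ, s, hs⟩ := hj W (CommRingCat.of V)
    (gV ≫ pullback.snd g₀ (D.map i.hom) ≫ D.map a.left) (IsOpenImmersion.lift W.1.ι (gV ≫ pY) hr) (by
      rw [IsOpenImmersion.lift_fac_assoc, Category.assoc, Category.assoc, Category.assoc, ← D.map_comp,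
        Over.w a]
      exact congrArg (gV ≫ ·) pullback.condition.symm)
  rw [IsOpenImmersion.lift_fac] at hs
  haveI := hχ.2
  refine ⟨V', inferInstance, hV1, hV2, pullback.lift s (Spec.map χ ≫ gV) (hs.trans (Category.assoc _ _ _).symm),
    Spec.map χ, ⟨SubtrLib.comap_surjective χ.hom hχ.1⟩, pullback.lift_snd _ _ _⟩

end Groth.Agent.HTopUltra
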