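import Groth.Agent.HTopUltra.OpenLift
import Groth.Agent.HTopUltra.SubtrDescend

/-!
# Universally open morphisms of finite presentation descend along limits
-/

set_option autoImplicit false
set_option linter.style.haveILetI false

universe u

open CategoryTheory CategoryTheory.Limits AlgebraicGeometry Opposite Groth.Agent.LimLib IsLocalRing
open TopologicalSpace

namespace Groth.Agent.HTopUltra

/-- Los's theorem for lifts of rational points of closed fibres. -/
theorem exists_point_of_prod {ι : Type u} (F : Ultrafilter ι) (V : ι → Type u) [∀ i, CommRing (V i)]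
    [∀ i, IsDomain (V i)] [∀ i, ValuationRing (V i)] {R B : Type u} [CommRing R] [CommRing B] (τ : R →+* B)
    (hτ : τ.FinitePresentation) (η : ∀ i, R →+* V i) (xr : ∀ i, B →+* ResidueField (V i))
    (hxη : ∀ i r, xr i (τ r) = residue (V i) (η i r)) {W : Type u} [CommRing W] [IsDomain W]
    [ValuationRing W] (φ : Ultra.Prod F V →+* W) (hφ : Function.Injective φ) [IsLocalHom φ]
    (ψ : B →+* W)
    (h : ψ.comp τ = φ.comp ((Ideal.Quotient.mk (Ultra.nullIdeal F V)).comp (RingHom.pi η)))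
    (hx : ∀ b (v : ∀ i, V i), (∀ i, residue (V i) (v i) = xr i b) →
      ¬ IsUnit (ψ b - φ (Ideal.Quotient.mk _ v))) :
    ∀ᶠ i in (F : Filter ι), ∃ (O : Type u) (_ : CommRing O) (_ : IsDomain O) (_ : ValuationRing O)
      (χ : V i →+* O) (_ : IsLocalHom χ) (θ : B →+* O),
      Function.Injective χ ∧ θ.comp τ = χ.comp (η i) ∧
        (residue O).comp θ = (ResidueField.map χ).comp (xr i) := by
  classical
  haveI := isDomain_prod F V
  haveI := valuationRing_prod F V
  let Ω : ι → Type u := fun i => AlgebraicClosure (FractionRing (V i))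
  let κ : ∀ i, V i →+* Ω i := fun i =>
    (algebraMap (FractionRing (V i)) (AlgebraicClosure (FractionRing (V i)))).comp
      (algebraMap (V i) (FractionRing (V i)))
  have hκ : ∀ i, Function.Injective (κ i) := fun i =>
    (algebraMap (FractionRing (V i)) (AlgebraicClosure (FractionRing (V i)))).injective.comp
      (IsFractionRing.injective (V i) (FractionRing (V i)))
  choose O hO hOl using fun i => IsLocalRing.exists_factor_valuationRing (R := V i) (K := Ω i) (κ i)
  haveI : IsAlgClosed (Ultra.Prod F Ω) := isAlgClosed_prod F Ω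
  let OP : ValuationSubring (Ultra.Prod F Ω) := Ultra.valuationSubring F Ω (W := fun i => O i)
  let κP : Ultra.Prod F V →+* Ultra.Prod F Ω := Ultra.map F κ
  let κO : ∀ i, V i →+* O i := fun i => (κ i).codRestrict (O i).toSubring (hO i)
  have hmk : ∀ w : ∀ i, Ω i, (∀ᶠ i in (F : Filter ι), w i ∈ O i) → Ideal.Quotient.mk _ w ∈ OP := by
    intro w hw
    refine ⟨Ideal.Quotient.mk _ fun i => if hi : w i ∈ O i then ⟨w i, hi⟩ else 0, ?_⟩
    refine (Ultra.mk_eq_mk_iff F Ω).2 ?_
    filter_upwards [hw] with i hi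
    show algebraMap (O i) (Ω i) (if hi : w i ∈ O i then ⟨w i, hi⟩ else 0) = w i
    rw [dif_pos hi]
    rfl
  have hmem : ∀ a, κP a ∈ OP := fun a => by
    obtain ⟨f, rfl⟩ := Ideal.Quotient.mk_surjective a
    exact ⟨Ideal.Quotient.mk _ fun i => κO i (f i), rfl⟩
  have hlt : ∀ a, ¬ IsUnit a → OP.valuation (κP a) < 1 := fun a ha => by
    refine (OP.valuation_lt_one_iff ⟨κP a, hmem a⟩).1 ?_
    rw [IsLocalRing.mem_maximalIdeal, mem_nonunits_iff]
    intro hu
    refine ha ?_
    obtain ⟨⟨b, w, hw⟩, hb⟩ := isUnit_iff_exists_inv.1 hu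
    obtain ⟨f, rfl⟩ := Ideal.Quotient.mk_surjective a
    obtain ⟨w, rfl⟩ := Ideal.Quotient.mk_surjective w
    have hb' : κP (Ideal.Quotient.mk _ f) * b = 1 := congrArg Subtype.val hb
    rw [← hw, show κP (Ideal.Quotient.mk _ f) = Ideal.Quotient.mk _ fun i => κ i (f i) from rfl,
      show (Ultra.map F fun i => algebraMap (O i) (Ω i)) (Ideal.Quotient.mk _ w) =
        Ideal.Quotient.mk _ fun i => algebraMap (O i) (Ω i) (w i) from rfl, ← map_mul, ← map_one (Ideal.Quotient.mk (Ultra.nullIdeal F Ω)), Ultra.mk_eq_mk_iff] at hb'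
    refine isUnit_iff_exists_inv.2 ⟨Ideal.Quotient.mk _ fun i => Ring.inverse (f i), ?_⟩
    rw [← map_mul, ← map_one (Ideal.Quotient.mk (Ultra.nullIdeal F V)), Ultra.mk_eq_mk_iff]
    filter_upwards [hb'] with i hi
    refine Ring.mul_inverse_cancel _ ((hOl i).map_nonunit _ (isUnit_iff_exists_inv.2 ⟨w i, ?_⟩))
    exact Subtype.ext hi
  obtain ⟨θ, hθO, hθ, hθm⟩ := exists_ringHom_into' κP (Ultra.map_injective F hκ) OP hmem hlt
    ((Ideal.Quotient.mk (Ultra.nullIdeal F V)).comp (RingHom.pi η)) τ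
    (RingHom.FiniteType.of_finitePresentation hτ) φ hφ ψ h
  letI := τ.toAlgebra
  haveI : Algebra.FinitePresentation R B := hτ
  obtain ⟨n, f, hfs, t, ht⟩ := (inferInstance : Algebra.FinitePresentation R B).out
  choose x hx' using fun k => Ideal.Quotient.mk_surjective (θ (f (MvPolynomial.X k)))
  choose xl hxl using fun k i => residue_surjective (xr i (f (MvPolynomial.X k)))
  let e : ∀ i, MvPolynomial (Fin n) R →+* Ω i := fun i =>
    MvPolynomial.eval₂Hom ((κ i).comp (η i)) fun k => x k i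
  have heq : θ.comp f.toRingHom = (Ideal.Quotient.mk (Ultra.nullIdeal F Ω)).comp (RingHom.pi e) := by
    refine MvPolynomial.ringHom_ext (fun r => ?_) fun k => ?_
    · show θ (f (MvPolynomial.C r)) = Ideal.Quotient.mk _ fun i => e i (MvPolynomial.C r)
      rw [← MvPolynomial.algebraMap_eq, f.commutes, show θ (algebraMap R B r) = _ from RingHom.congr_fun hθ r]
      simp [e, κP]
    · show θ (f (MvPolynomial.X k)) = Ideal.Quotient.mk _ fun i => e i (MvPolynomial.X k)
      rw [← hx' k]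
      simp [e]
  have h1 : ∀ᶠ i in (F : Filter ι), ∀ k, x k i ∈ O i := Filter.eventually_all.2 fun k => by
    filter_upwards [Ultra.mem_valuationSubring F Ω (W := fun i => O i) (a := x k)
      (by rw [hx']; exact hθO _)] with i ⟨w, hw⟩
    exact hw ▸ w.2
  have h2 : ∀ᶠ i in (F : Filter ι), ∀ r ∈ t, e i r = 0 := (Filter.eventually_all_finset t).2 fun r hr => by
    have hr0 : θ.comp f.toRingHom r = 0 := by
      show θ (f r) = 0
      rw [show f r = 0 from ht.le (Ideal.subset_span hr), map_zero]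
    rw [heq, RingHom.comp_apply, ← map_zero (Ideal.Quotient.mk (Ultra.nullIdeal F Ω)), Ultra.mk_eq_mk_iff] at hr0
    exact hr0
  have h3 : ∀ᶠ i in (F : Filter ι), ∀ k, (O i).valuation (x k i - κ i (xl k i)) < 1 :=
    Filter.eventually_all.2 fun k => by
    by_contra hne
    rw [← Ultrafilter.eventually_not] at hne
    have hv := hθm (f (MvPolynomial.X k)) (Ideal.Quotient.mk _ (xl k)) (hx _ _ (hxl k))
    rw [← hx' k, show κP (Ideal.Quotient.mk _ (xl k)) = Ideal.Quotient.mk _ fun i => κ i (xl k i) from rfl,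
      ← map_sub] at hv
    let w : ∀ i, Ω i := fun i => (x k i - κ i (xl k i))⁻¹
    have hwO : ∀ᶠ i in (F : Filter ι), w i ∈ O i := hne.mono fun i hi => by
      refine ((O i).valuation_le_one_iff _).1 ?_
      rw [map_inv₀]
      exact inv_le_one_of_one_le₀ (not_lt.1 hi)
    have hmul : Ideal.Quotient.mk (Ultra.nullIdeal F Ω) (fun i => x k i - κ i (xl k i)) *
        Ideal.Quotient.mk _ w = 1 := by
      rw [← map_mul, ← map_one (Ideal.Quotient.mk (Ultra.nullIdeal F Ω)), Ultra.mk_eq_mk_iff]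
      filter_upwards [hne] with i hi
      refine mul_inv_cancel₀ fun h0 => hi ?_
      rw [h0, map_zero]
      exact zero_lt_one
    have := congrArg OP.valuation hmul
    rw [map_mul, map_one] at this
    exact (mul_lt_one_of_lt_of_le hv ((OP.valuation_le_one_iff _).2 (hmk w hwO))).ne this
  filter_upwards [h1, h2, h3] with i hxO hr hxm
  let e' : MvPolynomial (Fin n) R →+* O i := MvPolynomial.eval₂Hom ((κO i).comp (η i)) fun k => ⟨x k i, hxO k⟩
  have he' : (O i).subtype.comp e' = e i := by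
    refine MvPolynomial.ringHom_ext (fun r => ?_) fun k => ?_
    · simp [e, e']
      rfl
    · simp [e, e']
  have hker : RingHom.ker f.toRingHom ≤ RingHom.ker e' := by
    rw [← ht, Ideal.span_le]
    intro r hr'
    refine Subtype.ext ?_
    exact (RingHom.congr_fun he' r).trans (hr r hr')
  obtain ⟨θ', hθ'⟩ : ∃ θ' : B →+* O i, θ'.comp f.toRingHom = e' :=
    ⟨_, RingHom.liftOfRightInverse_comp f.toRingHom _ (Function.rightInverse_surjInv hfs) ⟨e', hker⟩⟩
  haveI : IsLocalHom (κO i) := hOl i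
  have hθ'C : ∀ r, θ' (τ r) = κO i (η i r) := fun r => by
    have hc : f.toRingHom (MvPolynomial.C r) = τ r := by
      rw [← MvPolynomial.algebraMap_eq]
      exact f.commutes r
    rw [← hc, ← RingHom.comp_apply θ', hθ']
    exact MvPolynomial.eval₂Hom_C _ _ _
  refine ⟨O i, inferInstance, inferInstance, inferInstance, κO i, inferInstance, θ',
    fun a b hab => hκ i (congrArg Subtype.val hab), RingHom.ext hθ'C, ?_⟩
  have key : ((residue (O i)).comp θ').comp f.toRingHom =
      ((ResidueField.map (κO i)).comp (xr i)).comp f.toRingHom := by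
    refine MvPolynomial.ringHom_ext (fun r => ?_) fun k => ?_
    · have hc : f.toRingHom (MvPolynomial.C r) = τ r := by
        rw [← MvPolynomial.algebraMap_eq]
        exact f.commutes r
      simp only [RingHom.comp_apply]
      rw [hc, hθ'C, hxη, ResidueField.map_residue]
    · have hk : θ' (f.toRingHom (MvPolynomial.X k)) = ⟨x k i, hxO k⟩ := by
        rw [← RingHom.comp_apply θ', hθ']
        exact MvPolynomial.eval₂Hom_X' _ _ _
      have hk' : xr i (f.toRingHom (MvPolynomial.X k)) = residue (V i) (xl k i) := (hxl k i).symm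
      rw [RingHom.comp_apply, RingHom.comp_apply, RingHom.comp_apply, RingHom.comp_apply, hk, hk',
        ResidueField.map_residue, ← sub_eq_zero, ← map_sub, residue_eq_zero_iff]
      exact ((O i).valuation_lt_one_iff _).2 (hxm k)
  exact RingHom.ext fun b => by
    obtain ⟨P, rfl⟩ := hfs b
    exact RingHom.congr_fun key P

/-- The residue field of an ultraproduct receives the product of the residue fields. -/
theorem exists_residue_pi {ι : Type u} (F : Ultrafilter ι) (V : ι → Type u) [∀ i, CommRing (V i)]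
    [∀ i, IsLocalRing (V i)] [IsLocalRing (Ultra.Prod F V)] :
    ∃ π : (∀ i, ResidueField (V i)) →+* ResidueField (Ultra.Prod F V),
      ∀ v : ∀ i, V i, π (fun i => residue (V i) (v i)) = residue _ (Ideal.Quotient.mk _ v) := by
  let ev : (∀ i, V i) →+* ∀ i, ResidueField (V i) :=
    RingHom.pi fun i => (residue (V i)).comp (Pi.evalRingHom V i)
  have hev : Function.Surjective ev := fun w => by
    choose v hv using fun i => residue_surjective (w i)
    exact ⟨v, funext hv⟩
  have hker : RingHom.ker ev ≤ RingHom.ker ((residue _).comp (Ideal.Quotient.mk (Ultra.nullIdeal F V))) := by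
    intro v hv
    rw [RingHom.mem_ker, RingHom.comp_apply, residue_eq_zero_iff, mem_maximalIdeal, mem_nonunits_iff]
    intro hu
    obtain ⟨w, hw⟩ := isUnit_iff_exists_inv.1 hu
    obtain ⟨w, rfl⟩ := Ideal.Quotient.mk_surjective w
    rw [← map_mul, ← map_one (Ideal.Quotient.mk (Ultra.nullIdeal F V)), Ultra.mk_eq_mk_iff] at hw
    obtain ⟨i, hi⟩ := hw.exists
    exact (residue_eq_zero_iff _).1 (congrFun hv i) (isUnit_iff_exists_inv.2 ⟨w i, hi⟩)
  exact ⟨RingHom.liftOfSurjective ev hev ⟨_, hker⟩,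
    fun v => RingHom.liftOfRightInverse_comp_apply ev _ _ _ v⟩

/-- Lifts of rational points of closed fibres at the limit come from a stage. -/
theorem exists_stage_genLift {I : Type u} [SmallCategory I] [IsCofiltered I] (D : I ⥤ Scheme.{u})
    [∀ i, IsAffine (D.obj i)] (c : Cone D) (hc : IsLimit c) (i₀ : I) {W₀ : Scheme.{u}} [IsAffine W₀]
    (p : W₀ ⟶ D.obj i₀) [LocallyOfFinitePresentation p] {P : Scheme.{u}} (qY : P ⟶ W₀) (q : P ⟶ c.pt)
    (hq : IsPullback qY q p (c.π.app i₀)) (h : GenLift q) :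
    ∃ (i : I) (φ : i ⟶ i₀), GenLift (pullback.snd p (D.map φ)) := by
  classical
  by_contra hno
  have hbad : ∀ (i : I) (φ : i ⟶ i₀), ∃ (V : CommRingCat.{u}) (_ : IsDomain V) (_ : ValuationRing V)
      (η : Γ(D.obj i, ⊤) →+* V) (ξ : Γ(W₀, ⊤) →+* ResidueField V),
      ξ.comp p.appTop.hom = (residue V).comp (η.comp (D.map φ).appTop.hom) ∧
      ∀ (O : Type u) [CommRing O] [IsDomain O] [ValuationRing O] (χ : V →+* O) [IsLocalHom χ]
        (θ : Γ(W₀, ⊤) →+* O), Function.Injective χ →
        θ.comp p.appTop.hom = χ.comp (η.comp (D.map φ).appTop.hom) →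
        (residue O).comp θ ≠ (ResidueField.map χ).comp ξ := fun i φ => by
    by_contra hc'
    refine hno ⟨i, φ, fun V _ _ _ g x hx => ?_⟩
    obtain ⟨η, hη⟩ := exists_ofTop (R := V) g
    obtain ⟨ξ, hξ⟩ := exists_ofTop (R := ResidueField V) (x ≫ pullback.fst p (D.map φ))
    by_contra hg
    refine hc' ⟨CommRingCat.of V, inferInstanceAs (IsDomain V), inferInstanceAs (ValuationRing V), η, ξ,
      ?_, fun O _ _ _ χ hχl θ hχ e eres => hg ?_⟩
    · apply ofTop_injective
      rw [← ofTop_comp, hξ, Category.assoc, pullback.condition, reassoc_of% hx, ← hη, ofTop_comp, map_ofTop]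
    · refine ⟨O, inferInstance, inferInstance, inferInstance, χ, hχl,
        pullback.lift (ofTop θ) (Spec.map (CommRingCat.ofHom χ) ≫ g) ?_, hχ, pullback.lift_snd _ _ _, ?_⟩
      · rw [ofTop_comp, e, ← hη, map_ofTop, ofTop_comp]
        rfl
      · apply pullback.hom_ext
        · rw [Category.assoc, pullback.lift_fst, map_ofTop, eres, ← map_ofTop, hξ, Category.assoc]
        · rw [Category.assoc, pullback.lift_snd, Category.assoc, hx, ← Spec.map_comp_assoc,
            ← Spec.map_comp_assoc]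
          congr 2
  obtain ⟨α, _, _, _, Fα, _⟩ := IsFiltered.exists_directed Iᵒᵖ
  haveI : Fα.leftOp.Initial := Functor.initial_of_final_op _ |> fun h => h
  obtain ⟨b⟩ := (Functor.Final.out (F := Fα) (op i₀)).is_nonempty
  let G := Fα.leftOp ⋙ D
  let cG : Cone G := c.whisker Fα.leftOp
  have hcG : IsLimit cG := (Functor.Initial.isLimitWhiskerEquiv Fα.leftOp c).symm hc
  let j₀ : α := b.right
  let ι := {a : α // j₀ ≤ a}
  haveI : Nonempty ι := ⟨⟨j₀, le_rfl⟩⟩
  haveI : IsDirectedOrder ι := ⟨fun a a' =>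
    (exists_ge_ge a.1 a'.1).elim fun k hk => ⟨⟨k, a.2.trans hk.1⟩, hk.1, hk.2⟩⟩
  let F : Ultrafilter ι := Ultrafilter.of Filter.atTop
  have hF : ∀ ν : α, ∀ᶠ a : ι in (F : Filter ι), ν ≤ a.1 := fun ν => by
    obtain ⟨k, hk₁, hk₂⟩ := exists_ge_ge ν j₀
    refine Ultrafilter.of_le Filter.atTop ?_
    exact (Filter.eventually_ge_atTop (⟨k, hk₂⟩ : ι)).mono fun i hi => hk₁.trans hi
  let tr : ∀ a : ι, (Fα.obj a.1).unop ⟶ i₀ := fun a => (b.hom ≫ Fα.map (homOfLE a.2)).unop
  choose V hV₁ hV₂ η ξ hξ hη using fun a : ι => hbad _ (tr a)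
  -- the point of the limit
  let R : ι → Type u := fun a => V a
  haveI := fun a => hV₁ a
  haveI := fun a => hV₂ a
  let ev : ∀ ν : α, Γ(G.obj (op ν), ⊤) →+* Ultra.Prod F R := fun ν =>
    eventualHom F (hF ν) fun a h => (η a).comp (D.map (Fα.map (homOfLE h)).unop).appTop.hom
  have hev : ∀ {ν μ : α} (h : ν ≤ μ),
      (ev μ).comp (G.map (homOfLE h).op).appTop.hom = ev ν := fun {ν μ} h => RingHom.ext fun r => by
    refine (Ultra.mk_eq_mk_iff F R).2 ?_
    filter_upwards [hF ν, hF μ] with a ha ha'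
    rw [dif_pos ha, dif_pos ha']
    have e : D.map (Fα.map (homOfLE ha')).unop ≫ G.map (homOfLE h).op = D.map (Fα.map (homOfLE ha)).unop := by
      show D.map _ ≫ D.map (Fα.map (homOfLE h)).unop = _
      rw [← D.map_comp, ← unop_comp, ← Fα.map_comp]
      rfl
    rw [← e, Scheme.Hom.comp_appTop]
    rfl
  haveI hGa : ∀ ν, IsAffine (G.obj ν) := fun ν => inferInstanceAs (IsAffine (D.obj _))
  obtain ⟨dl, hdl⟩ := ValStage.exists_lift_of_eventual G cG hcG j₀ (fun ν _ => ofTop (ev ν))
    fun ν μ _ h => by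
      rw [ofTop_comp, hev]
  let η₀ : ∀ a : ι, Γ(D.obj i₀, ⊤) →+* R a := fun a => (η a).comp (D.map (tr a)).appTop.hom
  have hdl₀ : dl ≫ c.π.app i₀ =
      ofTop ((Ideal.Quotient.mk (Ultra.nullIdeal F R)).comp (RingHom.pi η₀)) := by
    have e : c.π.app i₀ = cG.π.app (op j₀) ≫ D.map b.hom.unop := (c.w _).symm
    rw [e, ← Category.assoc, hdl j₀ le_rfl]
    rw [ofTop_comp]
    congr 1
    refine RingHom.ext fun r => ?_
    refine eventualHom_apply (F := F) (hF j₀) _ _ _ fun a ha => ?_
    show _ = (η a).comp (D.map (tr a)).appTop.hom r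
    rw [show tr a = (Fα.map (homOfLE ha)).unop ≫ b.hom.unop from rfl, D.map_comp, Scheme.Hom.comp_appTop]
    rfl
  haveI := isDomain_prod F R
  haveI := valuationRing_prod F R
  obtain ⟨π, hπ⟩ := exists_residue_pi F R
  have hxη : ∀ a r, ξ a (p.appTop.hom r) = residue (R a) (η₀ a r) := fun a r => RingHom.congr_fun (hξ a) r
  let xP : Spec (CommRingCat.of (ResidueField (Ultra.Prod F R))) ⟶ P :=
    hq.lift (ofTop (π.comp (RingHom.pi ξ))) (Spec.map (CommRingCat.ofHom (residue _)) ≫ dl) (by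
      rw [ofTop_comp, Category.assoc, hdl₀, map_ofTop]
      congr 1
      refine RingHom.ext fun r => ?_
      show π (fun a => ξ a (p.appTop.hom r)) = _
      simp only [hxη, hπ]
      rfl)
  obtain ⟨W, _, _, _, φ, _, g₁, hφ, hg₁, hres⟩ := h (Ultra.Prod F R) dl xP (hq.lift_snd _ _ _)
  obtain ⟨ψ, hψ⟩ := exists_ofTop (R := W) (g₁ ≫ qY)
  have hψ' : ψ.comp p.appTop.hom =
      φ.comp ((Ideal.Quotient.mk (Ultra.nullIdeal F R)).comp (RingHom.pi η₀)) := by
    apply ofTop_injective
    rw [← ofTop_comp, hψ, ← map_ofTop, ← hdl₀, Category.assoc, hq.w, reassoc_of% hg₁]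
  have hres' : (residue W).comp ψ = (ResidueField.map φ).comp (π.comp (RingHom.pi ξ)) := by
    apply ofTop_injective
    rw [← map_ofTop, hψ, reassoc_of% hres, hq.lift_fst, map_ofTop]
  have hxv : ∀ w (v : ∀ i, R i), (∀ i, residue (R i) (v i) = ξ i w) →
      ¬ IsUnit (ψ w - φ (Ideal.Quotient.mk (Ultra.nullIdeal F R) v)) := fun w v hv => by
    rw [← mem_nonunits_iff, ← mem_maximalIdeal, ← residue_eq_zero_iff, map_sub, sub_eq_zero,
      ← ResidueField.map_residue φ, ← hπ]
    refine (RingHom.congr_fun hres' w).trans ?_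
    exact congrArg (fun t => ResidueField.map φ (π t)) (funext fun i => (hv i).symm)
  obtain ⟨a, O, _, _, _, χ, _, θ, hχ, hθ, hθr⟩ := (exists_point_of_prod F R p.appTop.hom
    p.finitePresentation_appTop η₀ ξ hxη φ hφ ψ hψ' hxv).exists
  exact hη a O χ θ hχ hθ hθr

/-- Universally open morphisms of finite presentation descend along limits with affine transition maps. -/
theorem exists_universallyOpen_descend {I : Type u} [SmallCategory I] [IsCofiltered I]
    (D : I ⥤ Scheme.{u}) (c : Cone D) (hc : IsLimit c)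
    [∀ (i j : I) (a : i ⟶ j), IsAffineHom (D.map a)] (i₀ : I)
    {X₀ Y₀ : Scheme.{u}} (f₀ : X₀ ⟶ Y₀) (g₀ : Y₀ ⟶ D.obj i₀) [CompactSpace Y₀]
    [LocallyOfFinitePresentation f₀] [QuasiCompact f₀]
    {X Y : Scheme.{u}} (f : X ⟶ Y) (g : Y ⟶ c.pt) (qY : Y ⟶ Y₀) (qX : X ⟶ X₀)
    (hY : IsPullback qY g g₀ (c.π.app i₀)) (hX : IsPullback qX f f₀ qY)
    (hf : GenLift f) :
    ∃ (i : I) (φ : i ⟶ i₀) (Xi Yi : Scheme.{u}) (fi : Xi ⟶ Yi) (gi : Yi ⟶ D.obj i) (pY : Yi ⟶ Y₀)
      (pX : Xi ⟶ X₀), IsPullback pY gi g₀ (D.map φ) ∧ IsPullback pX fi f₀ pY ∧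
        UniversallyOpen fi := by
  classical
  have key : ∀ (W : Y₀.Opens) (U : X₀.Opens) (e : U ≤ f₀ ⁻¹ᵁ W), IsAffineOpen W → IsAffineOpen U →
      ∃ j : Over i₀, ∀ (V : Type u) [CommRing V] [IsDomain V] [ValuationRing V]
        (a : Spec (CommRingCat.of V) ⟶ D.obj j.left) (l : Spec (CommRingCat.of V) ⟶ W.toScheme)
        (x : Spec (CommRingCat.of (ResidueField V)) ⟶ U.toScheme),
        a ≫ D.map j.hom = l ≫ W.ι ≫ g₀ →
        x ≫ U.ι ≫ f₀ = Spec.map (CommRingCat.ofHom (residue V)) ≫ l ≫ W.ι →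
        ∃ (O : Type u) (_ : CommRing O) (_ : IsDomain O) (_ : ValuationRing O) (χ : V →+* O)
          (_ : IsLocalHom χ) (s : Spec (CommRingCat.of O) ⟶ X₀), Function.Injective χ ∧
          s ≫ f₀ = Spec.map (CommRingCat.ofHom χ) ≫ l ≫ W.ι ∧
          Spec.map (CommRingCat.ofHom (residue O)) ≫ s =
            Spec.map (CommRingCat.ofHom (ResidueField.map χ)) ≫ x ≫ U.ι := by
    intro W U e hW hU
    haveI : IsAffine W.toScheme := hW
    haveI : IsAffine U.toScheme := hU
    let h : W.toScheme ⟶ D.obj i₀ := W.ι ≫ g₀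
    let D' : Over i₀ ⥤ Scheme.{u} := LimTop.bcDiagram D i₀ h
    haveI : ∀ j, IsAffine (D'.obj j) := fun j => by
      haveI : IsAffineHom (D.map j.hom) :=
        (inferInstance : IsAffineHom (D.map (show j.left ⟶ i₀ from j.hom)))
      exact @isAffine_of_isAffineHom _ _ (pullback.snd (D.map j.hom) h)
        (MorphismProperty.pullback_snd _ _ this) _
    let c' : Cone D' := LimTop.bcCone c i₀ h
    have hc' : IsLimit c' := LimTop.isLimitBcCone hc i₀ h
    let j₀ : Over i₀ := Over.mk (𝟙 i₀)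
    let p₀ : U.toScheme ⟶ W.toScheme := f₀.resLE W U e
    haveI : LocallyOfFinitePresentation p₀ := IsZariskiLocalAtSource.resLE e ‹LocallyOfFinitePresentation f₀›
    let ew : W.toScheme ⟶ D'.obj j₀ := pullback.lift h (𝟙 _)
      (show h ≫ D.map (𝟙 i₀) = 𝟙 _ ≫ h by rw [D.map_id, Category.comp_id, Category.id_comp])
    haveI : IsIso ew := by
      haveI : IsIso (D.map j₀.hom) := inferInstanceAs (IsIso (D.map (𝟙 i₀)))
      have hs : IsIso (pullback.snd (D.map j₀.hom) h) := pullback_snd_iso_of_left_iso (D.map j₀.hom) h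
      have he : ew ≫ pullback.snd (D.map j₀.hom) h = 𝟙 W.toScheme := pullback.lift_snd _ _ _
      have hes : IsIso (ew ≫ pullback.snd (D.map j₀.hom) h) := he.symm ▸ IsIso.id W.toScheme
      exact @IsIso.of_isIso_comp_right _ _ _ _ _ ew (pullback.snd (D.map j₀.hom) h) hs hes
    let p : U.toScheme ⟶ D'.obj j₀ := p₀ ≫ ew
    haveI : LocallyOfFinitePresentation p := inferInstanceAs (LocallyOfFinitePresentation (p₀ ≫ ew))
    have hp : p ≫ pullback.snd (D.map j₀.hom) h = p₀ :=
      (Category.assoc _ _ _).trans ((congrArg (p₀ ≫ ·) (pullback.lift_snd _ _ _)).trans (Category.comp_id _))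
    let P := pullback p (c'.π.app j₀)
    let q : P ⟶ c'.pt := pullback.snd p (c'.π.app j₀)
    let tY : c'.pt ⟶ Y := hY.lift (pullback.snd (c.π.app i₀) h ≫ W.ι) (pullback.fst (c.π.app i₀) h)
      (by rw [Category.assoc]; exact pullback.condition.symm)
    have hw : pullback.fst p (c'.π.app j₀) ≫ p₀ = q ≫ pullback.snd (c.π.app i₀) h := by
      rw [← hp, pullback.condition_assoc]
      exact congrArg (q ≫ ·) (LimTop.bcCone_snd c i₀ h j₀)
    have hlift : GenLift q := by
      intro V _ _ _ gV x hx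
      have h0 : (x ≫ pullback.fst p (c'.π.app j₀) ≫ U.ι) ≫ f₀ =
          (Spec.map (CommRingCat.ofHom (residue V)) ≫ gV ≫ tY) ≫ qY := by
        simp only [Category.assoc, tY, hY.lift_fst]
        rw [← Scheme.Hom.resLE_comp_ι f₀ e, reassoc_of% hw, reassoc_of% hx]
      obtain ⟨O, _, _, _, χ, _, a, hχ, ha, hres⟩ := hf V (gV ≫ tY)
        (hX.lift _ _ h0) (by rw [hX.lift_snd])
      have hres' : Spec.map (CommRingCat.ofHom (residue O)) ≫ a ≫ qX =
          Spec.map (CommRingCat.ofHom (ResidueField.map χ)) ≫ x ≫ pullback.fst p (c'.π.app j₀) ≫ U.ι := by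
        rw [reassoc_of% hres, hX.lift_fst]
      have hr : Set.range (a ≫ qX) ⊆ Set.range U.ι := by
        rw [Scheme.Opens.range_ι]
        refine HTopLib.range_subset_of_closedPoint (a ≫ qX) U ?_
        rw [← map_residue_pt (V := O) (closedPoint (ResidueField O)), ← Scheme.Hom.comp_apply, hres']
        simp only [Scheme.Hom.comp_apply]
        exact SetLike.coe_mem _
      let a' := IsOpenImmersion.lift U.ι (a ≫ qX) hr
      have ha' : a' ≫ U.ι = a ≫ qX := IsOpenImmersion.lift_fac _ _ _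
      refine ⟨O, inferInstance, inferInstance, inferInstance, χ, inferInstance,
        pullback.lift a' (Spec.map (CommRingCat.ofHom χ) ≫ gV) ?_, hχ, pullback.lift_snd _ _ _, ?_⟩
      · haveI : IsIso (pullback.snd (D.map j₀.hom) h) := by
          haveI : IsIso (D.map j₀.hom) := inferInstanceAs (IsIso (D.map (𝟙 i₀)))
          exact pullback_snd_iso_of_left_iso (D.map j₀.hom) h
        have e2 : a' ≫ p₀ = Spec.map (CommRingCat.ofHom χ) ≫ gV ≫ pullback.snd (c.π.app i₀) h := by
          rw [← cancel_mono W.ι, Category.assoc, Scheme.Hom.resLE_comp_ι, reassoc_of% ha', hX.w,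
            reassoc_of% ha]
          simp [tY]
        refine (cancel_mono (pullback.snd (D.map j₀.hom) h)).1 ?_
        refine (Category.assoc _ _ _).trans ((congrArg (a' ≫ ·) hp).trans (e2.trans ?_))
        simp only [Category.assoc]
        exact congrArg (fun t => Spec.map (CommRingCat.ofHom χ) ≫ gV ≫ t)
          (LimTop.bcCone_snd c i₀ h j₀).symm
      · apply pullback.hom_ext
        · rw [← cancel_mono U.ι]
          simp only [Category.assoc, pullback.lift_fst_assoc, ha', hres']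
        · rw [Category.assoc, pullback.lift_snd, Category.assoc, hx, ← Spec.map_comp_assoc,
            ← Spec.map_comp_assoc]
          congr 2
    obtain ⟨j, ψ, hj⟩ := exists_stage_genLift D' c' hc' j₀ p _ q (IsPullback.of_hasPullback _ _) hlift
    refine ⟨j, fun V _ _ _ a l x hal hxl => ?_⟩
    let gV : Spec (CommRingCat.of V) ⟶ D'.obj j := pullback.lift a l hal
    have hψ : D'.map ψ ≫ pullback.snd (D.map j₀.hom) h = pullback.snd (D.map j.hom) h :=
      pullback.lift_snd _ _ _
    have hgV : gV ≫ pullback.snd (D.map j.hom) h = l := pullback.lift_snd _ _ _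
    have hgVψ : gV ≫ D'.map ψ ≫ pullback.snd (D.map j₀.hom) h = l := (congrArg (gV ≫ ·) hψ).trans hgV
    obtain ⟨O, _, _, _, χ, _, s, hχ, hs, hsres⟩ := hj V gV
      (pullback.lift x (Spec.map (CommRingCat.ofHom (residue V)) ≫ gV) (by
        haveI : IsIso (pullback.snd (D.map j₀.hom) h) := by
          haveI : IsIso (D.map j₀.hom) := inferInstanceAs (IsIso (D.map (𝟙 i₀)))
          exact pullback_snd_iso_of_left_iso (D.map j₀.hom) h
        refine (cancel_mono (pullback.snd (D.map j₀.hom) h)).1 ?_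
        refine (Category.assoc _ _ _).trans ((congrArg (x ≫ ·) hp).trans ?_)
        refine Eq.trans ?_ ((Category.assoc _ _ _).trans (congrArg
          (Spec.map (CommRingCat.ofHom (residue V)) ≫ ·) ((Category.assoc _ _ _).trans hgVψ))).symm
        rw [← cancel_mono W.ι, Category.assoc, Scheme.Hom.resLE_comp_ι, hxl, Category.assoc]))
      (pullback.lift_snd _ _ _)
    refine ⟨O, inferInstance, inferInstance, inferInstance, χ, inferInstance,
      s ≫ pullback.fst p (D'.map ψ) ≫ U.ι, hχ, ?_, ?_⟩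
    · have hfst : s ≫ pullback.fst p (D'.map ψ) ≫ p₀ = Spec.map (CommRingCat.ofHom χ) ≫ l :=
        (congrArg (fun t => s ≫ pullback.fst p (D'.map ψ) ≫ t) hp.symm).trans
          ((congrArg (s ≫ ·) (pullback.condition_assoc _)).trans
            ((Category.assoc _ _ _).symm.trans ((congrArg (· ≫ _) hs).trans
              ((Category.assoc _ _ _).trans (congrArg (Spec.map (CommRingCat.ofHom χ) ≫ ·) hgVψ)))))
      rw [Category.assoc, Category.assoc, ← Scheme.Hom.resLE_comp_ι f₀ e]
      exact (reassoc_of% hfst) W.ι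
    · rw [reassoc_of% hsres, pullback.lift_fst_assoc]
  choose j hj using key
  have hsmall : ∀ x : X₀, ∃ (W : Y₀.Opens) (U : X₀.Opens) (_ : U ≤ f₀ ⁻¹ᵁ W),
      IsAffineOpen W ∧ IsAffineOpen U ∧ x ∈ U := fun x => by
    obtain ⟨W, hW, hxW, -⟩ := exists_isAffineOpen_mem_and_subset (Opens.mem_top (f₀ x))
    obtain ⟨U, hU, hxU, hUW⟩ := exists_isAffineOpen_mem_and_subset (x := x) (U := f₀ ⁻¹ᵁ W) hxW
    exact ⟨W, U, hUW, hW, hU, hxU⟩
  choose W U hUW hWa hUa hxU using hsmall
  haveI : CompactSpace X₀ := QuasiCompact.compactSpace_of_compactSpace f₀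
  obtain ⟨t, ht⟩ := (isCompact_univ (X := X₀)).elim_finite_subcover
    (fun x => (U x : Set X₀)) (fun x => (U x).2) fun x _ => Set.mem_iUnion.2 ⟨x, hxU x⟩
  obtain ⟨i, hi⟩ := IsCofiltered.inf_objs_exists
    (t.image fun x => j (W x) (U x) (hUW x) (hWa x) (hUa x))
  let pY : pullback g₀ (D.map i.hom) ⟶ Y₀ := pullback.fst _ _
  let fi : pullback f₀ pY ⟶ pullback g₀ (D.map i.hom) := pullback.snd _ _
  refine ⟨i.left, i.hom, _, _, fi, pullback.snd _ _, pY, pullback.fst _ _,
    IsPullback.of_hasPullback _ _, IsPullback.of_hasPullback _ _, universallyOpen_of_genLift fi ?_⟩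
  intro V _ _ _ gV x hx
  let xp := (x ≫ pullback.fst f₀ pY) (closedPoint (ResidueField V))
  obtain ⟨y, hyt, hy⟩ := Set.mem_iUnion₂.1 (ht (Set.mem_univ xp))
  have hxr : Set.range (x ≫ pullback.fst f₀ pY) ⊆ Set.range (U y).ι := by
    rw [Scheme.Opens.range_ι]
    rintro _ ⟨s, rfl⟩
    rwa [Subsingleton.elim s (closedPoint (ResidueField V))]
  have hx' : (x ≫ pullback.fst f₀ pY) ≫ f₀ = Spec.map (CommRingCat.ofHom (residue V)) ≫ gV ≫ pY := by
    rw [Category.assoc, pullback.condition, reassoc_of% hx]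
  have hr : Set.range (gV ≫ pY) ⊆ Set.range (W y).ι := by
    rw [Scheme.Opens.range_ι]
    refine HTopLib.range_subset_of_closedPoint (gV ≫ pY) (W y) ?_
    rw [← map_residue_pt (V := V) (closedPoint (ResidueField V)), ← Scheme.Hom.comp_apply, ← hx',
      Scheme.Hom.comp_apply]
    exact hUW y hy
  let a := (hi (Finset.mem_image_of_mem _ hyt)).some
  obtain ⟨O, _, _, _, χ, _, s, hχ, hs, hsres⟩ := hj (W y) (U y) (hUW y) (hWa y) (hUa y) V
    (gV ≫ pullback.snd g₀ (D.map i.hom) ≫ D.map a.left) (IsOpenImmersion.lift (W y).ι (gV ≫ pY) hr)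
    (IsOpenImmersion.lift (U y).ι (x ≫ pullback.fst f₀ pY) hxr) (by
      rw [IsOpenImmersion.lift_fac_assoc, Category.assoc, Category.assoc, Category.assoc, ← D.map_comp,
        Over.w a]
      exact congrArg (gV ≫ ·) pullback.condition.symm)
    (by rw [IsOpenImmersion.lift_fac_assoc, IsOpenImmersion.lift_fac, hx'])
  rw [IsOpenImmersion.lift_fac] at hs
  rw [IsOpenImmersion.lift_fac] at hsres
  refine ⟨O, inferInstance, inferInstance, inferInstance, χ, inferInstance,
    pullback.lift s (Spec.map (CommRingCat.ofHom χ) ≫ gV) (hs.trans (Category.assoc _ _ _).symm), hχ,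
    pullback.lift_snd _ _ _, ?_⟩
  apply pullback.hom_ext
  · rw [Category.assoc, pullback.lift_fst, hsres, Category.assoc]
  · rw [Category.assoc, pullback.lift_snd, Category.assoc, hx, ← Spec.map_comp_assoc, ← Spec.map_comp_assoc]
    congr 2

end Groth.Agent.HTopUltra
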