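import Groth.Agent.S13110
import Groth.Agent.WN.Scheme
import Groth.Agent.RegLoc.Completion
import Mathlib.RingTheory.AdicCompletion.LocalRing
import Mathlib.RingTheory.AdicCompletion.Noetherian

/-!
# Pointwise functions on a seminormal Noetherian ring
-/

set_option autoImplicit false
set_option linter.style.haveILetI false

universe u

open CategoryTheory AlgebraicGeometry W4c1hilbchowinc IsLocalRing Groth.Agent.S13110

namespace Groth.Agent.HTopUltra.PtFunLib

theorem ev_ext {A : Type u} [CommRing A] (p : Spec (CommRingCat.of A)) {x y : A}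
    (h : x - y ∈ p.asIdeal) : ev A p x = ev A p y := by
  rw [← sub_eq_zero, ← map_sub, ev_eq_zero_iff]
  exact h

theorem pullback_comp_apply {X Y Z : Scheme.{u}} (g : Y ⟶ X) (h : Z ⟶ Y) (f : PtFun X) (z : Z) :
    PtFun.pullback (h ≫ g) f z = h.residueFieldMap z (PtFun.pullback g f (h z)) := by
  show (h ≫ g).residueFieldMap z (f ((h ≫ g) z)) = h.residueFieldMap z (g.residueFieldMap (h z) (f (g (h z))))
  rw [Scheme.residueFieldMap_comp]
  rfl

theorem pullback_comp {X Y Z : Scheme.{u}} (g : Y ⟶ X) (h : Z ⟶ Y) (f : PtFun X) :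
    PtFun.pullback (h ≫ g) f = PtFun.pullback h (PtFun.pullback g f) :=
  funext fun z => pullback_comp_apply g h f z

/-- Varying along complete discrete valuation rings is enough. -/
theorem variesAlongDVR {X : Scheme.{u}} (f : PtFun X) (hf : f.VariesAlongCompleteDVR) : f.VariesAlongDVR := by
  intro R _ _ _ g
  let m := maximalIdeal R
  obtain ⟨_, _⟩ := (RegLoc.Completion.isDiscreteValuationRing_completion_iff R).1 ⟨inferInstance, inferInstance⟩
  let ι : R →+* AdicCompletion m R := algebraMap R (AdicCompletion m R)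
  have hinj : Function.Injective ι := fun x y h => AdicCompletion.of_injective m R h
  have hloc : IsLocalHom ι := by
    refine ((IsLocalRing.local_hom_TFAE ι).out 2 0).1 ?_
    exact AdicCompletion.maximalIdeal_eq_map.ge
  let h : Spec (CommRingCat.of (AdicCompletion m R)) ⟶ Spec (CommRingCat.of R) := Spec.map (CommRingCat.ofHom ι)
  obtain ⟨s, hs⟩ := hf (AdicCompletion m R) (h ≫ g)
  let rc : AdicCompletion m R := (Scheme.ΓSpecIso (CommRingCat.of (AdicCompletion m R))).hom s
  have hrc : ∀ q, ev _ q rc = h.residueFieldMap q (PtFun.pullback g f (h q)) := fun q => by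
    rw [← pullback_comp_apply, ← hs]
    show (Spec _).Γevaluation q ((Scheme.ΓSpecIso _).inv ((Scheme.ΓSpecIso _).hom s)) = _
    rw [← ConcreteCategory.comp_apply (Scheme.ΓSpecIso _).hom, Iso.hom_inv_id]
    rfl
  let η : Spec (CommRingCat.of R) := ⟨⊥, Ideal.isPrime_bot⟩
  let η' : Spec (CommRingCat.of (AdicCompletion m R)) := ⟨⊥, Ideal.isPrime_bot⟩
  have hη : h η' = η := PrimeSpectrum.ext ((RingHom.ker_eq_comap_bot ι).symm.trans
    ((RingHom.injective_iff_ker_eq_bot ι).1 hinj))
  obtain ⟨a, b, hb, hab⟩ := exists_ev_fraction η (PtFun.pullback g f η)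
  have hb0 : b ≠ 0 := fun h0 => hb (h0 ▸ zero_mem _)
  have hrab : rc * ι b = ι a := by
    have h0 : ev _ η' (rc * ι b - ι a) = 0 := by
      rw [map_sub, map_mul, hrc]
      have e := congrArg (h.residueFieldMap η') (show PtFun.pullback g f (h η') * ev R (h η') b = ev R (h η') a by
        rw [hη]; exact hab)
      rw [map_mul, residueFieldMap_ev, residueFieldMap_ev] at e
      rw [e, sub_self]
    exact sub_eq_zero.1 ((Submodule.mem_bot _).1 ((ev_eq_zero_iff η' _).1 h0))
  have hb' : ι b ≠ 0 := (map_ne_zero_iff ι hinj).2 hb0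
  obtain ⟨r, hr⟩ : ∃ r, ι r = rc := by
    obtain ⟨c, hc | hc⟩ := ValuationRing.cond b a
    · exact ⟨c, mul_right_cancel₀ hb' (by rw [← map_mul, hrab, mul_comm, hc])⟩
    · have ha : ι a ≠ 0 := (map_ne_zero_iff ι hinj).2 fun h0 => hb0 (by rw [← hc, h0, zero_mul])
      have hu : IsUnit (ι c) := isUnit_iff_exists_inv.2 ⟨rc, mul_right_cancel₀ ha (by
        rw [one_mul]
        conv_rhs => rw [← hrab, ← hc, map_mul]
        ring)⟩
      obtain ⟨v, hv⟩ := (hloc.map_nonunit c hu).exists_right_inv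
      refine ⟨v, mul_right_cancel₀ hb' ?_⟩
      rw [hrab, ← hc, ← map_mul]
      exact congrArg ι (by linear_combination a * hv)
  refine ⟨(Scheme.ΓSpecIso (CommRingCat.of R)).inv r, funext fun q => ?_⟩
  obtain ⟨q', rfl⟩ : ∃ q', h q' = q := by
    by_cases hq : q.asIdeal = ⊥
    · exact ⟨η', hη.trans (PrimeSpectrum.ext hq.symm)⟩
    · refine ⟨closedPoint (AdicCompletion m R), PrimeSpectrum.ext ?_⟩
      show (maximalIdeal _).comap ι = q.asIdeal
      rw [show (maximalIdeal (AdicCompletion m R)).comap ι = maximalIdeal R from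
        ((IsLocalRing.local_hom_TFAE ι).out 0 4).1 hloc]
      exact (IsLocalRing.eq_maximalIdeal (q.isPrime.isMaximal hq)).symm
  apply (h.residueFieldMap q').hom.injective
  show h.residueFieldMap q' (ev R (h q') r) = h.residueFieldMap q' _
  rw [residueFieldMap_ev, hr, hrc]

/-- Fractions describing the values of `f` on `A[b]`. -/
theorem exists_fraction {A B : Type u} [CommRing A] [CommRing B] (φ : A →+* B) (f : PtFun (Spec (CommRingCat.of A)))
    (b : B) (hb : ∀ q : Spec (CommRingCat.of B),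
      ev B q b = (Spec.map (CommRingCat.ofHom φ)).residueFieldMap q (f (Spec.map (CommRingCat.ofHom φ) q)))
    (p : Spec (CommRingCat.of A)) :
    ∃ a t : A, t ∉ p.asIdeal ∧
      ∀ q : Spec (CommRingCat.of B), q.asIdeal.comap φ = p.asIdeal → φ t * b - φ a ∈ q.asIdeal := by
  obtain ⟨a, t, ht, hat⟩ := exists_ev_fraction p (f p)
  refine ⟨a, t, ht, fun q hq => ?_⟩
  obtain rfl : Spec.map (CommRingCat.ofHom φ) q = p := PrimeSpectrum.ext hq
  rw [← ev_eq_zero_iff, map_sub, map_mul, hb, ← residueFieldMap_ev φ q t, ← residueFieldMap_ev φ q a, ← map_mul,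
    mul_comm, hat, sub_self]

theorem existsUnique_section (A : Type u) [CommRing A] [IsNoetherianRing A] (hA : HTop.IsSeminormalRing A)
    (hfin : Module.Finite A (integralClosure A (FractionRing A)))
    (f : PtFun (Spec (CommRingCat.of A))) (hf : f.VariesAlongCompleteDVR) :
    ∃! a : Γ(Spec (CommRingCat.of A), ⊤), PtFun.ofSection (Spec (CommRingCat.of A)) a = f := by
  classical
  haveI : _root_.IsReduced A := WN.isReduced_of_isSeminormalRing hA
  haveI : Finite ↥(minimalPrimes A) := (minimalPrimes.finite_of_isNoetherianRing A).to_subtype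
  haveI : IsFractionRing A (RedNorm.PiFrac A) := RedNorm.isFractionRing_pi A
  let Q := FractionRing A
  let B := integralClosure A Q
  haveI : _root_.IsReduced Q := isReduced_of_injective (RedNorm.piEquiv A).toAlgHom (RedNorm.piEquiv A).injective
  haveI : _root_.IsReduced B := isReduced_of_injective B.val Subtype.val_injective
  haveI := hfin
  haveI : IsNoetherianRing B := IsNoetherianRing.of_finite A B
  haveI : IsArtinianRing Q := (RedNorm.piEquiv A).symm.toRingEquiv.isArtinianRing
  haveI : IsFractionRing B Q := by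
    refine ⟨fun y => ?_, fun z => ?_, fun {x y} h => ⟨1, ?_⟩⟩
    · refine IsArtinianRing.isUnit_of_mem_nonZeroDivisors (mem_nonZeroDivisors_iff_right.2 fun z hz => ?_)
      obtain ⟨⟨a, s⟩, hs⟩ := IsLocalization.surj (nonZeroDivisors A) z
      have h0 : (algebraMap A B a : B) * (y : B) = 0 := Subtype.ext (by
        show algebraMap A Q a * ((y : B) : Q) = 0
        rw [← hs, mul_right_comm]
        show z * ((y : B) : Q) * _ = 0
        rw [show z * ((y : B) : Q) = 0 from hz, zero_mul])
      have := congrArg Subtype.val (mem_nonZeroDivisors_iff_right.1 y.2 _ h0)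
      rw [show ((algebraMap A B a : B) : Q) = algebraMap A Q a from rfl, ← hs] at this
      exact (IsLocalization.map_units Q s).mul_left_eq_zero.1 this
    · obtain ⟨⟨a, s⟩, hs⟩ := IsLocalization.surj (nonZeroDivisors A) z
      refine ⟨⟨algebraMap A B a, ⟨algebraMap A B s, mem_nonZeroDivisors_iff_right.2 fun w hw => Subtype.ext ?_⟩⟩, hs⟩
      have : (w : Q) * algebraMap A Q s = 0 := congrArg Subtype.val hw
      exact (IsLocalization.map_units Q s).mul_left_eq_zero.1 this
    · rw [show x = y from Subtype.ext h]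
  haveI : IsIntegrallyClosed B := (isIntegrallyClosed_iff Q).2 fun {x} hx =>
    ⟨⟨x, isIntegral_trans (R := A) x hx⟩, rfl⟩
  let φ : A →+* B := algebraMap A B
  let g := Spec.map (CommRingCat.ofHom φ)
  have hfB : (PtFun.pullback g f).VariesAlongDVR := fun R _ _ _ h => by
    rw [← pullback_comp]
    exact variesAlongDVR f hf R (h ≫ g)
  obtain ⟨sB, hsB, -⟩ := Groth.Agent.S13110.result B (PtFun.pullback g f) hfB
  let b : B := (Scheme.ΓSpecIso (CommRingCat.of B)).hom sB
  have hb : ∀ q, ev B q b = g.residueFieldMap q (f (g q)) := fun q => by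
    show (Spec _).Γevaluation q ((Scheme.ΓSpecIso _).inv ((Scheme.ΓSpecIso _).hom sB)) = _
    rw [← ConcreteCategory.comp_apply (Scheme.ΓSpecIso _).hom, Iso.hom_inv_id]
    exact congrFun hsB q
  have key := exists_fraction φ f b hb
  haveI : Algebra.IsIntegral A B := integralClosure.AlgebraIsIntegral
  have hφ : Function.Injective φ := fun x y h =>
    IsFractionRing.injective A Q (congrArg Subtype.val h)
  let R : Subalgebra A B := Algebra.adjoin A {b}
  haveI : _root_.IsReduced R := isReduced_of_injective R.val Subtype.val_injective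
  let ψ : A →+* R := algebraMap A R
  let b' : R := ⟨b, Algebra.self_mem_adjoin_singleton _ b⟩
  have hintR : Algebra.IsIntegral A R := ⟨fun r =>
    (isIntegral_algHom_iff R.val Subtype.val_injective).1 (Algebra.IsIntegral.isIntegral (R := A) (r : B))⟩
  have hint : RingHom.IsIntegral (R := A) (A := R) ψ := fun r => hintR.isIntegral r
  have hψ : Function.Injective ψ := fun x y h => hφ (congrArg Subtype.val h)
  have hRB : RingHom.IsIntegral (R := R) (A := B) R.val.toRingHom := fun z => by
    letI := R.val.toRingHom.toAlgebra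
    exact IsIntegral.tower_top (R := A) (Algebra.IsIntegral.isIntegral (R := A) z)
  have hRBs : Function.Surjective (PrimeSpectrum.comap R.val.toRingHom) :=
    WN.surj_of_isIntegral_of_ker_le hRB (by
      rw [(RingHom.injective_iff_ker_eq_bot _).1 Subtype.val_injective]; exact bot_le)
  have hfrac : ∀ q : PrimeSpectrum R, ∃ a t : A, ψ t ∉ q.asIdeal ∧ ψ t * b' - ψ a ∈ q.asIdeal := fun q => by
    obtain ⟨Q', rfl⟩ := hRBs q
    obtain ⟨a, t, ht, hat⟩ := key (Spec.map (CommRingCat.ofHom φ) Q')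
    exact ⟨a, t, ht, hat Q' rfl⟩
  have hrad : WN.IsRadicial (A := A) (B := R) ψ := by
    intro K _ g₁ g₂ hg
    let L := AlgebraicClosure K
    obtain ⟨h₁, e₁⟩ := WN.exists_lift_point hRB hRBs L ((algebraMap K L).comp g₁)
    obtain ⟨h₂, e₂⟩ := WN.exists_lift_point hRB hRBs L ((algebraMap K L).comp g₂)
    have hA' : ∀ x, h₁ (φ x) = h₂ (φ x) := fun x => by
      rw [show h₁ (φ x) = algebraMap K L (g₁ (ψ x)) from RingHom.congr_fun e₁ (ψ x),
        show h₂ (φ x) = algebraMap K L (g₂ (ψ x)) from RingHom.congr_fun e₂ (ψ x)]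
      exact congrArg _ (RingHom.congr_fun hg x)
    let p : Spec (CommRingCat.of A) := ⟨RingHom.ker (h₁.comp φ), RingHom.ker_isPrime _⟩
    obtain ⟨a, t, ht, hat⟩ := key p
    have r₁ : h₁ (φ t) * h₁ b - h₁ (φ a) = 0 := by
      rw [← map_mul, ← map_sub]
      exact hat ⟨RingHom.ker h₁, RingHom.ker_isPrime _⟩ rfl
    have r₂ : h₂ (φ t) * h₂ b - h₂ (φ a) = 0 := by
      rw [← map_mul, ← map_sub]
      exact hat ⟨RingHom.ker h₂, RingHom.ker_isPrime _⟩ (Ideal.ext fun x => by
        show h₂ (φ x) = 0 ↔ h₁ (φ x) = 0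
        rw [hA'])
    have ht0 : h₁ (φ t) ≠ 0 := ht
    have hbb : h₁ b = h₂ b := mul_left_cancel₀ ht0 (by rw [← hA', ← hA'] at r₂; linear_combination r₁ - r₂)
    have hb2 : g₁ b' = g₂ b' := (algebraMap K L).injective
      ((RingHom.congr_fun e₁ b').symm.trans (hbb.trans (RingHom.congr_fun e₂ b')))
    refine RingHom.ext fun x => ?_
    obtain ⟨x, hx⟩ := x
    induction hx using Algebra.adjoin_induction with
    | mem y hy => obtain rfl := hy; exact hb2
    | algebraMap r => exact RingHom.congr_fun hg r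
    | add y z hy hz ihy ihz =>
      show g₁ (⟨y, hy⟩ + ⟨z, hz⟩) = g₂ (⟨y, hy⟩ + ⟨z, hz⟩)
      rw [map_add, map_add, ihy, ihz]
    | mul y z hy hz ihy ihz =>
      show g₁ (⟨y, hy⟩ * ⟨z, hz⟩) = g₂ (⟨y, hy⟩ * ⟨z, hz⟩)
      rw [map_mul, map_mul, ihy, ihz]
  have htriv : WN.HasTrivRes (A := A) (B := R) ψ := by
    intro q hq x
    obtain ⟨a₀, t₀, ht₀, hat₀⟩ := hfrac ⟨q, hq⟩
    obtain ⟨x, hx⟩ := x
    induction hx using Algebra.adjoin_induction with
    | mem y hy => obtain rfl := hy; exact ⟨a₀, t₀, ht₀, hat₀⟩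
    | algebraMap r =>
      refine ⟨r, 1, by rw [map_one]; exact q.ne_top_iff_one.1 hq.ne_top, ?_⟩
      rw [map_one, one_mul, show (⟨algebraMap A B r, _⟩ : R) = ψ r from rfl, sub_self]
      exact zero_mem q
    | add y z hy hz ihy ihz =>
      obtain ⟨a, t, ht, h⟩ := ihy
      obtain ⟨a', t', ht', h'⟩ := ihz
      refine ⟨a * t' + a' * t, t * t', by rw [map_mul]; exact hq.mul_notMem ht ht', ?_⟩
      show ψ (t * t') * (⟨y, hy⟩ + ⟨z, hz⟩) - ψ (a * t' + a' * t) ∈ q
      convert q.add_mem (q.mul_mem_left (ψ t') h) (q.mul_mem_left (ψ t) h') using 1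
      simp only [map_mul, map_add]
      ring
    | mul y z hy hz ihy ihz =>
      obtain ⟨a, t, ht, h⟩ := ihy
      obtain ⟨a', t', ht', h'⟩ := ihz
      refine ⟨a * a', t * t', by rw [map_mul]; exact hq.mul_notMem ht ht', ?_⟩
      show ψ (t * t') * (⟨y, hy⟩ * ⟨z, hz⟩) - ψ (a * a') ∈ q
      convert q.add_mem (q.mul_mem_left (ψ t' * ⟨z, hz⟩) h) (q.mul_mem_left (ψ a) h') using 1
      simp only [map_mul]
      ring
  obtain ⟨a₀, ha₀⟩ := (WN.bijective_of_isSeminormalRing
    ⟨hint, WN.surj_of_isIntegral_of_ker_le hint (by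
      rw [(RingHom.injective_iff_ker_eq_bot _).1 hψ]; exact bot_le), hrad⟩ htriv hA).2 b'
  have hφs : Function.Surjective (PrimeSpectrum.comap φ) :=
    WN.surj_of_isIntegral_of_ker_le (fun x => Algebra.IsIntegral.isIntegral x) (by
      rw [(RingHom.injective_iff_ker_eq_bot _).1 hφ]; exact bot_le)
  have hval : ∀ p : Spec (CommRingCat.of A), ev A p a₀ = f p := fun p => by
    obtain ⟨q, rfl⟩ := hφs p
    apply (g.residueFieldMap q).hom.injective
    refine (residueFieldMap_ev φ q a₀).trans ?_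
    rw [show φ a₀ = b from congrArg Subtype.val ha₀]
    exact hb q
  refine ⟨(Scheme.ΓSpecIso (CommRingCat.of A)).inv a₀, funext hval, fun c hc => ?_⟩
  obtain ⟨c, rfl⟩ : ∃ c', (Scheme.ΓSpecIso (CommRingCat.of A)).inv c' = c :=
    ⟨(Scheme.ΓSpecIso (CommRingCat.of A)).hom c, by
      rw [← ConcreteCategory.comp_apply, Iso.hom_inv_id]; rfl⟩
  congr 1
  refine sub_eq_zero.1 (RedNorm.eq_zero_of_forall_mem fun η => (ev_eq_zero_iff ⟨η.1, η.2.1.1⟩ _).1 ?_)
  rw [map_sub, hval, sub_eq_zero]
  exact congrFun hc _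

end Groth.Agent.HTopUltra.PtFunLib
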