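import Groth.Agent.HTopUltra.Noeth
import Mathlib.RingTheory.ZariskisMainTheorem

/-!
# Quasi-finite coverings of a Noetherian ring are refined by finite surjections
-/

set_option autoImplicit false
set_option linter.style.haveILetI false

universe w u

open CategoryTheory CategoryTheory.Limits AlgebraicGeometry TopologicalSpace

open scoped TensorProduct

namespace Groth.Agent.HTopUltra

/-- Zariski's main theorem at a valuation centred at `q`: some point of a quasi-finite algebra lies over
a neighbourhood of `q` in the absolute integral closure. -/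
theorem exists_denominator {R B L : Type u} [CommRing R] [CommRing B] [Field L] [Algebra R L] [Algebra R B]
    [Algebra.FiniteType R B] [Algebra.QuasiFinite R B] (θ : B →ₐ[R] L) (O : ValuationSubring L)
    (hS : ∀ x : integralClosure R L, (x : L) ∈ O) (hθ : ∀ b, θ b ∈ O) (b : B) :
    ∃ t : integralClosure R L, O.valuation (t : L) = 1 ∧ (t : L) * θ b ∈ integralClosure R L := by
  let S := integralClosure R L
  let θ' : S ⊗[R] B →ₐ[S] L := Algebra.TensorProduct.lift (Algebra.ofId S L) θ fun _ _ => Commute.all _ _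
  have hθ' : ∀ x, θ' x ∈ O := fun x => by
    induction x using TensorProduct.induction_on with
    | zero => rw [map_zero]; exact zero_mem _
    | tmul s c =>
      rw [show θ' (s ⊗ₜ c) = (s : L) * θ c from Algebra.TensorProduct.lift_tmul _ _ _ _ _]
      exact mul_mem (hS s) (hθ c)
    | add x y hx hy => rw [map_add]; exact add_mem hx hy
  let θO : S ⊗[R] B →+* O := θ'.toRingHom.codRestrict O.toSubring hθ'
  let P : Ideal (S ⊗[R] B) := (IsLocalRing.maximalIdeal O).comap θO
  haveI : P.IsPrime := Ideal.IsPrime.comap θO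
  obtain ⟨r, hrP, hr, hall⟩ := Algebra.zariskisMainProperty_iff.1
    (Algebra.ZariskisMainProperty.of_finiteType (R := S) P)
  obtain ⟨m, hm⟩ := hall (1 ⊗ₜ b)
  have hint : ∀ {x : S ⊗[R] B}, IsIntegral S x → θ' x ∈ integralClosure R L := fun hx =>
    isIntegral_trans (R := R) _ (hx.map θ')
  refine ⟨⟨θ' r, hint hr⟩ ^ m, ?_, ?_⟩
  · have h1 : O.valuation (θ' r) = 1 := by
      refine (O.valuation_eq_one_iff (θO r)).1 ?_
      by_contra hu
      exact hrP hu
    show O.valuation (θ' r ^ m) = 1
    rw [map_pow, h1, one_pow]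
  · show θ' r ^ m * θ b ∈ integralClosure R L
    have e : θ' (1 ⊗ₜ b) = θ b := by
      rw [show θ' (1 ⊗ₜ b) = ((1 : S) : L) * θ b from Algebra.TensorProduct.lift_tmul _ _ _ _ _]
      simp
    rw [← e, ← map_pow, ← map_mul]
    exact hint hm

theorem exists_finite_over_prime {R B : Type u} [CommRing R] [CommRing B] (τ : R →+* B)
    (hτ : τ.FiniteType) (hqf : τ.QuasiFinite)
    (hf : HTop.HasValLift (PreZeroHypercover.singleton.{w} (Spec.map (CommRingCat.ofHom τ))))
    (𝔭 : Ideal R) [𝔭.IsPrime] :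
    ∃ (P : Scheme.{u}) (π : P ⟶ Spec (CommRingCat.of R)), IsFinite π ∧
      PrimeSpectrum.zeroLocus (𝔭 : Set R) ⊆ Set.range π ∧
      LocallyLifts (Spec.map (CommRingCat.ofHom τ)) π := by
  classical
  let L := AlgebraicClosure (FractionRing (R ⧸ 𝔭))
  let ρ : R →+* L := ((algebraMap (FractionRing (R ⧸ 𝔭)) L).comp (algebraMap (R ⧸ 𝔭) _)).comp
    (Ideal.Quotient.mk 𝔭)
  have hρ : RingHom.ker ρ = 𝔭 := by
    rw [RingHom.ker_comp_of_injective]
    · exact Ideal.mk_ker
    · exact (algebraMap (FractionRing (R ⧸ 𝔭)) L).injective.comp (IsFractionRing.injective (R ⧸ 𝔭) _)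
  letI := τ.toAlgebra
  letI : Algebra R L := ρ.toAlgebra
  haveI : Algebra.FiniteType R B := hτ
  haveI : Algebra.QuasiFinite R B := hqf
  obtain ⟨sB, hsB⟩ := (hτ : Algebra.FiniteType R B).out
  let T := {p : (B →ₐ[R] L) × integralClosure R L //
    (p.2 : L) ≠ 0 ∧ ∀ b ∈ sB, (p.2 : L) * p.1 b ∈ integralClosure R L}
  have hspan : Ideal.span (Set.range fun t : T => t.1.2) = ⊤ := by
    by_contra hne
    obtain ⟨q, hq, hle⟩ := Ideal.exists_le_maximal _ hne
    obtain ⟨O, hO, hOl⟩ := IsLocalRing.exists_factor_valuationRing (R := Localization.AtPrime q) (K := L)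
      (IsLocalization.lift (M := q.primeCompl) (g := (integralClosure R L).val.toRingHom) fun s =>
        IsUnit.mk0 _ fun h0 => s.2 (by
          have : s.1 = 0 := Subtype.ext h0
          rw [this]; exact zero_mem _))
    have hOS : ∀ x : integralClosure R L, (x : L) ∈ O := fun x => by
      have := hO (algebraMap _ _ x)
      rwa [IsLocalization.lift_eq] at this
    have hOq : ∀ x : integralClosure R L, O.valuation (x : L) = 1 → x ∉ q := fun x hx hxq => by
      refine (IsLocalization.AtPrime.isUnit_to_map_iff (Localization.AtPrime q) q x).1 ?_ hxq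
      refine hOl.map_nonunit _ ?_
      refine (O.valuation_eq_one_iff _).2 ?_
      show O.valuation (IsLocalization.lift _ (algebraMap _ _ x)) = 1
      rw [IsLocalization.lift_eq]
      exact hx
    let η : R →+* O := ρ.codRestrict O.toSubring fun r => hOS (algebraMap R (integralClosure R L) r)
    obtain ⟨W, _, _, φ, hφ, _j, g, hg⟩ := hf (CommRingCat.of O) (Spec.map (CommRingCat.ofHom η))
    haveI := hφ.2
    let g₁ : Spec W ⟶ Spec (CommRingCat.of B) := g
    have hg₁ : g₁ ≫ Spec.map (CommRingCat.ofHom τ) = Spec.map φ ≫ Spec.map (CommRingCat.ofHom η) := hg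
    obtain ⟨θ, hθO, hθ⟩ := exists_ringHom_into (Ω := L) O.subtype Subtype.val_injective O (fun a => a.2)
      (fun a ha => (O.valuation_lt_one_iff a).1 ha) η τ hτ φ.hom hφ.1 (Spec.preimage g₁).hom (by
        rw [← Spec.map_preimage g₁, ← Spec.map_comp, ← Spec.map_comp] at hg₁
        exact CommRingCat.hom_ext_iff.1 (Spec.map_injective hg₁))
    let θA : B →ₐ[R] L := { θ with commutes' := fun r => RingHom.congr_fun hθ r }
    choose t ht htb using exists_denominator θA O hOS hθO
    let s : integralClosure R L := ∏ b ∈ sB, t b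
    have hs1 : O.valuation (s : L) = 1 := by
      show O.valuation ((integralClosure R L).val s) = 1
      rw [map_prod, map_prod]
      exact Finset.prod_eq_one fun b _ => ht b
    have hmem : s ∈ Set.range fun t : T => t.1.2 := by
      refine ⟨⟨(θA, s), fun h0 => ?_, fun b hb => ?_⟩, rfl⟩
      · rw [h0, map_zero] at hs1; exact zero_ne_one hs1
      · show (s : L) * θA b ∈ integralClosure R L
        rw [show s = t b * ∏ c ∈ sB.erase b, t c from (Finset.mul_prod_erase _ _ hb).symm]
        rw [Subalgebra.coe_mul, mul_right_comm]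
        exact mul_mem (htb b) (SetLike.coe_mem _)
    exact hOq s hs1 (hle (Ideal.subset_span hmem))
  obtain ⟨K, hK, h1⟩ : ∃ K : Finset (integralClosure R L),
      (K : Set (integralClosure R L)) ⊆ (Set.range fun t : T => t.1.2) ∧
        (1 : integralClosure R L) ∈ Ideal.span (K : Set (integralClosure R L)) :=
    Submodule.mem_span_finite_of_mem_span (hspan.ge trivial)
  obtain ⟨c, -, hc⟩ := Submodule.mem_span_finset.1 h1
  have hK' : ∀ s ∈ K, ∃ θ : B →ₐ[R] L, (s : L) ≠ 0 ∧ ∀ b ∈ sB, (s : L) * θ b ∈ integralClosure R L :=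
    fun s hs => by
      obtain ⟨⟨⟨θ, s'⟩, h⟩, rfl⟩ := hK hs
      exact ⟨θ, h⟩
  choose θ hs0 hsθ using hK'
  let G : Set L := (Subtype.val '' (K : Set (integralClosure R L))) ∪
    ((fun s => (c s : L)) '' (K : Set (integralClosure R L))) ∪
    ((fun p : K × sB => (p.1.1 : L) * θ p.1.1 p.1.2 p.2.1) '' Set.univ)
  have hGf : G.Finite := ((K.finite_toSet.image _).union (K.finite_toSet.image _)).union
    (Set.finite_univ.image _)
  have hGi : ∀ x ∈ G, IsIntegral R x := by
    rintro _ ((⟨s, -, rfl⟩ | ⟨s, -, rfl⟩) | ⟨⟨s, b⟩, -, rfl⟩)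
    · exact s.2
    · exact (c s).2
    · exact hsθ s.1 s.2 b.1 b.2
  let R' := Algebra.adjoin R G
  haveI : Module.Finite R R' := Algebra.finite_adjoin_of_finite_of_isIntegral hGf hGi
  have hfin : IsFinite (Spec.map (CommRingCat.ofHom (algebraMap R R'))) :=
    (IsFinite.SpecMap_iff _).2 (RingHom.finite_algebraMap.2 inferInstance)
  refine ⟨Spec (CommRingCat.of R'), Spec.map (CommRingCat.ofHom (algebraMap R R')), hfin,
    fun x hx => ?_, fun y => ?_⟩
  · haveI := hfin
    let ξ : PrimeSpectrum R := Spec.map (CommRingCat.ofHom (algebraMap R R')) (⊥ : PrimeSpectrum R')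
    have hsp : ξ ⤳ x := by
      refine (PrimeSpectrum.le_iff_specializes _ _).1 ?_
      intro r hr
      refine (PrimeSpectrum.mem_zeroLocus _ _).1 hx ?_
      rw [← hρ]
      exact congrArg Subtype.val (show algebraMap R R' r = 0 from hr)
    exact hsp.mem_closed (Spec.map _).isClosedMap.isClosed_range ⟨_, rfl⟩
  obtain ⟨s, hsK, hsy⟩ : ∃ s, ∃ hs : s ∈ K,
      (⟨(s : L), Algebra.subset_adjoin (Or.inl (Or.inl ⟨s, hs, rfl⟩))⟩ : R') ∉
        (y : PrimeSpectrum R').asIdeal := by
    by_contra hall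
    push Not at hall
    refine (y : PrimeSpectrum R').isPrime.ne_top ((Ideal.eq_top_iff_one _).2 ?_)
    have e : (1 : R') = ∑ s ∈ K.attach,
        (⟨(c s.1 : L), Algebra.subset_adjoin (Or.inl (Or.inr ⟨s.1, s.2, rfl⟩))⟩ : R') *
          ⟨(s.1 : L), Algebra.subset_adjoin (Or.inl (Or.inl ⟨s.1, s.2, rfl⟩))⟩ := by
      refine Subtype.ext ?_
      have := congrArg Subtype.val hc
      simp only [smul_eq_mul, AddSubmonoidClass.coe_finsetSum, Subalgebra.coe_mul] at this
      simp only [AddSubmonoidClass.coe_finsetSum, Subalgebra.coe_mul]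
      exact this.symm.trans (K.sum_attach (fun s => (c s : L) * (s : L))).symm
    rw [e]
    exact Ideal.sum_mem _ fun s _ => Ideal.mul_mem_left _ _ (hall s.1 s.2)
  set sR : R' := ⟨(s : L), Algebra.subset_adjoin (Or.inl (Or.inl ⟨s, hsK, rfl⟩))⟩ with hsR
  let φ : Localization.Away sR →ₐ[R] L := IsLocalization.liftAlgHom (M := Submonoid.powers sR) (f := R'.val) (by
    rintro ⟨_, n, rfl⟩
    exact IsUnit.mk0 _ (by simpa [sR] using pow_ne_zero n (hs0 s hsK)))
  have hφ : Function.Injective φ := by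
    refine (IsLocalization.lift_injective_iff _).2 fun a b => ⟨fun h => congrArg R'.val ?_, fun h => ?_⟩
    · exact IsLocalization.injective (Localization.Away sR) (M := Submonoid.powers sR) (by
        rintro _ ⟨n, rfl⟩
        exact mem_nonZeroDivisors_of_ne_zero (pow_ne_zero n (fun h => hs0 s hsK (congrArg Subtype.val h)))) h
    · exact congrArg _ (Subtype.val_injective h)
  have hgen : ∀ b, θ s hsK b ∈ φ.range := by
    suffices h : Algebra.adjoin R (sB : Set B) ≤ φ.range.comap (θ s hsK) from fun b => h (hsB.ge Algebra.mem_top)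
    refine Algebra.adjoin_le fun b hb => ?_
    refine ⟨IsLocalization.mk' (Localization.Away sR)
      (⟨(s : L) * θ s hsK b, Algebra.subset_adjoin (Or.inr ⟨(⟨s, hsK⟩, ⟨b, hb⟩), trivial, rfl⟩)⟩ : R')
      (⟨sR, Submonoid.mem_powers sR⟩ : Submonoid.powers sR), ?_⟩
    show IsLocalization.lift _ _ = _
    rw [IsLocalization.lift_mk'_spec]
    rfl
  let θA : B →ₐ[R] Localization.Away sR :=
    (AlgEquiv.ofInjective φ hφ).symm.toAlgHom.comp ((θ s hsK).codRestrict φ.range hgen)
  let j := Spec.map (CommRingCat.ofHom (algebraMap R' (Localization.Away sR)))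
  haveI : IsOpenImmersion j := IsOpenImmersion.of_isLocalization sR
  refine ⟨j.opensRange, ?_, isAffineOpen_opensRange j,
    j.isoOpensRange.inv ≫ Spec.map (CommRingCat.ofHom θA.toRingHom), ?_⟩
  · show (y : PrimeSpectrum R') ∈ Set.range (PrimeSpectrum.comap (algebraMap R' (Localization.Away sR)))
    rw [PrimeSpectrum.localization_away_comap_range (Localization.Away sR) sR]
    exact hsy
  · rw [Category.assoc, ← Spec.map_comp, ← Scheme.Hom.isoOpensRange_inv_comp, Category.assoc,
      ← Spec.map_comp]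
    congr 2
    ext r
    exact (θA.commutes r).trans (IsScalarTower.algebraMap_apply R R' (Localization.Away sR) r)

/-- Over a Noetherian ring, a quasi-finite algebra with valuative lifting has finite surjective refinement. -/
theorem exists_finite_surjective_noetherian {R B : Type u} [CommRing R] [IsNoetherianRing R] [CommRing B]
    (τ : R →+* B) (hτ : τ.FiniteType) (hqf : τ.QuasiFinite)
    (hf : HTop.HasValLift (PreZeroHypercover.singleton.{w} (Spec.map (CommRingCat.ofHom τ)))) :
    ∃ (P : Scheme.{u}) (π : P ⟶ Spec (CommRingCat.of R)), IsFinite π ∧ Surjective π ∧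
      LocallyOfFinitePresentation π ∧ LocallyLifts (Spec.map (CommRingCat.ofHom τ)) π := by
  classical
  have key : ∀ s : Finset (PrimeSpectrum R), ∃ (P : Scheme.{u}) (π : P ⟶ Spec (CommRingCat.of R)),
      IsFinite π ∧ (∀ p ∈ s, PrimeSpectrum.zeroLocus (p.asIdeal : Set R) ⊆ Set.range π) ∧
      LocallyLifts (Spec.map (CommRingCat.ofHom τ)) π := by
    intro s
    induction s using Finset.induction_on with
    | empty => exact ⟨∅, Scheme.emptyTo _, inferInstance, by simp, fun y => IsEmpty.elim inferInstance y⟩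
    | insert p s hp ih =>
      obtain ⟨P, π, hπ, hs, hl⟩ := ih
      obtain ⟨Q, ρ, hρ, hps, hlρ⟩ := exists_finite_over_prime τ hτ hqf hf p.asIdeal
      refine ⟨Q ⨿ P, coprod.desc ρ π, inferInstance, fun p' hp' x hx => ?_, fun y => ?_⟩
      · rcases Finset.mem_insert.1 hp' with rfl | hp'
        · obtain ⟨z, rfl⟩ := hps hx
          exact ⟨(coprod.inl : Q ⟶ Q ⨿ P) z, by rw [← Scheme.Hom.comp_apply, coprod.inl_desc]⟩
        · obtain ⟨z, rfl⟩ := hs p' hp' hx
          exact ⟨(coprod.inr : P ⟶ Q ⨿ P) z, by rw [← Scheme.Hom.comp_apply, coprod.inr_desc]⟩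
      · obtain ⟨(z | z), rfl⟩ := (coprodMk Q P).surjective y
        · rw [coprodMk_inl]
          exact hlρ.of_isOpenImmersion coprod.inl _ (coprod.inl_desc _ _) z
        · rw [coprodMk_inr]
          exact hl.of_isOpenImmersion coprod.inr _ (coprod.inr_desc _ _) z
  have hfin : {p : PrimeSpectrum R | p.asIdeal ∈ minimalPrimes R}.Finite :=
    (minimalPrimes.finite_of_isNoetherianRing R).preimage fun a _ b _ h => PrimeSpectrum.ext h
  obtain ⟨P, π, hπ, hs, hl⟩ := key hfin.toFinset
  refine ⟨P, π, hπ, ⟨fun (x : PrimeSpectrum R) => ?_⟩, inferInstance, hl⟩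
  obtain ⟨q, hq, hqx⟩ := Ideal.exists_minimalPrimes_le (J := x.asIdeal) (bot_le (a := x.asIdeal))
  exact hs ⟨q, hq.1.1⟩ (hfin.mem_toFinset.2 hq) ((PrimeSpectrum.mem_zeroLocus _ _).2 hqx)

end Groth.Agent.HTopUltra
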