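import Groth.Agent.HTopUltra.Global
import Groth.Agent.HTopUltra.QfhRefine
import Groth.Agent.Wt.ExtendFinite
import Groth.Agent.EGA43Lim.Basic

/-!
# Finite surjective refinements of quasi-finite V coverings
-/

set_option autoImplicit false
set_option linter.style.haveILetI false

universe w u

open CategoryTheory CategoryTheory.Limits AlgebraicGeometry TopologicalSpace Groth.Agent.LimLib

namespace Groth.Agent.HTopUltra

/-- A V covering of an affine scheme by quasi-finite morphisms locally of finite presentation is refined by a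
finite surjective morphism of finite presentation. -/
theorem exists_finite_refining {X : Scheme.{u}} [IsAffine X] (E : PreZeroHypercover.{w} X)
    (hlfp : ∀ i, LocallyOfFinitePresentation (E.f i))
    (hqf : ∀ i, LocallyQuasiFinite (E.f i)) (hE : HTop.IsVCover E) :
    ∃ (Y : Scheme.{u}) (g : Y ⟶ X), IsFinite g ∧ Surjective g ∧ LocallyOfFinitePresentation g ∧
      ∀ y : Y, ∃ U : Y.Opens, y ∈ U ∧ IsAffineOpen U ∧
        ∃ (i : E.I₀) (h : (U : Scheme.{u}) ⟶ E.X i), h ≫ E.f i = U.ι ≫ g := by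
  classical
  obtain ⟨n, iV, V, hV, hlift⟩ := exists_finite_affine_lifting E hE
  haveI : ∀ k, IsAffine (V k : Scheme.{u}) := hV
  let f : (∐ fun k => (V k : Scheme.{u})) ⟶ X := Sigma.desc fun k => (V k).ι ≫ E.f (iV k)
  haveI : LocallyOfFinitePresentation f :=
    IsZariskiLocalAtSource.sigmaDesc (P := @LocallyOfFinitePresentation) fun k =>
      haveI := hlfp (iV k)
      inferInstanceAs (LocallyOfFinitePresentation ((V k).ι ≫ E.f (iV k)))
  have hflift : HTop.HasValLift (PreZeroHypercover.singleton.{0} f) := by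
    intro R _ _ g
    obtain ⟨W, hW, hW', φ, hφ, k, g', hg'⟩ := hlift R g
    refine ⟨W, hW, hW', φ, hφ, PUnit.unit, g' ≫ Sigma.ι (fun k => (V k : Scheme.{u})) k, ?_⟩
    show (g' ≫ Sigma.ι (fun k => (V k : Scheme.{u})) k) ≫ f = _
    rw [Category.assoc, Sigma.ι_desc]
    exact hg'
  obtain ⟨I, _, _, D, π, ⟨hc⟩, hDa, hDn⟩ := exists_noetherian_system X
  haveI := hDa
  haveI : IsAffine (Cone.mk X π).pt := ‹IsAffine X›
  haveI : LocallyQuasiFinite f :=
    IsZariskiLocalAtSource.sigmaDesc (P := @LocallyQuasiFinite) fun k =>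
      haveI := hqf (iV k)
      inferInstanceAs (LocallyQuasiFinite ((V k).ι ≫ E.f (iV k)))
  haveI hD : ∀ (a b : I) (t : a ⟶ b), IsAffineHom (D.map t) := fun a b t => inferInstance
  obtain ⟨i₀, X₀, f₀, m₀, hX₀, hf₀, hsq₀⟩ := exists_affine_model D (Cone.mk X π) hc f
  haveI := hX₀
  haveI := hf₀
  haveI : IsIso (𝟙 (Cone.mk X π).pt) := IsIso.id _
  haveI : IsIso (𝟙 (D.obj i₀)) := IsIso.id _
  obtain ⟨i₁, φ₁, Xi, Yi, fq, gi, pY, pX, hY, hX, hq⟩ := LimLib.Descends.exists_stage hc f₀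
    (g₀ := 𝟙 (D.obj i₀)) (g := 𝟙 (Cone.mk X π).pt) (qY := π.app i₀)
    (IsPullback.of_vert_isIso ⟨(Category.comp_id _).trans (Category.id_comp _).symm⟩) hsq₀
    EGA43Lim.descends_locallyQuasiFinite (inferInstance : LocallyOfFiniteType f₀) (inferInstance : LocallyQuasiFinite f)
  let X₁ := pullback f₀ (D.map φ₁)
  let f₁ : X₁ ⟶ D.obj i₁ := pullback.snd f₀ (D.map φ₁)
  haveI : IsAffine X₁ := inferInstanceAs (IsAffine (pullback f₀ (D.map φ₁)))
  haveI : LocallyOfFinitePresentation f₁ := MorphismProperty.pullback_snd _ _ hf₀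
  haveI : LocallyQuasiFinite f₁ := by
    haveI : IsIso gi := hY.isIso_snd_of_isIso
    have hpY : pY = gi ≫ D.map φ₁ := (Category.comp_id pY).symm.trans hY.w
    subst hpY
    have h' : IsPullback pX (fq ≫ gi) f₀ (D.map φ₁) :=
      IsPullback.of_iso hX (Iso.refl _) (Iso.refl _) (asIso gi) (Iso.refl _) (by simp) (by simp) (by simp) (by simp)
    haveI : LocallyQuasiFinite (fq ≫ gi) := inferInstance
    exact (MorphismProperty.cancel_left_of_respectsIso @LocallyQuasiFinite h'.isoPullback.hom f₁).1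
      ((show h'.isoPullback.hom ≫ f₁ = fq ≫ gi from h'.isoPullback_hom_snd).symm ▸ ‹LocallyQuasiFinite (fq ≫ gi)›)
  let m : (∐ fun k => (V k : Scheme.{u})) ⟶ X₁ := pullback.lift m₀ (f ≫ π.app i₁) (by
    rw [Category.assoc]
    exact hsq₀.w.trans (congrArg (f ≫ ·) ((Cone.mk X π).w φ₁).symm))
  have hsq : IsPullback m f f₁ (π.app i₁) :=
    IsPullback.of_right (by rw [pullback.lift_fst]; exact ((Cone.mk X π).w φ₁).symm ▸ hsq₀)
      (pullback.lift_snd _ _ _) (IsPullback.of_hasPullback _ _)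
  obtain ⟨i, φ, hi⟩ := exists_stage_hasValLift D (Cone.mk X π) hc i₁ f₁ m f hsq.w hflift
  let fi : pullback f₁ (D.map φ) ⟶ D.obj i := pullback.snd f₁ (D.map φ)
  haveI : IsAffine (pullback f₁ (D.map φ)) := inferInstance
  have hsqi : IsPullback (pullback.lift m (f ≫ π.app i) (by
      rw [Category.assoc]
      exact hsq.w.trans (congrArg (f ≫ ·) ((Cone.mk X π).w φ).symm))) f fi (π.app i) :=
    IsPullback.of_right (by rw [pullback.lift_fst]; exact ((Cone.mk X π).w φ).symm ▸ hsq)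
      (pullback.lift_snd _ _ _) (IsPullback.of_hasPullback _ _)
  have hnat : Spec.map (CommRingCat.ofHom fi.appTop.hom) = (pullback f₁ (D.map φ)).isoSpec.inv ≫ fi ≫
      (D.obj i).isoSpec.hom := by
    rw [CommRingCat.ofHom_hom, ← Scheme.isoSpec_hom_naturality, Iso.inv_hom_id_assoc]
  have hi' : HTop.HasValLift (PreZeroHypercover.singleton.{0} (Spec.map (CommRingCat.ofHom fi.appTop.hom))) := by
    intro R _ _ g
    obtain ⟨W, hW, hW', χ, hχ, _j, g', hg'⟩ := hi R (g ≫ (D.obj i).isoSpec.inv)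
    let g₁ : Spec W ⟶ pullback f₁ (D.map φ) := g'
    have hg₁ : g₁ ≫ fi = Spec.map χ ≫ g ≫ (D.obj i).isoSpec.inv := hg'
    refine ⟨W, hW, hW', χ, hχ, PUnit.unit, g₁ ≫ (pullback f₁ (D.map φ)).isoSpec.hom, ?_⟩
    show (g₁ ≫ (pullback f₁ (D.map φ)).isoSpec.hom) ≫ Spec.map (CommRingCat.ofHom fi.appTop.hom) = _
    rw [hnat, Category.assoc, Iso.hom_inv_id_assoc, reassoc_of% hg₁, Iso.inv_hom_id, Category.comp_id]
  haveI := hDn i
  obtain ⟨P, ρ, hρ, hρs, hρf, hl⟩ := exists_finite_surjective_noetherian fi.appTop.hom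
    (RingHom.FiniteType.of_finitePresentation fi.finitePresentation_appTop)
    ((HasRingHomProperty.iff_of_isAffine (P := @LocallyQuasiFinite)).1
      (inferInstanceAs (LocallyQuasiFinite (pullback.snd f₁ (D.map φ))))) hi'
  let ρ' : P ⟶ D.obj i := ρ ≫ (D.obj i).isoSpec.inv
  refine ⟨pullback ρ' (π.app i), pullback.snd _ _, inferInstance, MorphismProperty.pullback_snd _ _ inferInstance,
    inferInstance, fun y => ?_⟩
  obtain ⟨U, hyU, hU, h, hh⟩ := hl (pullback.fst ρ' (π.app i) y)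
  haveI : IsAffineHom (π.app i) := by
    haveI : IsAffine (((Functor.const I).obj X).obj i) := ‹IsAffine X›
    infer_instance
  haveI : IsAffineHom (pullback.fst ρ' (π.app i)) := MorphismProperty.pullback_fst _ _ inferInstance
  let U' : (pullback ρ' (π.app i)).Opens := pullback.fst ρ' (π.app i) ⁻¹ᵁ U
  let a : (U' : Scheme.{u}) ⟶ ∐ fun k => (V k : Scheme.{u}) := hsqi.lift
    (((pullback.fst ρ' (π.app i)) ∣_ U) ≫ h ≫ (pullback f₁ (D.map φ)).isoSpec.inv)
    (U'.ι ≫ pullback.snd ρ' (π.app i)) (by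
      have e : h ≫ (pullback f₁ (D.map φ)).isoSpec.inv ≫ fi = U.ι ≫ ρ' := by
        rw [hnat] at hh
        show _ = U.ι ≫ ρ ≫ (D.obj i).isoSpec.inv
        rw [← reassoc_of% hh, Iso.hom_inv_id, Category.comp_id]
      rw [Category.assoc, Category.assoc, e, morphismRestrict_ι_assoc, pullback.condition]
      exact (Category.assoc _ _ _).symm)
  have ha : a ≫ f = U'.ι ≫ pullback.snd ρ' (π.app i) := hsqi.lift_snd _ _ _
  obtain ⟨k, z, hz⟩ := (sigmaOpenCover fun k => (V k : Scheme.{u})).exists_eq (a ⟨y, hyU⟩)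
  obtain ⟨O, hO, hyO, hOle⟩ := exists_isAffineOpen_mem_and_subset (x := (⟨y, hyU⟩ : (U' : Scheme.{u})))
    (U := a ⁻¹ᵁ (Sigma.ι (fun k => (V k : Scheme.{u})) k).opensRange)
    (show a ⟨y, hyU⟩ ∈ (Sigma.ι (fun k => (V k : Scheme.{u})) k).opensRange from ⟨z, hz⟩)
  refine ⟨U'.ι ''ᵁ O, ⟨⟨y, hyU⟩, hyO, rfl⟩, hO.image_of_isOpenImmersion _, iV k, ?_⟩
  have hr : Set.range (O.ι ≫ a) ⊆ Set.range (Sigma.ι (fun k => (V k : Scheme.{u})) k) := by
    rintro _ ⟨x, rfl⟩
    exact hOle x.2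
  refine ⟨(U'.ι.isoImage O).inv ≫ IsOpenImmersion.lift _ _ hr ≫ (V k).ι, ?_⟩
  have e : IsOpenImmersion.lift (Sigma.ι (fun k => (V k : Scheme.{u})) k) (O.ι ≫ a) hr ≫ (V k).ι ≫ E.f (iV k) =
      O.ι ≫ U'.ι ≫ pullback.snd ρ' (π.app i) := by
    rw [← ha, ← Category.assoc O.ι]
    conv_rhs => rw [← IsOpenImmersion.lift_fac (Sigma.ι (fun k => (V k : Scheme.{u})) k) (O.ι ≫ a) hr,
      Category.assoc, Sigma.ι_desc]
  rw [Category.assoc, Category.assoc, e, ← Category.assoc O.ι, ← Scheme.Hom.isoImage_hom_ι, Category.assoc,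
    Iso.inv_hom_id_assoc]


theorem exists_finite_lifting_over {Y : Scheme.{u}} [IsNoetherian Y] (E : PreZeroHypercover.{w} Y)
    (hlfp : ∀ i, LocallyOfFinitePresentation (E.f i)) (hqf : ∀ i, LocallyQuasiFinite (E.f i))
    (hE : HTop.IsVCover E) (U : Y.affineOpens) :
    ∃ (Q : Scheme.{u}) (q : Q ⟶ Y), IsFinite q ∧ Surjective q ∧ ∀ y, q y ∈ U.1 → LiftsAt E q y := by
  haveI : IsAffine (U.1 : Scheme.{u}) := U.2
  obtain ⟨P, g, hg, hgs, -, hl⟩ := exists_finite_refining (E.pullback₁ U.1.ι)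
    (fun i => MorphismProperty.pullback_fst _ _ (hlfp i))
    (fun i => MorphismProperty.pullback_fst _ _ (hqf i)) (HTopLib.isVCover_pullback U.1.ι hE)
  haveI := hg
  haveI := hgs
  obtain ⟨Q, q, i, hqs, hq, hpb⟩ := Wt.ExtendFinite.exists_extension U.1 U.2.isCompact g
  haveI : IsOpenImmersion i := MorphismProperty.of_isPullback hpb.flip (inferInstance : IsOpenImmersion U.1.ι)
  refine ⟨Q, q, hq, hqs, fun y hy => ?_⟩
  obtain ⟨w, hw1, -⟩ := Scheme.Pullback.exists_preimage_pullback (f := q) (g := U.1.ι) y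
    (⟨q y, hy⟩ : (U.1 : Scheme.{u})) rfl
  obtain ⟨z, rfl⟩ : ∃ z, i z = y := ⟨hpb.isoPullback.inv w, by
    rw [← Scheme.Hom.comp_apply, hpb.isoPullback_inv_fst]; exact hw1⟩
  refine LiftsAt.of_isOpenImmersion i q ?_
  rw [hpb.w]
  obtain ⟨W, hzW, hW, k, h, hh⟩ := hl z
  let h' : (W : Scheme.{u}) ⟶ pullback U.1.ι (E.f k) := h
  have hh' : h' ≫ pullback.fst U.1.ι (E.f k) = W.ι ≫ g := hh
  refine ⟨W, hzW, hW, k, h' ≫ pullback.snd U.1.ι (E.f k), ?_⟩
  rw [Category.assoc, ← pullback.condition, reassoc_of% hh']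

/-- A quasi-finite V covering of an affine or Noetherian scheme is refined by a finite surjection and an open
covering. -/
theorem exists_openCover_then_finite {Y : Scheme.{u}} (hY : IsAffine Y ∨ IsNoetherian Y)
    (E : PreZeroHypercover.{w} Y) (hlfp : ∀ i, LocallyOfFinitePresentation (E.f i))
    (hqf : ∀ i, LocallyQuasiFinite (E.f i)) (hE : HTop.IsVCover E) :
    ∃ (Q : Scheme.{u}) (q : Q ⟶ Y) (n : ℕ) (V : Fin n → Q.Opens), IsFinite q ∧ Surjective q ∧
      LocallyOfFinitePresentation q ∧ (∀ j, IsAffineOpen (V j)) ∧ ⨆ j, V j = ⊤ ∧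
      ∀ j, ∃ (i : E.I₀) (h : ((V j : Q.Opens) : Scheme.{u}) ⟶ E.X i), h ≫ E.f i = (V j).ι ≫ q := by
  classical
  obtain ⟨Q, q, hq, hs, hf, hl⟩ : ∃ (Q : Scheme.{u}) (q : Q ⟶ Y), IsFinite q ∧ Surjective q ∧
      LocallyOfFinitePresentation q ∧ ∀ y, LiftsAt E q y := by
    rcases hY with hY | hY
    · exact exists_finite_refining E hlfp hqf hE
    have key : ∀ s : Finset Y.affineOpens, ∃ (Q : Scheme.{u}) (q : Q ⟶ Y), IsFinite q ∧ Surjective q ∧
        ∀ y, (∃ U ∈ s, q y ∈ U.1) → LiftsAt E q y := by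
      intro s
      induction s using Finset.induction_on with
      | empty => exact ⟨Y, 𝟙 Y, inferInstance, inferInstance, fun y h => by simp at h⟩
      | insert U s hU ih =>
        obtain ⟨Q₁, q₁, hq₁, hs₁, h₁⟩ := ih
        obtain ⟨Q₂, q₂, hq₂, hs₂, h₂⟩ := exists_finite_lifting_over E hlfp hqf hE U
        refine ⟨pullback q₁ q₂, pullback.fst q₁ q₂ ≫ q₁, inferInstance, inferInstance, fun y hy => ?_⟩
        obtain ⟨V, hV, hyV⟩ := hy
        rcases Finset.mem_insert.1 hV with rfl | hV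
        · rw [pullback.condition] at hyV ⊢
          exact LiftsAt.comp _ (h₂ _ hyV)
        · exact LiftsAt.comp _ (h₁ _ ⟨V, hV, hyV⟩)
    obtain ⟨t, ht⟩ := (isCompact_univ (X := Y)).elim_finite_subcover
      (fun W : Y.affineOpens => (W.1 : Set Y)) (fun W => W.1.2) fun x _ => by
        obtain ⟨W, hW, hxW, -⟩ := exists_isAffineOpen_mem_and_subset (Opens.mem_top x)
        exact Set.mem_iUnion.2 ⟨⟨W, hW⟩, hxW⟩
    obtain ⟨Q, q, hq, hs, hl⟩ := key t
    refine ⟨Q, q, hq, hs, inferInstance, fun y => hl y ?_⟩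
    obtain ⟨W, hW, hy⟩ := Set.mem_iUnion₂.1 (ht (Set.mem_univ (q y)))
    exact ⟨W, hW, hy⟩
  choose U hyU hU i h hh using hl
  haveI : CompactSpace Y := by rcases hY with hY | hY <;> infer_instance
  haveI : CompactSpace Q := QuasiCompact.compactSpace_of_compactSpace q
  obtain ⟨t, ht⟩ := (isCompact_univ (X := Q)).elim_finite_subcover (fun y => (U y : Set Q))
    (fun y => (U y).2) fun y _ => Set.mem_iUnion.2 ⟨y, hyU y⟩
  obtain ⟨n, ⟨e⟩⟩ := Finite.exists_equiv_fin ↥t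
  refine ⟨Q, q, n, fun j => U (e.symm j).1, hq, hs, hf, fun j => hU _, ?_, fun j => ⟨i _, h _, hh _⟩⟩
  refine eq_top_iff.2 fun y _ => ?_
  obtain ⟨z, hz⟩ := Set.mem_iUnion.1 (ht (Set.mem_univ y))
  obtain ⟨hzt, hy⟩ := Set.mem_iUnion.1 hz
  exact Opens.mem_iSup.2 ⟨e ⟨z, hzt⟩, by simpa using hy⟩

end Groth.Agent.HTopUltra
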