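import Groth.Agent.SGA1Desc.Basic
import Groth.Agent.LimTop.Descend

/-!
# Quasi-compact stable opens of a descent datum
-/

set_option autoImplicit false
set_option linter.style.haveILetI false
set_option backward.isDefEq.respectTransparency false

universe u

open CategoryTheory CategoryTheory.Limits AlgebraicGeometry Topology TopologicalSpace
open Groth.Agent.SGA1Desc

namespace Groth.Agent.HTopUltra

variable {X S : Scheme.{u}} {g : X ⟶ S} (D : Desc.SchDD g)

/-- The scheme of related pairs. -/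
noncomputable abbrev pairs : Scheme.{u} := pullback (D.obj.hom ≫ g) g

/-- The first member of a related pair. -/
noncomputable abbrev src : pairs D ⟶ D.obj.left := pullback.fst (D.obj.hom ≫ g) g

theorem exists_tgt : ∃ t : pairs D ⟶ D.obj.left,
    Rel D (src D) t ∧ t ≫ D.obj.hom = pullback.snd (D.obj.hom ≫ g) g :=
  exists_rel (src D) (pullback.snd _ _) (by rw [Category.assoc]; exact pullback.condition)

/-- The second member of a related pair. -/
noncomputable def tgt : pairs D ⟶ D.obj.left := (exists_tgt D).choose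

theorem rel_src_tgt : Rel D (src D) (tgt D) := (exists_tgt D).choose_spec.1

theorem tgt_hom : tgt D ≫ D.obj.hom = pullback.snd (D.obj.hom ≫ g) g := (exists_tgt D).choose_spec.2

theorem exists_pair_lift {T : Scheme.{u}} {a b : T ⟶ D.obj.left} (h : Rel D a b) :
    ∃ l : T ⟶ pairs D, l ≫ src D = a ∧ l ≫ tgt D = b := by
  let l : T ⟶ pairs D := pullback.lift a (b ≫ D.obj.hom) (by simpa [Category.assoc] using h.1)
  have hl : l ≫ src D = a := pullback.lift_fst _ _ _
  refine ⟨l, hl, rel_unique (hl ▸ rel_comp l (rel_src_tgt D)) h ?_⟩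
  rw [Category.assoc, tgt_hom]
  exact pullback.lift_snd _ _ _

/-- The exchange of the members of a pair. -/
theorem exists_swap : ∃ σ : pairs D ⟶ pairs D, IsIso σ ∧ σ ≫ src D = tgt D ∧ σ ≫ tgt D = src D := by
  obtain ⟨σ, h1, h2⟩ := exists_pair_lift D (rel_symm (rel_src_tgt D))
  have h3 : σ ≫ pullback.snd (D.obj.hom ≫ g) g = src D ≫ D.obj.hom := by
    rw [← tgt_hom, reassoc_of% h2]
  have hσ : σ ≫ σ = 𝟙 _ := by
    apply pullback.hom_ext
    · rw [Category.assoc, Category.id_comp]
      show σ ≫ σ ≫ src D = src D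
      rw [h1, h2]
    · rw [Category.assoc, Category.id_comp, h3, reassoc_of% h1, tgt_hom]
  exact ⟨σ, ⟨σ, hσ, hσ⟩, h1, h2⟩

theorem universallyClosed_tgt [UniversallyClosed g] : UniversallyClosed (tgt D) := by
  obtain ⟨σ, hσ, h, -⟩ := exists_swap D
  rw [← h]
  infer_instance

theorem universallyOpen_tgt [UniversallyOpen g] : UniversallyOpen (tgt D) := by
  obtain ⟨σ, hσ, h, -⟩ := exists_swap D
  rw [← h]
  haveI : UniversallyOpen (src D) := MorphismProperty.pullback_fst _ _ ‹UniversallyOpen g›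
  infer_instance

theorem lfp_tgt [LocallyOfFinitePresentation g] : LocallyOfFinitePresentation (tgt D) := by
  obtain ⟨σ, hσ, h, -⟩ := exists_swap D
  rw [← h]
  infer_instance

theorem quasiCompact_tgt [QuasiCompact g] : QuasiCompact (tgt D) := by
  obtain ⟨σ, hσ, h, -⟩ := exists_swap D
  rw [← h]
  infer_instance

/-- Two points lie in one orbit. -/
def Orb (x y : D.obj.left) : Prop := ∃ r : ↥(pairs D), src D r = x ∧ tgt D r = y

variable {D}

theorem orb_refl (x : D.obj.left) : Orb D x x := by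
  obtain ⟨l, h1, h2⟩ := exists_pair_lift D (rel_refl (𝟙 D.obj.left))
  exact ⟨l x, by rw [← Scheme.Hom.comp_apply, h1]; rfl, by rw [← Scheme.Hom.comp_apply, h2]; rfl⟩

theorem orb_symm {x y : D.obj.left} (h : Orb D x y) : Orb D y x := by
  obtain ⟨σ, -, h1, h2⟩ := exists_swap D
  obtain ⟨r, rfl, rfl⟩ := h
  exact ⟨σ r, by rw [← Scheme.Hom.comp_apply, h1], by rw [← Scheme.Hom.comp_apply, h2]⟩

theorem orb_trans {x y z : D.obj.left} (h : Orb D x y) (h' : Orb D y z) : Orb D x z := by
  obtain ⟨r, rfl, rfl⟩ := h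
  obtain ⟨r', hr', rfl⟩ := h'
  obtain ⟨w, hw₁, hw₂⟩ := Scheme.Pullback.exists_preimage_pullback (f := tgt D) (g := src D) r r' hr'.symm
  obtain ⟨l, h1, h2⟩ := exists_pair_lift D
    (rel_trans (rel_comp (pullback.fst (tgt D) (src D)) (rel_src_tgt D))
      ((pullback.condition (f := tgt D) (g := src D)).symm ▸
        rel_comp (pullback.snd (tgt D) (src D)) (rel_src_tgt D)))
  refine ⟨l w, ?_, ?_⟩
  · rw [← Scheme.Hom.comp_apply, h1, Scheme.Hom.comp_apply, hw₁]
  · rw [← Scheme.Hom.comp_apply, h2, Scheme.Hom.comp_apply, hw₂]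

theorem stable_of_orb {W : D.obj.left.Opens} (h : ∀ x y, Orb D x y → x ∈ W → y ∈ W) : Stable D W := by
  intro T a b hab t ht
  obtain ⟨l, h1, h2⟩ := exists_pair_lift D hab
  exact h _ _ ⟨l t, by rw [← Scheme.Hom.comp_apply, h1], by rw [← Scheme.Hom.comp_apply, h2]⟩ ht

/-- For a universally open quasi-compact projection every point has a quasi-compact stable neighbourhood. -/
theorem exists_stable_of_universallyOpen [UniversallyOpen g] [QuasiCompact g] (x : D.obj.left) :
    ∃ W : D.obj.left.Opens, x ∈ W ∧ Stable D W ∧ IsCompact (W : Set D.obj.left) := by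
  haveI := universallyOpen_tgt D
  obtain ⟨O, hO, hxO, -⟩ := exists_isAffineOpen_mem_and_subset (Opens.mem_top x)
  let W : D.obj.left.Opens := ⟨tgt D '' (src D ⁻¹' O), (tgt D).isOpenMap _ ((src D).continuous.isOpen_preimage _ O.2)⟩
  refine ⟨W, ?_, stable_of_orb fun a b hab ha => ?_,
    ((src D).isCompact_preimage hO.isCompact).image (tgt D).continuous⟩
  · obtain ⟨r, hr, hr'⟩ := orb_refl x
    exact ⟨r, show src D r ∈ O from hr ▸ hxO, hr'⟩
  · obtain ⟨r, hr, rfl⟩ := ha
    obtain ⟨r', hr1, hr2⟩ := orb_trans ⟨r, rfl, rfl⟩ hab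
    exact ⟨r', show src D r' ∈ O from hr1 ▸ hr, hr2⟩

/-- For a universally closed projection of finite presentation every point has a quasi-compact stable
neighbourhood. -/
theorem exists_stable_of_universallyClosed [UniversallyClosed g] [LocallyOfFinitePresentation g]
    [QuasiSeparatedSpace D.obj.left] (x : D.obj.left) :
    ∃ W : D.obj.left.Opens, x ∈ W ∧ Stable D W ∧ IsCompact (W : Set D.obj.left) := by
  classical
  haveI := universallyClosed_tgt D
  haveI := lfp_tgt D
  haveI : QuasiCompact (tgt D) := quasiCompact_tgt D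
  have horb : IsCompact (src D '' (tgt D ⁻¹' {x})) :=
    ((tgt D).isCompact_preimage_singleton x).image (src D).continuous
  choose A hA hmem _hle using fun y : D.obj.left => exists_isAffineOpen_mem_and_subset (Opens.mem_top y)
  obtain ⟨F, hF⟩ := horb.elim_finite_subcover (fun y => (A y : Set D.obj.left)) (fun y => (A y).2)
    fun y _ => Set.mem_iUnion.2 ⟨y, hmem y⟩
  let O : Set D.obj.left := ⋃ y ∈ F, (A y : Set D.obj.left)
  have hOc : IsCompact O := F.finite_toSet.isCompact_biUnion fun y _ => (hA y).isCompact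
  have hOo : IsOpen O := isOpen_biUnion fun y _ => (A y).2
  let C : Set D.obj.left := (tgt D '' (src D ⁻¹' Oᶜ))ᶜ
  have hCo : IsOpen C :=
    ((tgt D).isClosedMap _ (hOo.isClosed_compl.preimage (src D).continuous)).isOpen_compl
  let W : D.obj.left.Opens := ⟨C, hCo⟩
  have hWO : C ⊆ O := fun y hy => by
    by_contra hyO
    obtain ⟨r, hr, hr'⟩ := orb_refl y
    exact hy ⟨r, show src D r ∈ Oᶜ from hr ▸ hyO, hr'⟩
  refine ⟨W, fun ⟨r, hr, hrx⟩ => hr (hF ⟨r, hrx, rfl⟩), stable_of_orb fun a b hab ha => ?_, ?_⟩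
  · rintro ⟨r, hr, rfl⟩
    obtain ⟨r', hr1, hr2⟩ := orb_trans ⟨r, rfl, rfl⟩ (orb_symm hab)
    exact ha ⟨r', show src D r' ∈ Oᶜ from hr1 ▸ hr, hr2⟩
  · show IsCompact C
    have hlc' := (tgt D).isLocallyConstructible_image
      ((src D).isConstructible_preimage (hOc.isConstructible hOo).compl).isLocallyConstructible
    have hlc : IsLocallyConstructible C := fun y => by
      obtain ⟨U, hyU, hU, H⟩ := hlc' y
      exact ⟨U, hyU, hU, H.compl⟩
    let Oo : D.obj.left.Opens := ⟨O, hOo⟩
    haveI : CompactSpace (Oo : Scheme.{u}) := isCompact_iff_compactSpace.1 hOc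
    haveI : QuasiSeparatedSpace (Oo : Scheme.{u}) := QuasiSeparatedSpace.of_isOpenEmbedding Oo.ι.isOpenEmbedding
    have h1 : IsConstructible (Oo.ι ⁻¹' C) :=
      (hlc.preimage_of_isOpenEmbedding Oo.ι.isOpenEmbedding).isConstructible
    have h2 := (LimTop.isCompact_of_isConstructible h1).image Oo.ι.continuous
    rwa [Set.image_preimage_eq_of_subset (show C ⊆ Set.range Oo.ι by rw [Scheme.Opens.range_ι]; exact hWO)] at h2

end Groth.Agent.HTopUltra
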