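import Groth.Agent.HTopUltra.EffComp
import Groth.Agent.HTopUltra.StableCover
import Groth.Agent.HTopUltra.EtGlue
import Groth.Agent.HTopUltra.Global
import Groth.Agent.SGA1Desc.ProperLimit
import Groth.Agent.SGA1Desc.OpenEff
import Groth.Agent.HTopLib.Val
import Groth.Agent.HTopLib.Cover
import Groth.Agent.SubtrLib.Submersive

/-!
# Effective descent of separated étale schemes along subtrusive morphisms of finite presentation
-/

set_option autoImplicit false
set_option linter.style.haveILetI false
set_option maxHeartbeats 800000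
set_option backward.isDefEq.respectTransparency false

universe u

open CategoryTheory CategoryTheory.Limits AlgebraicGeometry Topology TopologicalSpace
open Groth.Agent.SGA1Desc

namespace Groth.Agent.HTopUltra.SepEff

variable {X S : Scheme.{u}} {g : X ⟶ S}

/-- An effective separated étale datum comes from a separated étale scheme over the base. -/
theorem exists_over {D : Desc.SchDD g} [IsSeparated D.obj.hom] (hg : SGA1.UnivSubmersive g)
    (E : Eff D (𝟙 S)) :
    ∃ U : Over S, IsSeparated U.hom ∧ Etale U.hom ∧ Nonempty ((Desc.toDD g).obj U ≅ D) := by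
  let π := pullback.fst (D.obj.hom ≫ g) (𝟙 S)
  haveI : IsIso π := inferInstanceAs (IsIso (pullback.fst (D.obj.hom ≫ g) (𝟙 S)))
  have hπ : π ≫ D.obj.hom ≫ g = pullback.snd _ _ := pullback.condition.trans (Category.comp_id _)
  refine ⟨Over.mk E.str, E.isSeparated_str hg, E.etale,
    effective_of_isPullback (D := D) (U := Over.mk E.str) (inv π ≫ E.q) ?_ fun W a b hab => ?_⟩
  · have := E.isPullback
    rw [Category.comp_id] at this
    exact IsPullback.of_iso this (asIso π) (Iso.refl _) (Iso.refl _) (Iso.refl _)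
      (by simp) (by simp [π]) (by simp) (by simp)
  · simp only [← Category.assoc]
    refine E.compat _ _ (by simpa [π] using hab) ?_
    have h3 : ∀ c : W ⟶ D.obj.left, (c ≫ inv π) ≫ pullback.snd (D.obj.hom ≫ g) (𝟙 S) =
        (c ≫ D.obj.hom) ≫ g := fun c => by
      rw [← hπ]; simp
    exact (h3 a).trans (hab.1.trans (h3 b).symm)

/-- An étale scheme inducing a datum gives effectiveness. -/
theorem exists_eff_of_iso {D : Desc.SchDD g} {U : Over S} [Etale U.hom]
    (e : (Desc.toDD g).obj U ≅ D) : Nonempty (Eff D (𝟙 S)) := by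
  obtain ⟨q, hsq, hq⟩ := exists_of_iso e
  let π := pullback.fst (D.obj.hom ≫ g) (𝟙 S)
  haveI : IsIso π := inferInstanceAs (IsIso (pullback.fst (D.obj.hom ≫ g) (𝟙 S)))
  have hπ : π ≫ D.obj.hom ≫ g = pullback.snd _ _ := pullback.condition.trans (Category.comp_id _)
  refine ⟨{ base := U.left, str := U.hom, etale := ‹_›, q := π ≫ q, q_str := ?_, isPullback := ?_,
            compat := fun W a b hr _ => ?_ }⟩
  · rw [Category.assoc, hsq.w, hπ]
  · rw [Category.comp_id]
    exact IsPullback.of_iso hsq (asIso π).symm (Iso.refl _) (Iso.refl _) (Iso.refl _)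
      (by simp) (by simp [π]) (by simp) (by simp)
  · simp only [← Category.assoc]
    exact hq _ _ hr

/-- Effectiveness for quasi-compact separated étale data along a flat projection. -/
theorem exists_eff_of_flat [Flat g] [Surjective g] [QuasiCompact g] (D : Desc.SchDD g)
    [QuasiCompact D.obj.hom] [IsSeparated D.obj.hom] [Etale D.obj.hom] :
    Nonempty (Eff D (𝟙 S)) := by
  haveI : LocallyQuasiFinite D.obj.hom :=
    Groth.Agent.AlgSpCov.etale_le_locallyQuasiFinite _ _ _ ‹Etale D.obj.hom›
  obtain ⟨U, ⟨i⟩⟩ := effective_of_sepLqf D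
  haveI : Etale U.hom := of_iso_toDD i @Etale ‹_›
  exact exists_eff_of_iso i

/-- Effectiveness is checked on quasi-compact stable opens. -/
theorem exists_eff_of_stable_cover [QuasiSeparatedSpace X] (D : Desc.SchDD g)
    [IsSeparated D.obj.hom] [Etale D.obj.hom] (hg : SGA1.UnivSubmersive g)
    (hW : ∀ z : D.obj.left, ∃ W : D.obj.left.Opens, z ∈ W ∧ Stable D W ∧ IsCompact (W : Set D.obj.left))
    (h : ∀ D' : Desc.SchDD g, QuasiCompact D'.obj.hom → IsSeparated D'.obj.hom → Etale D'.obj.hom →
      Nonempty (Eff D' (𝟙 S))) : Nonempty (Eff D (𝟙 S)) := by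
  refine EtGlue.exists_eff_of_cover D hg fun z => ?_
  obtain ⟨W, hz, hs, hc⟩ := hW z
  haveI : CompactSpace W.toScheme := isCompact_iff_compactSpace.1 hc
  refine ⟨W, hs, hz, h _ ?_ ?_ ?_⟩
  · exact quasiCompact_of_compactSpace (W.ι ≫ D.obj.hom)
  · exact inferInstanceAs (IsSeparated (W.ι ≫ D.obj.hom))
  · exact inferInstanceAs (Etale (W.ι ≫ D.obj.hom))

/-- Effective descent along flat, quasi-compact, universally open surjections. -/
theorem exists_eff_of_flat_open [Flat g] [UniversallyOpen g] [Surjective g] [QuasiCompact g]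
    [QuasiSeparatedSpace X] (D : Desc.SchDD g) [IsSeparated D.obj.hom] [Etale D.obj.hom] :
    Nonempty (Eff D (𝟙 S)) :=
  exists_eff_of_stable_cover D (univSubmersive_of_open g)
    (fun z => exists_stable_of_universallyOpen z)
    fun D' _ _ _ => exists_eff_of_flat D'

/-- Effective descent along proper surjections of finite presentation. -/
theorem exists_eff_of_proper_surjective [IsProper g] [Surjective g] [LocallyOfFinitePresentation g]
    [QuasiSeparatedSpace X] (D : Desc.SchDD g) [IsSeparated D.obj.hom] [Etale D.obj.hom] :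
    Nonempty (Eff D (𝟙 S)) := by
  haveI : QuasiSeparatedSpace D.obj.left := quasiSeparatedSpace_of_quasiSeparated D.obj.hom
  exact exists_eff_of_stable_cover D (univSubmersive_of_isProper_of_surjective g)
    (fun z => exists_stable_of_universallyClosed z)
    fun D' _ _ _ => SGA1Desc.exists_eff_of_proper_surjective D'

/-- Effective descent along subtrusive morphisms of finite presentation to affine schemes. -/
theorem exists_eff_of_affine [IsAffine S] [QuasiCompact g] [LocallyOfFinitePresentation g]
    (hg : Subtr.UnivSSubtrusive g) (D : Desc.SchDD g) [IsSeparated D.obj.hom] [Etale D.obj.hom] :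
    Nonempty (Eff D (𝟙 S)) := by
  have hgu : SGA1.UnivSubmersive g := SubtrLib.univSubmersive_of_univSSubtrusive g hg
  obtain ⟨Q, q, n, W, hq, hqs, hqf, hWa, hWtop, hW⟩ := exists_openCover_then_proper (Or.inl ‹IsAffine S›)
    (PreZeroHypercover.singleton.{0} g) (fun _ => ‹LocallyOfFinitePresentation g›)
    (HTopLib.isVCover_singleton_of_univSSubtrusive g hg)
  choose i h hh using hW
  haveI := hq; haveI := hqs; haveI := hqf
  haveI : QuasiSeparatedSpace Q := quasiSeparatedSpace_of_quasiSeparated q
  haveI : ∀ j, IsAffine (W j).toScheme := hWa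
  let p : (∐ fun j => (W j).toScheme) ⟶ Q := Sigma.desc fun j => (W j).ι
  let c : (∐ fun j => (W j).toScheme) ⟶ X := Sigma.desc fun j => h j
  have w : c ≫ g = p ≫ q := Sigma.hom_ext _ _ fun j => by
    simp only [c, p, Sigma.ι_desc_assoc]
    exact hh j
  haveI : IsAffine (∐ fun j => (W j).toScheme) := inferInstance
  haveI hpe : Etale p := IsZariskiLocalAtSource.sigmaDesc fun j => inferInstance
  haveI : QuasiCompact p := quasiCompact_of_compactSpace p
  haveI : Surjective p := ⟨fun y => by
    obtain ⟨j, hj⟩ := Opens.mem_iSup.1 (hWtop.ge (Opens.mem_top y))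
    refine ⟨(Sigma.ι (fun j => (W j).toScheme) j) ⟨y, hj⟩, ?_⟩
    rw [← Scheme.Hom.comp_apply, Sigma.ι_desc]
    rfl⟩
  let D₁ := pullDatum D p c q w
  haveI : IsSeparated D₁.obj.hom := MorphismProperty.pullback_snd _ _ ‹IsSeparated D.obj.hom›
  haveI : Etale D₁.obj.hom := MorphismProperty.pullback_snd _ _ ‹Etale D.obj.hom›
  obtain ⟨E₁⟩ := exists_eff_of_flat_open D₁
  obtain ⟨E₂⟩ := exists_eff_of_pullDatum D p c q w (univSubmersive_of_open p) E₁
  let E : Eff D (q ≫ 𝟙 S) := E₂.pull (𝟙 Q) (q ≫ 𝟙 S) (by simp)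
  haveI : Etale (translDatum hgu E).obj.hom := E.etale
  haveI : IsSeparated (translDatum hgu E).obj.hom := E.isSeparated_str hgu
  have hqu := univSubmersive_of_isProper_of_surjective q
  obtain ⟨E₃⟩ := exists_eff_of_proper_surjective (translDatum hgu E)
  obtain ⟨U, -, hU, hi⟩ := exists_over hqu E₃
  exact exists_eff_of_translDatum hgu E hqu ⟨U, hU, hi⟩

/-- Effective descent along subtrusive morphisms of finite presentation. -/
theorem exists_eff_of_univSSubtrusive_fp [QuasiCompact g] [LocallyOfFinitePresentation g]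
    (hg : Subtr.UnivSSubtrusive g) (D : Desc.SchDD g) [IsSeparated D.obj.hom] [Etale D.obj.hom] :
    Nonempty (Eff D (𝟙 S)) := by
  refine exists_eff_of_openCover D (SubtrLib.univSubmersive_of_univSSubtrusive g hg) fun s => ?_
  obtain ⟨V, hV, hs, -⟩ := exists_isAffineOpen_mem_and_subset (Opens.mem_top s)
  refine ⟨V, hs, ?_⟩
  haveI : IsAffine V.toScheme := hV
  let g₁ := pullback.snd g V.ι
  have hg₁ : Subtr.UnivSSubtrusive g₁ :=
    (MorphismProperty.universally_isStableUnderBaseChange _).of_isPullback
      (IsPullback.of_hasPullback g V.ι) hg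
  let D₁ := pullDatum D g₁ (pullback.fst g V.ι) V.ι pullback.condition
  haveI : IsSeparated D₁.obj.hom := MorphismProperty.pullback_snd _ _ ‹IsSeparated D.obj.hom›
  haveI : Etale D₁.obj.hom := MorphismProperty.pullback_snd _ _ ‹Etale D.obj.hom›
  obtain ⟨E₁⟩ := exists_eff_of_affine hg₁ D₁
  obtain ⟨E⟩ := exists_eff_of_pullDatum D g₁ (pullback.fst g V.ι) V.ι pullback.condition
    (SubtrLib.univSubmersive_of_univSSubtrusive g₁ hg₁) E₁
  exact ⟨E.pull (𝟙 _) V.ι (by simp)⟩

end Groth.Agent.HTopUltra.SepEff
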