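import Groth.Agent.HTopUltra.Ultra
import Groth.Agent.LimLib.Valuative
import Groth.Agent.LimLib.Model
import Groth.Agent.HTopLib.LimitV
import Mathlib.CategoryTheory.Presentable.Directed
import Mathlib.CategoryTheory.Limits.Connected

/-!
# The valuative lifting property descends along limits of affine schemes
-/

set_option autoImplicit false
set_option linter.style.haveILetI false

universe w u

open CategoryTheory CategoryTheory.Limits AlgebraicGeometry Opposite Groth.Agent.LimLib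

namespace Groth.Agent.HTopUltra

/-- Morphisms from `Spec` to an affine scheme, as ring maps. -/
noncomputable def ofTop {X : Scheme.{u}} [IsAffine X] {R : Type u} [CommRing R] (f : Γ(X, ⊤) →+* R) :
    Spec (CommRingCat.of R) ⟶ X :=
  Spec.map (CommRingCat.ofHom f) ≫ X.isoSpec.inv

theorem exists_ofTop {X : Scheme.{u}} [IsAffine X] {R : Type u} [CommRing R]
    (g : Spec (CommRingCat.of R) ⟶ X) : ∃ f : Γ(X, ⊤) →+* R, ofTop f = g :=
  ⟨(Spec.preimage (g ≫ X.isoSpec.hom)).hom, by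
    rw [ofTop, CommRingCat.ofHom_hom, Spec.map_preimage, Category.assoc, Iso.hom_inv_id, Category.comp_id]⟩

theorem ofTop_comp {X Y : Scheme.{u}} [IsAffine X] [IsAffine Y] {R : Type u} [CommRing R]
    (f : Γ(X, ⊤) →+* R) (m : X ⟶ Y) : ofTop f ≫ m = ofTop (f.comp m.appTop.hom) := by
  rw [ofTop, ofTop, Category.assoc, ← Scheme.isoSpec_inv_naturality, ← Category.assoc, ← Spec.map_comp]
  rfl

theorem map_ofTop {X : Scheme.{u}} [IsAffine X] {R S : Type u} [CommRing R] [CommRing S] (φ : R →+* S)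
    (f : Γ(X, ⊤) →+* R) : Spec.map (CommRingCat.ofHom φ) ≫ ofTop f = ofTop (φ.comp f) := by
  rw [ofTop, ofTop, ← Category.assoc, ← Spec.map_comp]
  rfl

theorem ofTop_injective {X : Scheme.{u}} [IsAffine X] {R : Type u} [CommRing R] {f f' : Γ(X, ⊤) →+* R}
    (h : ofTop f = ofTop f') : f = f' := by
  rw [ofTop, ofTop, cancel_mono] at h
  exact CommRingCat.hom_ext_iff.1 (Spec.map_injective h)

/-- Ring maps defined eventually give one to the ultraproduct. -/
noncomputable def eventualHom {ι : Type u} (F : Ultrafilter ι) {V : ι → Type u} [∀ i, CommRing (V i)]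
    {R : Type u} [CommRing R] {P : ι → Prop} (hP : ∀ᶠ i in (F : Filter ι), P i)
    (f : ∀ i, P i → (R →+* V i)) : R →+* Ultra.Prod F V := by
  classical
  exact
  { toFun := fun r => Ideal.Quotient.mk _ fun i => if h : P i then f i h r else 0
    map_one' := by
      rw [← map_one (Ideal.Quotient.mk (Ultra.nullIdeal F V)), Ultra.mk_eq_mk_iff]
      filter_upwards [hP] with i h
      simp [dif_pos h]
    map_mul' := fun x y => by
      rw [← map_mul (Ideal.Quotient.mk (Ultra.nullIdeal F V)), Ultra.mk_eq_mk_iff]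
      filter_upwards [hP] with i h
      simp [dif_pos h]
    map_zero' := by
      rw [← map_zero (Ideal.Quotient.mk (Ultra.nullIdeal F V)), Ultra.mk_eq_mk_iff]
      filter_upwards [hP] with i h
      simp [dif_pos h]
    map_add' := fun x y => by
      rw [← map_add (Ideal.Quotient.mk (Ultra.nullIdeal F V)), Ultra.mk_eq_mk_iff]
      filter_upwards [hP] with i h
      simp [dif_pos h] }

theorem eventualHom_apply {ι : Type u} {F : Ultrafilter ι} {V : ι → Type u} [∀ i, CommRing (V i)]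
    {R : Type u} [CommRing R] {P : ι → Prop} (hP : ∀ᶠ i in (F : Filter ι), P i)
    (f : ∀ i, P i → (R →+* V i)) (g : ∀ i, V i) (r : R)
    (h : ∀ i (hi : P i), f i hi r = g i) :
    eventualHom F hP f r = Ideal.Quotient.mk _ g := by
  refine (Ultra.mk_eq_mk_iff F V).2 ?_
  filter_upwards [hP] with i hi
  rw [dif_pos hi]
  exact h i hi

/-- A lifting at the limit comes from a stage. -/
theorem exists_stage_hasValLift {I : Type u} [SmallCategory I] [IsCofiltered I] (D : I ⥤ Scheme.{u})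
    [∀ i, IsAffine (D.obj i)] (c : Cone D) (hc : IsLimit c) (i₀ : I) {W₀ : Scheme.{u}} [IsAffine W₀]
    (p : W₀ ⟶ D.obj i₀) [LocallyOfFinitePresentation p] {P : Scheme.{u}} (qY : P ⟶ W₀) (q : P ⟶ c.pt)
    (hq : qY ≫ p = q ≫ c.π.app i₀) (h : HTop.HasValLift (PreZeroHypercover.singleton.{w} q)) :
    ∃ (i : I) (φ : i ⟶ i₀),
      HTop.HasValLift (PreZeroHypercover.singleton.{w} (pullback.snd p (D.map φ))) := by
  classical
  by_contra hno
  have hbad : ∀ (i : I) (φ : i ⟶ i₀), ∃ (V : CommRingCat.{u}) (_ : IsDomain V) (_ : ValuationRing V)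
      (η : Γ(D.obj i, ⊤) →+* V), ∀ (O : Type u) [CommRing O] [IsDomain O] [ValuationRing O]
        (χ : V →+* O) (θ : Γ(W₀, ⊤) →+* O), Function.Injective χ → IsLocalHom χ →
        θ.comp p.appTop.hom ≠ χ.comp (η.comp (D.map φ).appTop.hom) := fun i φ => by
    by_contra hc'
    refine hno ⟨i, φ, fun V _ _ g => ?_⟩
    obtain ⟨η, hη⟩ := exists_ofTop (R := V) g
    by_contra hg
    refine hc' ⟨V, inferInstance, inferInstance, η, fun O _ _ _ χ θ hχ hχl e => hg ?_⟩
    refine ⟨CommRingCat.of O, inferInstanceAs (IsDomain O), inferInstanceAs (ValuationRing O),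
      CommRingCat.ofHom χ, ⟨hχ, hχl⟩, PUnit.unit,
      pullback.lift (ofTop θ) (Spec.map (CommRingCat.ofHom χ) ≫ g) ?_, pullback.lift_snd _ _ _⟩
    rw [ofTop_comp, e, ← hη, map_ofTop, ofTop_comp]
    rfl
  obtain ⟨α, _, _, _, Fα, _⟩ := IsFiltered.exists_directed Iᵒᵖ
  haveI : Fα.leftOp.Initial := Functor.initial_of_final_op _ |> fun h => h
  obtain ⟨b⟩ := (Functor.Final.out (F := Fα) (op i₀)).is_nonempty
  let G := Fα.leftOp ⋙ D
  let cG : Cone G := c.whisker Fα.leftOp
  have hcG : IsLimit cG := (Functor.Initial.isLimitWhiskerEquiv Fα.leftOp c).symm hc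
  let j₀ : α := b.right
  let ι := {a : α // j₀ ≤ a}
  haveI : Nonempty ι := ⟨⟨j₀, le_rfl⟩⟩
  haveI : IsDirectedOrder ι := ⟨fun a a' =>
    (exists_ge_ge a.1 a'.1).elim fun k hk => ⟨⟨k, a.2.trans hk.1⟩, hk.1, hk.2⟩⟩
  let F : Ultrafilter ι := Ultrafilter.of Filter.atTop
  have hF : ∀ ν : α, ∀ᶠ a : ι in (F : Filter ι), ν ≤ a.1 := fun ν => by
    obtain ⟨k, hk₁, hk₂⟩ := exists_ge_ge ν j₀
    refine Ultrafilter.of_le Filter.atTop ?_
    exact (Filter.eventually_ge_atTop (⟨k, hk₂⟩ : ι)).mono fun i hi => hk₁.trans hi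
  let tr : ∀ a : ι, (Fα.obj a.1).unop ⟶ i₀ := fun a => (b.hom ≫ Fα.map (homOfLE a.2)).unop
  choose V hV₁ hV₂ η hη using fun a : ι => hbad _ (tr a)
  -- the point of the limit
  let R : ι → Type u := fun a => V a
  haveI := fun a => hV₁ a
  haveI := fun a => hV₂ a
  let ev : ∀ ν : α, Γ(G.obj (op ν), ⊤) →+* Ultra.Prod F R := fun ν =>
    eventualHom F (hF ν) fun a h => (η a).comp (D.map (Fα.map (homOfLE h)).unop).appTop.hom
  have hev : ∀ {ν μ : α} (h : ν ≤ μ),
      (ev μ).comp (G.map (homOfLE h).op).appTop.hom = ev ν := fun {ν μ} h => RingHom.ext fun r => by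
    refine (Ultra.mk_eq_mk_iff F R).2 ?_
    filter_upwards [hF ν, hF μ] with a ha ha'
    rw [dif_pos ha, dif_pos ha']
    have e : D.map (Fα.map (homOfLE ha')).unop ≫ G.map (homOfLE h).op = D.map (Fα.map (homOfLE ha)).unop := by
      show D.map _ ≫ D.map (Fα.map (homOfLE h)).unop = _
      rw [← D.map_comp, ← unop_comp, ← Fα.map_comp]
      rfl
    rw [← e, Scheme.Hom.comp_appTop]
    rfl
  haveI hGa : ∀ ν, IsAffine (G.obj ν) := fun ν => inferInstanceAs (IsAffine (D.obj _))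
  obtain ⟨dl, hdl⟩ := ValStage.exists_lift_of_eventual G cG hcG j₀ (fun ν _ => ofTop (ev ν))
    fun ν μ _ h => by
      rw [ofTop_comp, hev]
  let η₀ : ∀ a : ι, Γ(D.obj i₀, ⊤) →+* R a := fun a => (η a).comp (D.map (tr a)).appTop.hom
  have hdl₀ : dl ≫ c.π.app i₀ =
      ofTop ((Ideal.Quotient.mk (Ultra.nullIdeal F R)).comp (RingHom.pi η₀)) := by
    have e : c.π.app i₀ = cG.π.app (op j₀) ≫ D.map b.hom.unop := (c.w _).symm
    rw [e, ← Category.assoc, hdl j₀ le_rfl]
    rw [ofTop_comp]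
    congr 1
    refine RingHom.ext fun r => ?_
    refine eventualHom_apply (F := F) (hF j₀) _ _ _ fun a ha => ?_
    show _ = (η a).comp (D.map (tr a)).appTop.hom r
    rw [show tr a = (Fα.map (homOfLE ha)).unop ≫ b.hom.unop from rfl, D.map_comp, Scheme.Hom.comp_appTop]
    rfl
  haveI := isDomain_prod F R
  haveI := valuationRing_prod F R
  obtain ⟨W, hW₁, hW₂, φ, hφ, _j, g₁, hg₁⟩ := h (CommRingCat.of (Ultra.Prod F R)) dl
  obtain ⟨ψ, hψ⟩ := exists_ofTop (R := W) ((show Spec W ⟶ P from g₁) ≫ qY)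
  have hψ' : ψ.comp p.appTop.hom =
      φ.hom.comp ((Ideal.Quotient.mk (Ultra.nullIdeal F R)).comp (RingHom.pi η₀)) := by
    apply ofTop_injective
    rw [← ofTop_comp, hψ, ← map_ofTop, ← hdl₀, CommRingCat.ofHom_hom, Category.assoc, hq]
    have hg'' : (show Spec W ⟶ P from g₁) ≫ q = Spec.map φ ≫ dl := hg₁
    exact (Category.assoc _ _ _).symm.trans ((congrArg (· ≫ c.π.app i₀) hg'').trans (Category.assoc _ _ _))
  haveI := hφ.2
  obtain ⟨a, O, _, _, _, χ, θ, hχ, hχl, hθ⟩ := (exists_lift_of_prod F R p.appTop.hom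
    p.finitePresentation_appTop η₀ φ.hom hφ.1 ψ hψ').exists
  exact hη a O χ θ hχ hχl hθ

end Groth.Agent.HTopUltra
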