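import Groth.Agent.HTopUltra.Lift
import Groth.Agent.LimLib.Ultra

/-!
# Valuative lifts and ultraproducts

If a point with values in an ultraproduct of valuation rings lifts to a finitely presented algebra after an
extension of valuation rings, then so does almost every one of the points.
-/

set_option autoImplicit false
set_option linter.style.haveILetI false

universe u

open Polynomial IsLocalRing Groth.Agent.LimLib

namespace Groth.Agent.HTopUltra

variable {ι : Type u} (F : Ultrafilter ι)

theorem isDomain_prod (V : ι → Type u) [∀ i, CommRing (V i)] [∀ i, IsDomain (V i)] :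
    IsDomain (Ultra.Prod F V) :=
  (Ultra.map_injective F (φ := fun i => algebraMap (V i) (FractionRing (V i)))
    fun i => IsFractionRing.injective (V i) (FractionRing (V i))).isDomain _

theorem valuationRing_prod (V : ι → Type u) [∀ i, CommRing (V i)] [∀ i, IsDomain (V i)]
    [∀ i, ValuationRing (V i)] [IsDomain (Ultra.Prod F V)] : ValuationRing (Ultra.Prod F V) := by
  classical
  refine { cond' := fun x y => ?_ }
  obtain ⟨f, rfl⟩ := Ideal.Quotient.mk_surjective x
  obtain ⟨g, rfl⟩ := Ideal.Quotient.mk_surjective y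
  rcases Ultrafilter.em F (fun i => ∃ c, f i * c = g i) with h | h
  · refine ⟨Ideal.Quotient.mk _ fun i => if hi : ∃ c, f i * c = g i then hi.choose else 0, Or.inl ?_⟩
    rw [← map_mul, Ultra.mk_eq_mk_iff]
    filter_upwards [h] with i hi
    simp only [Pi.mul_apply, dif_pos hi]
    exact hi.choose_spec
  · have h' : ∀ᶠ i in (F : Filter ι), ∃ c, g i * c = f i := by
      filter_upwards [h] with i hi
      obtain ⟨c, hc | hc⟩ := ValuationRing.cond (f i) (g i)
      · exact absurd ⟨c, hc⟩ hi
      · exact ⟨c, hc⟩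
    refine ⟨Ideal.Quotient.mk _ fun i => if hi : ∃ c, g i * c = f i then hi.choose else 0, Or.inr ?_⟩
    rw [← map_mul, Ultra.mk_eq_mk_iff]
    filter_upwards [h'] with i hi
    simp only [Pi.mul_apply, dif_pos hi]
    exact hi.choose_spec

theorem isAlgClosed_prod (Ω : ι → Type u) [∀ i, Field (Ω i)] [∀ i, IsAlgClosed (Ω i)] :
    IsAlgClosed (Ultra.Prod F Ω) := by
  refine IsAlgClosed.of_exists_root _ fun p hp hirr => ?_
  obtain ⟨Q, hQ, hdeg, hQm⟩ := Polynomial.lifts_and_degree_eq_and_monic
    ((Polynomial.lifts_iff_coeff_lifts (f := Ideal.Quotient.mk (Ultra.nullIdeal F Ω)) p).2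
      fun n => Ideal.Quotient.mk_surjective _) hp
  have hd : ∀ i, (Q.map (Pi.evalRingHom Ω i)).degree ≠ 0 := fun i => by
    rw [hQm.degree_map, hdeg]
    exact fun h => absurd h hirr.degree_pos.ne'
  choose z hz using fun i => IsAlgClosed.exists_root _ (hd i)
  refine ⟨Ideal.Quotient.mk _ z, ?_⟩
  rw [← hQ, Polynomial.eval_map, Polynomial.eval₂_at_apply]
  have : Q.eval z = 0 := funext fun i => by
    have h := hz i
    rw [Polynomial.IsRoot, Polynomial.eval_map,
      show z i = Pi.evalRingHom Ω i z from rfl, Polynomial.eval₂_at_apply] at h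
    exact h
  rw [this, map_zero]

/-- Los's theorem for valuative lifts. -/
theorem exists_lift_of_prod (V : ι → Type u) [∀ i, CommRing (V i)] [∀ i, IsDomain (V i)]
    [∀ i, ValuationRing (V i)] {R B : Type u} [CommRing R] [CommRing B] (τ : R →+* B)
    (hτ : τ.FinitePresentation) (η : ∀ i, R →+* V i) {W : Type u} [CommRing W] [IsDomain W]
    [ValuationRing W] (φ : Ultra.Prod F V →+* W) (hφ : Function.Injective φ) [IsLocalHom φ]
    (ψ : B →+* W)
    (h : ψ.comp τ = φ.comp ((Ideal.Quotient.mk (Ultra.nullIdeal F V)).comp (RingHom.pi η))) :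
    ∀ᶠ i in (F : Filter ι), ∃ (O : Type u) (_ : CommRing O) (_ : IsDomain O) (_ : ValuationRing O)
      (φ' : V i →+* O) (θ : B →+* O),
      Function.Injective φ' ∧ IsLocalHom φ' ∧ θ.comp τ = φ'.comp (η i) := by
  classical
  haveI := isDomain_prod F V
  haveI := valuationRing_prod F V
  let Ω : ι → Type u := fun i => AlgebraicClosure (FractionRing (V i))
  let κ : ∀ i, V i →+* Ω i := fun i =>
    (algebraMap (FractionRing (V i)) (AlgebraicClosure (FractionRing (V i)))).comp
      (algebraMap (V i) (FractionRing (V i)))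
  have hκ : ∀ i, Function.Injective (κ i) := fun i =>
    (algebraMap (FractionRing (V i)) (AlgebraicClosure (FractionRing (V i)))).injective.comp
      (IsFractionRing.injective (V i) (FractionRing (V i)))
  choose O hO hOl using fun i => IsLocalRing.exists_factor_valuationRing (R := V i) (K := Ω i) (κ i)
  haveI : IsAlgClosed (Ultra.Prod F Ω) := isAlgClosed_prod F Ω
  let OP : ValuationSubring (Ultra.Prod F Ω) := Ultra.valuationSubring F Ω (W := fun i => O i)
  let κP : Ultra.Prod F V →+* Ultra.Prod F Ω := Ultra.map F κ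
  let κO : ∀ i, V i →+* O i := fun i => (κ i).codRestrict (O i).toSubring (hO i)
  have hmem : ∀ a, κP a ∈ OP := fun a => by
    obtain ⟨f, rfl⟩ := Ideal.Quotient.mk_surjective a
    exact ⟨Ideal.Quotient.mk _ fun i => κO i (f i), rfl⟩
  have hlt : ∀ a, ¬ IsUnit a → OP.valuation (κP a) < 1 := fun a ha => by
    refine (OP.valuation_lt_one_iff ⟨κP a, hmem a⟩).1 ?_
    rw [IsLocalRing.mem_maximalIdeal, mem_nonunits_iff]
    intro hu
    refine ha ?_
    obtain ⟨⟨b, w, hw⟩, hb⟩ := isUnit_iff_exists_inv.1 hu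
    obtain ⟨f, rfl⟩ := Ideal.Quotient.mk_surjective a
    obtain ⟨w, rfl⟩ := Ideal.Quotient.mk_surjective w
    have hb' : κP (Ideal.Quotient.mk _ f) * b = 1 := congrArg Subtype.val hb
    rw [← hw, show κP (Ideal.Quotient.mk _ f) = Ideal.Quotient.mk _ fun i => κ i (f i) from rfl,
      show (Ultra.map F fun i => algebraMap (O i) (Ω i)) (Ideal.Quotient.mk _ w) =
        Ideal.Quotient.mk _ fun i => algebraMap (O i) (Ω i) (w i) from rfl, ← map_mul, ← map_one (Ideal.Quotient.mk (Ultra.nullIdeal F Ω)), Ultra.mk_eq_mk_iff] at hb'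
    refine isUnit_iff_exists_inv.2 ⟨Ideal.Quotient.mk _ fun i => Ring.inverse (f i), ?_⟩
    rw [← map_mul, ← map_one (Ideal.Quotient.mk (Ultra.nullIdeal F V)), Ultra.mk_eq_mk_iff]
    filter_upwards [hb'] with i hi
    refine Ring.mul_inverse_cancel _ ((hOl i).map_nonunit _ (isUnit_iff_exists_inv.2 ⟨w i, ?_⟩))
    exact Subtype.ext hi
  obtain ⟨θ, hθO, hθ⟩ := exists_ringHom_into κP (Ultra.map_injective F hκ) OP hmem hlt
    ((Ideal.Quotient.mk (Ultra.nullIdeal F V)).comp (RingHom.pi η)) τ
    (RingHom.FiniteType.of_finitePresentation hτ) φ hφ ψ h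
  letI := τ.toAlgebra
  haveI : Algebra.FinitePresentation R B := hτ
  obtain ⟨n, f, hfs, t, ht⟩ := (inferInstance : Algebra.FinitePresentation R B).out
  choose x hx using fun k => Ideal.Quotient.mk_surjective (θ (f (MvPolynomial.X k)))
  let e : ∀ i, MvPolynomial (Fin n) R →+* Ω i := fun i =>
    MvPolynomial.eval₂Hom ((κ i).comp (η i)) fun k => x k i
  have heq : θ.comp f.toRingHom = (Ideal.Quotient.mk (Ultra.nullIdeal F Ω)).comp (RingHom.pi e) := by
    refine MvPolynomial.ringHom_ext (fun r => ?_) fun k => ?_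
    · show θ (f (MvPolynomial.C r)) = Ideal.Quotient.mk _ fun i => e i (MvPolynomial.C r)
      rw [← MvPolynomial.algebraMap_eq, f.commutes, show θ (algebraMap R B r) = _ from RingHom.congr_fun hθ r]
      simp [e, κP]
    · show θ (f (MvPolynomial.X k)) = Ideal.Quotient.mk _ fun i => e i (MvPolynomial.X k)
      rw [← hx k]
      simp [e]
  have h1 : ∀ᶠ i in (F : Filter ι), ∀ k, x k i ∈ O i := Filter.eventually_all.2 fun k => by
    filter_upwards [Ultra.mem_valuationSubring F Ω (W := fun i => O i) (a := x k)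
      (by rw [hx]; exact hθO _)] with i ⟨w, hw⟩
    exact hw ▸ w.2
  have h2 : ∀ᶠ i in (F : Filter ι), ∀ r ∈ t, e i r = 0 := (Filter.eventually_all_finset t).2 fun r hr => by
    have hr0 : θ.comp f.toRingHom r = 0 := by
      show θ (f r) = 0
      rw [show f r = 0 from ht.le (Ideal.subset_span hr), map_zero]
    rw [heq, RingHom.comp_apply, ← map_zero (Ideal.Quotient.mk (Ultra.nullIdeal F Ω)), Ultra.mk_eq_mk_iff] at hr0
    exact hr0
  filter_upwards [h1, h2] with i hx' hr
  let e' : MvPolynomial (Fin n) R →+* O i := MvPolynomial.eval₂Hom ((κO i).comp (η i)) fun k => ⟨x k i, hx' k⟩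
  have he' : (O i).subtype.comp e' = e i := by
    refine MvPolynomial.ringHom_ext (fun r => ?_) fun k => ?_
    · simp [e, e']
      rfl
    · simp [e, e']
  have hker : RingHom.ker f.toRingHom ≤ RingHom.ker e' := by
    rw [← ht, Ideal.span_le]
    intro r hr'
    refine Subtype.ext ?_
    exact (RingHom.congr_fun he' r).trans (hr r hr')
  refine ⟨O i, inferInstance, inferInstance, inferInstance, κO i,
    RingHom.liftOfSurjective f.toRingHom hfs ⟨e', hker⟩, ?_, hOl i, RingHom.ext fun r => ?_⟩
  · exact fun a b hab => hκ i (congrArg Subtype.val hab)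
  · have hc : f.toRingHom (MvPolynomial.C r) = τ r := by
      rw [← MvPolynomial.algebraMap_eq]
      exact f.commutes r
    show RingHom.liftOfSurjective f.toRingHom hfs ⟨e', hker⟩ (τ r) = κO i (η i r)
    rw [← hc, RingHom.liftOfRightInverse_comp_apply]
    simp [e']

end Groth.Agent.HTopUltra
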